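import Mathlib

/-!
Three congruences of Sylow type that have no solution: they exclude the small exceptional codimensions.
-/

namespace CfsgLib.SingerOver

/-- A test at all products of the listed prime powers with smaller exponents. -/
def chkAll (P : ℕ → Bool) : List (ℕ × ℕ) → ℕ → Bool
  | [], acc => P acc
  | (q, k) :: l, acc => (List.range (k + 1)).all fun i => chkAll P l (acc * q ^ i)

theorem chkAll_spec (P : ℕ → Bool) : ∀ (l : List (ℕ × ℕ)) (acc : ℕ), (∀ qk ∈ l, qk.1.Prime) →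
    chkAll P l acc = true → ∀ d, d ∣ (l.map fun qk => qk.1 ^ qk.2).prod → P (acc * d) = true
  | [], acc, _, h, d, hd => by
    rw [List.map_nil, List.prod_nil, Nat.dvd_one] at hd
    simpa [chkAll, hd] using h
  | (q, k) :: l, acc, hl, h, d, hd => by
    rw [List.map_cons, List.prod_cons] at hd
    obtain ⟨a, b, ha, hb, rfl⟩ := Nat.dvd_mul.1 hd
    obtain ⟨i, hi, rfl⟩ := (Nat.dvd_prime_pow (hl (q, k) (List.mem_cons_self ..))).1 ha
    simp only [chkAll, List.all_eq_true, List.mem_range] at h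
    rw [← mul_assoc]
    exact chkAll_spec P l _ (fun x hx => hl x (List.mem_cons_of_mem _ hx)) (h i (by omega)) b hb

/-- A congruence `c * m ≡ k` with `k ∈ {1, n}` fails for the `m` dividing a power of two times the listed product
as soon as it fails for the `n`th powers of the listed divisors. -/
theorem no_sylow_count {n c m a k : ℕ} (l : List (ℕ × ℕ)) (hl : ∀ qk ∈ l, qk.1.Prime)
    (hm : m ∣ 2 ^ a * (l.map fun qk => qk.1 ^ qk.2).prod) (hk : k = 1 ∨ k = n)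
    (hchk : chkAll (fun d => ((c * d) ^ n) % (2 ^ n - 1) != 1 % (2 ^ n - 1) &&
      ((c * d) ^ n) % (2 ^ n - 1) != n ^ n % (2 ^ n - 1)) l 1 = true)
    (h : c * m ≡ k [MOD 2 ^ n - 1]) : False := by
  obtain ⟨b, d, hb, hd, rfl⟩ := Nat.dvd_mul.1 hm
  obtain ⟨i, -, rfl⟩ := (Nat.dvd_prime_pow Nat.prime_two).1 hb
  have h2 : 2 ^ n ≡ 1 [MOD 2 ^ n - 1] := ((Nat.modEq_iff_dvd' Nat.one_le_two_pow).2 dvd_rfl).symm
  have h3 : (c * (2 ^ i * d)) ^ n ≡ (c * d) ^ n [MOD 2 ^ n - 1] := by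
    have e : (c * (2 ^ i * d)) ^ n = (2 ^ n) ^ i * (c * d) ^ n := by
      rw [← pow_mul 2 n i, mul_comm n i, pow_mul, ← mul_pow]; ring_nf
    rw [e]
    simpa using (h2.pow i).mul_right ((c * d) ^ n)
  have h4 := h3.symm.trans (h.pow n)
  have h56 := chkAll_spec _ l 1 hl hchk d hd
  simp only [one_mul, Bool.and_eq_true, bne_iff_ne, ne_eq] at h56
  obtain ⟨h5, h6⟩ := h56
  rcases hk with rfl | rfl
  · rw [one_pow] at h4
    exact h5 h4
  · exact h6 h4

theorem no_count_five {m a k : ℕ} (hm : m ∣ 2 ^ a * 3) (hk : k = 1 ∨ k = 5)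
    (h : (2 ^ 4 - 1) * m ≡ k [MOD 2 ^ 5 - 1]) : False :=
  no_sylow_count (n := 5) [(3, 1)] (by simp; norm_num) (by simpa using hm) hk (by decide +kernel) h

theorem no_count_thirteen {m a k : ℕ} (hm : m ∣ 2 ^ a * (3 ^ 6 * 5 ^ 2 * 7 ^ 3 * 31 ^ 2)) (hk : k = 1 ∨ k = 13)
    (h : (2 ^ 12 - 1) * m ≡ k [MOD 2 ^ 13 - 1]) : False :=
  no_sylow_count (n := 13) [(3, 6), (5, 2), (7, 3), (31, 2)] (by simp; norm_num)
    (by simpa [mul_assoc] using hm) hk (by decide +kernel) h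

theorem no_count_seventeen {m a k : ℕ}
    (hm : m ∣ 2 ^ a * (3 ^ 9 * 5 ^ 3 * 7 ^ 5 * 17 * 31 ^ 2 * 73 * 127)) (hk : k = 1 ∨ k = 17)
    (h : (2 ^ 16 - 1) * m ≡ k [MOD 2 ^ 17 - 1]) : False :=
  no_sylow_count (n := 17) [(3, 9), (5, 3), (7, 5), (17, 1), (31, 2), (73, 1), (127, 1)] (by simp; norm_num)
    (by simpa [mul_assoc] using hm) hk (by decide +kernel) h

end CfsgLib.SingerOver
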