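import Cfsg.Agent.Lib.SingerOver.Kernel

/-!
Without transvections and in prime dimension, the subspace of a line has codimension one or six.
-/

set_option linter.style.haveILetI false

namespace CfsgLib.SingerOver

open MulAction Module

variable {V : Type*} [AddCommGroup V] [Module F2 V] {G : Subgroup (V ≃ₗ[F2] V)} [Finite V]
  (hG : Setup G) (hT : NoTrans G) (hn : 5 ≤ finrank F2 V) (hnp : (finrank F2 V).Prime)

theorem card_submodule_sdiff_zero [Fintype V] [DecidableEq V] (U : Submodule F2 V) [DecidablePred (· ∈ U)] :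
    (Finset.univ.filter fun v : V => v ∈ U ∧ v ≠ 0).card = 2 ^ finrank F2 U - 1 := by
  haveI : Module.Finite F2 V := Module.Finite.of_finite
  have : (Finset.univ.filter fun v : V => v ∈ U ∧ v ≠ 0) = (Finset.univ.filter fun v : V => v ∈ U).erase 0 := by
    ext v; simp [and_comm]
  rw [this, Finset.card_erase_of_mem (by simp), ← Fintype.card_subtype, ← Nat.card_eq_fintype_card]
  congr 1
  exact (natCard_eq_pow_finrank (K := F2) (V := U)).trans (by rw [Nat.card_zmod])

theorem count_bound {P Q : ℕ} (hQ : 4 ≤ Q) (hPQ : 4 * Q ≤ P) :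
    ¬ (P * P - 1 - (Q - 1) * (P - 1)) * (Q - 1) * 2 ≤ (P - 1) * (P * Q - 2) := by
  intro h
  obtain ⟨q, rfl⟩ : ∃ q, Q = q + 4 := ⟨Q - 4, by omega⟩
  obtain ⟨p, rfl⟩ : ∃ p, P = p + 4 * (q + 4) := ⟨P - 4 * (q + 4), by omega⟩
  set P := p + 4 * (q + 4) with hP
  have h1 : q + 4 - 1 = q + 3 := by omega
  rw [h1] at h
  have h2 : (q + 3) * (P - 1) ≤ P * P - 1 := by
    have : (q + 3) * (P - 1) ≤ P * (P - 1) := Nat.mul_le_mul_right _ (by omega)
    have h3 : P * (P - 1) ≤ P * P - 1 := by rw [Nat.mul_sub, mul_one]; omega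
    omega
  have hPP : 1 ≤ P * P := Nat.one_le_iff_ne_zero.2 (by positivity)
  have hPQ2 : 2 ≤ P * (q + 4) := by nlinarith
  zify [h2, hPP, hPQ2, show 1 ≤ P by omega] at h
  have hp0 : (0 : ℤ) ≤ p := by positivity
  have hq0 : (0 : ℤ) ≤ q := by positivity
  have hP' : (P : ℤ) = p + 4 * (q + 4) := by push_cast [hP]; ring
  rw [hP'] at h
  nlinarith [mul_nonneg hp0 hq0, mul_nonneg hp0 hp0, mul_nonneg hq0 hq0, mul_nonneg (mul_nonneg hp0 hp0) hq0,
    mul_nonneg (mul_nonneg hp0 hq0) hq0, mul_nonneg (mul_nonneg hq0 hq0) hq0]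

include hG hT hn hnp

theorem codim_false {μ : V →ₗ[F2] Module.End F2 V} (hμ : Mult G μ) {x y : V} (hx : x ≠ 0) (hy : y ≠ 0)
    (hxy : x ≠ y) (hf : finrank F2 (dee G x y) + 2 ≤ finrank F2 V)
    (h6 : finrank F2 V - finrank F2 (dee G x y) ≠ 6) : False := by
  classical
  haveI : Module.Finite F2 V := Module.Finite.of_finite
  haveI := Fintype.ofFinite V
  have hn3 : 3 ≤ finrank F2 V := by omega
  set n := finrank F2 V with hndef
  set f := finrank F2 (dee G x y) with hfdef
  set e := n - f with he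
  have hconst : ∀ {a b : V}, a ≠ 0 → b ≠ 0 → a ≠ b → finrank F2 (dee G a b) = f := fun ha hb hab =>
    finrank_dee_eq hG ha hb hab hx hy hxy
  have hf2 : 2 ≤ f := two_le_finrank (left_mem_dee x y) (right_mem_dee x y) hx hy hxy
  have h3e : n ≤ 3 * e := le_three_mul_codim hG hn3 hμ hx hy hxy hf
  obtain ⟨ℓ, hℓ⟩ := CfsgLib.NumberTheory.exists_isPPD (a := 2) (n := e) (by omega) (by omega)
    (fun h => h6 h.2) (by
      rintro ⟨-, m, hm⟩
      rcases m with _ | _ | m
      · simp at hm
      · simp at hm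
      · simp only [pow_succ] at hm; omega)
  haveI : Fact ℓ.Prime := ⟨hℓ.1⟩
  have hℓe : orderOf (2 : ZMod ℓ) = e := by
    have := hℓ.orderOf_eq (by omega) (by omega)
    simpa using this
  have hℓ2 : ℓ ≠ 2 := fun h => hℓ.not_dvd_base (by omega) (by omega) (h ▸ dvd_rfl)
  obtain ⟨R, hR⟩ := exists_isSyl (G := G) (ℓ := ℓ) x y
  have hFD : ∀ a b : V, a ∈ fix R → b ∈ fix R → a ≠ 0 → b ≠ 0 → a ≠ b → fix R ≤ dee G a b := by
    intro a b ha hb ha0 hb0 hab
    exact fix_le_dee hG hn3 hℓ2 ha0 hb0 hab (by rw [hconst ha0 hb0 hab]; exact hℓ.2.1)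
      (isSyl_of_fixed hG hx hy hxy ha0 hb0 hab hR ha hb)
  have hxF : x ∈ fix R := fun r hr => (mem_two2.1 (hR.1 hr)).2.1
  have hyF : y ∈ fix R := fun r hr => (mem_two2.1 (hR.1 hr)).2.2
  have hodd := odd_card_of_isPGroup hℓ2 hR.2.1
  have hcompl := isCompl_fix_moved hodd
  have hRW : R ≤ stabSub (moved R) := fun r hr => normalises_moved (le_normalizer_self R hr)
  have hdim := finrank_fix_add_moved hodd
  have hgf : finrank F2 (fix R) ≤ f := Submodule.finrank_mono (hFD x y hxF hyF hx hy hxy)
  have hg2 := two_le_finrank hxF hyF hx hy hxy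
  have hed := orderOf_dvd_finrank hR.2.1 hRW fun v hv hv' => Submodule.disjoint_def.1 hcompl.disjoint v hv' hv
  rw [hℓe] at hed
  set g := finrank F2 (fix R) with hgdef
  obtain ⟨k, hk⟩ := hed
  have hk12 : k = 1 ∨ k = 2 := by
    rcases k with _ | _ | _ | k
    · omega
    · exact Or.inl rfl
    · exact Or.inr rfl
    · nlinarith
  have hecop : Nat.Coprime g e := by
    have h1 : Nat.gcd g e ∣ n := by
      rw [hndef, ← hdim, hk]
      exact dvd_add (Nat.gcd_dvd_left _ _) ((Nat.gcd_dvd_right _ _).trans (dvd_mul_right _ _))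
    rcases (Nat.dvd_prime hnp).1 h1 with h | h
    · exact h
    · have := Nat.le_of_dvd (by omega) (Nat.gcd_dvd_right g e)
      omega
  have hnodd : Odd n := hnp.odd_of_ne_two (by omega)
  rcases Nat.lt_or_ge g 3 with hg3 | hg3
  · -- the fixed space is the line
    rcases hk12 with rfl | rfl
    · refine fix_ne_line hG hT hℓ2 hx hy hxy hR ?_ (by rw [hk, hℓe, mul_one]) (by omega)
      rw [hℓe]
      obtain ⟨m, hm⟩ := hnodd
      exact ⟨m - 1, by omega⟩
    · obtain ⟨m, hm⟩ := hnodd
      omega
  obtain ⟨hmove, hstab⟩ := exists_kernel_maps hG hT hℓ2 hx hy hxy hR hg3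
    (by rw [hℓe, hk]; rcases hk12 with rfl | rfl <;> omega) (by
      rintro m hm0 hem hle
      rw [hℓe] at hem
      obtain ⟨j, rfl⟩ := hem
      rw [hk] at hle
      have hjk : j ≤ k := Nat.le_of_mul_le_mul_left hle (by omega)
      refine Nat.Coprime.mul_right hecop ?_
      rcases j with _ | _ | j
      · simp at hm0
      · exact Nat.coprime_one_right g
      · obtain rfl : k = 2 := by omega
        obtain rfl : j = 0 := by omega
        refine Nat.coprime_two_right.2 ?_
        rw [hk] at hdim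
        obtain ⟨i, hi⟩ := hnodd
        exact ⟨i - e, by omega⟩)
  -- lines from a fixed vector to a moved one
  have hFW : ∀ v, v ∈ fix R → v ∈ moved R → v = 0 := Submodule.disjoint_def.1 hcompl.disjoint
  have hsplit : ∀ a z : V, a ∈ fix R → a ≠ 0 → z ∈ moved R → z ≠ 0 →
      (∀ c ∈ fix R, c ≠ 0 → a ≠ c → z ∉ dee G a c) →
      f ≤ finrank F2 (dee G a z ⊓ moved R : Submodule F2 V) + 1 ∧
        ∀ t ∈ dee G a z, t ∈ moved R → t ≠ 0 → t ≠ z → fix R ≤ dee G z t := by
    intro a z ha ha0 hz hz0 hbad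
    have haz : a ≠ z := fun h => ha0 (hFW a ha (h ▸ hz))
    have hS : ∀ c ∈ fix R, c ∈ dee G a z → c = 0 ∨ c = a := by
      intro c hc hcd
      by_contra hne
      push Not at hne
      have hr : Rel G a c z := ⟨ha0, hne.1, Ne.symm hne.2, hbad c hc hne.1 (Ne.symm hne.2)⟩
      exact (rel_swap_right hG hn3 hr).2.2.2 hcd
    have htot : ∀ v ∈ dee G a z, total R v = 0 ∨ total R v = a := by
      intro v hv
      by_contra hne
      push Not at hne
      obtain ⟨m, hmG, hma, hmW, hmF, hmc, hmca⟩ :=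
        hstab a (total R v) ha (total_mem_fix R v) ha0 hne.1 (Ne.symm hne.2)
      have h1 : m v ∈ dee G a z := by
        have := (dee_map hmG (x := a) (y := z) (v := v)).2 hv
        rwa [hma, hmW z hz] at this
      have hv' : v = total R v + (v + total R v) := by rw [add_left_comm, add_self_f2, add_zero]
      have h2 : m v + v = m (total R v) + total R v := by
        calc m v + v = (m (total R v) + (v + total R v)) + v := by
              conv_lhs => arg 1; rw [hv', map_add m, hmW _ (add_total_mem_moved hodd v)]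
          _ = m (total R v) + total R v + (v + v) := by abel
          _ = m (total R v) + total R v := by rw [add_self_f2, add_zero]
      rcases hS _ (add_mem hmF (total_mem_fix R v)) (h2 ▸ add_mem h1 hv) with h | h
      · exact hmc ((eq_add_of_add_eq h).trans (add_zero _)).symm
      · exact hmca (by rw [← h, add_assoc, add_self_f2, add_zero])
    constructor
    · have hle : dee G a z ≤ Submodule.span F2 {a} ⊔ (dee G a z ⊓ moved R) := by
        intro v hv
        have hv' : v = total R v + (v + total R v) := by rw [add_left_comm, add_self_f2, add_zero]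
        have hta : total R v ∈ Submodule.span F2 {a} ∧ total R v ∈ dee G a z := by
          rcases htot v hv with h | h <;> rw [h]
          · exact ⟨zero_mem _, zero_mem _⟩
          · exact ⟨Submodule.mem_span_singleton_self a, left_mem_dee a z⟩
        rw [hv']
        exact Submodule.add_mem_sup hta.1 ⟨add_mem hv hta.2, add_total_mem_moved hodd v⟩
      have h1 := (Submodule.finrank_mono hle).trans (Submodule.finrank_add_le_finrank_add_finrank _ _)
      rw [finrank_span_singleton ha0, hconst ha0 hz0 haz] at h1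
      omega
    · intro t ht htW ht0 htz b hb
      rcases eq_or_ne b 0 with rfl | hb0
      · exact zero_mem _
      have h1 : a ∈ dee G z t := by
        by_contra h
        have r1 : Rel G z t a := ⟨hz0, ht0, Ne.symm htz, h⟩
        have r2 := rel_swap_right hG hn3 r1
        have r3 := rel_swap_left hG hn3 r2 (by rw [hconst r2.1 r2.2.1 r2.2.2.1]; exact hf)
        exact r3.2.2.2 ht
      obtain ⟨m, hmG, hmab, hmW⟩ := hmove a b ha hb ha0 hb0
      have := (dee_map hmG (x := z) (y := t) (v := a)).2 h1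
      rwa [hmab, hmW z hz, hmW t htW] at this
  rcases hk12 with rfl | rfl
  · -- one constituent
    have hgf' : g = f := by omega
    haveI : Nontrivial (moved R) := Module.nontrivial_of_finrank_pos (R := F2) (by omega)
    obtain ⟨⟨z, hz⟩, hzne⟩ := exists_ne (0 : moved R)
    have hz0 : z ≠ 0 := fun h => hzne (Subtype.ext h)
    have hFeq : ∀ a b : V, a ∈ fix R → b ∈ fix R → a ≠ 0 → b ≠ 0 → a ≠ b → dee G a b = fix R :=
      fun a b ha hb ha0 hb0 hab => (Submodule.eq_of_le_of_finrank_le (hFD a b ha hb ha0 hb0 hab)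
        (by rw [hconst ha0 hb0 hab]; omega)).symm
    obtain ⟨hT1, hT2⟩ := hsplit x z hxF hx hz hz0 fun c hc hc0 hxc h =>
      hz0 (hFW z (hFeq x c hxF hc hx hc0 hxc ▸ h) hz)
    obtain ⟨t, ⟨ht, htW⟩, ht0, htz⟩ : ∃ t ∈ dee G x z ⊓ moved R, t ≠ 0 ∧ t ≠ z := by
      by_contra hno
      push Not at hno
      have hle : dee G x z ⊓ moved R ≤ Submodule.span F2 {z} := fun t ht => by
        rcases eq_or_ne t 0 with rfl | ht0
        · exact zero_mem _
        · rw [hno t ht ht0]; exact Submodule.mem_span_singleton_self z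
      have := Submodule.finrank_mono hle
      rw [finrank_span_singleton hz0] at this
      omega
    have hF := hT2 t ht htW ht0 htz
    have heq : fix R = dee G z t := Submodule.eq_of_le_of_finrank_le hF
      (by rw [hconst hz0 ht0 (Ne.symm htz)]; omega)
    exact hz0 (hFW z (heq ▸ left_mem_dee z t) hz)
  · -- two constituents: count pairs
    have hn2 : n = g + 2 * e := by omega
    have hfge : f = g + e := by omega
    have hge : g < e := by
      rcases Nat.lt_or_ge g e with h | h
      · exact h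
      · have : g = e := by omega
        rw [this] at hecop
        have : e = 1 := (Nat.gcd_self e).symm.trans hecop
        omega
    set π := dee G x y ⊓ moved R with hπ
    have hπdim : ∀ a b : V, a ∈ fix R → b ∈ fix R → a ≠ 0 → b ≠ 0 → a ≠ b →
        finrank F2 (dee G a b ⊓ moved R : Submodule F2 V) = e := by
      intro a b ha hb ha0 hb0 hab
      have hFd := hFD a b ha hb ha0 hb0 hab
      have hsup : fix R ⊔ (dee G a b ⊓ moved R) = dee G a b := by
        rw [inf_comm, ← sup_inf_assoc_of_le (moved R) hFd, hcompl.codisjoint.eq_top, top_inf_eq]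
      have hinf : fix R ⊓ (dee G a b ⊓ moved R) = ⊥ :=
        (Submodule.eq_bot_iff _).2 fun v hv => hFW v hv.1 hv.2.2
      have := Submodule.finrank_sup_add_finrank_inf_eq (fix R) (dee G a b ⊓ moved R)
      rw [hsup, hinf, finrank_bot, hconst ha0 hb0 hab] at this
      omega
    obtain ⟨φ, hφ⟩ := exists_fun_one hx
    set Cs : Finset V := Finset.univ.filter fun c => c ∈ fix R ⊓ LinearMap.ker φ ∧ c ≠ 0 with hCs
    set Bad : Finset V := Cs.biUnion fun c => Finset.univ.filter fun v => v ∈ dee G x c ⊓ moved R ∧ v ≠ 0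
      with hBad
    set W0 : Finset V := Finset.univ.filter fun v => v ∈ moved R ∧ v ≠ 0 with hW0
    have hW0c : W0.card = 2 ^ e * 2 ^ e - 1 := by
      rw [hW0, card_submodule_sdiff_zero, hk, ← pow_add]
      congr 2
      omega
    have hker : finrank F2 (fix R ⊓ LinearMap.ker φ : Submodule F2 V) ≤ g - 1 := by
      have : fix R ⊓ LinearMap.ker φ < fix R := by
        refine lt_of_le_of_ne inf_le_left fun h => ?_
        have := (h.ge hxF).2
        rw [SetLike.mem_coe, LinearMap.mem_ker, hφ] at this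
        exact one_ne_zero this
      have := Submodule.finrank_lt_finrank_of_lt this
      omega
    have hBadc : Bad.card ≤ (2 ^ (g - 1) - 1) * (2 ^ e - 1) := by
      refine (Finset.card_biUnion_le_card_mul _ _ (2 ^ e - 1) fun c hc => ?_).trans (Nat.mul_le_mul_right _ ?_)
      · rw [hCs, Finset.mem_filter] at hc
        rw [card_submodule_sdiff_zero, hπdim x c hxF hc.2.1.1 hx hc.2.2 ?_]
        intro h
        have := hc.2.1.2
        rw [SetLike.mem_coe, LinearMap.mem_ker, ← h, hφ] at this
        exact one_ne_zero this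
      · rw [hCs, card_submodule_sdiff_zero]
        exact Nat.sub_le_sub_right (Nat.pow_le_pow_right two_pos hker) _
    set Z := W0 \ Bad with hZ
    have hgood : ∀ z ∈ Z, ∀ c ∈ fix R, c ≠ 0 → x ≠ c → z ∉ dee G x c := by
      intro z hz c hc hc0 hxc hzd
      rw [hZ, Finset.mem_sdiff, hW0, Finset.mem_filter] at hz
      apply hz.2
      rw [hBad, Finset.mem_biUnion]
      rcases f2_cases (φ c) with h | h
      · exact ⟨c, by simp [hCs, hc, h, hc0], by simp [hzd, hz.1.2.1, hz.1.2.2]⟩
      · refine ⟨x + c, ?_, by simp [dee_add, hzd, hz.1.2.1, hz.1.2.2]⟩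
        simp only [hCs, Finset.mem_filter, Finset.mem_univ, true_and, Submodule.mem_inf, LinearMap.mem_ker]
        exact ⟨⟨add_mem hxF hc, by rw [map_add, hφ, h]; decide⟩, add_ne_zero_of_ne hxc⟩
    set T : Finset V := Finset.univ.filter fun v => v ∈ π ∧ v ≠ 0 with hT'
    have hTc : T.card = 2 ^ e - 1 := by rw [hT', card_submodule_sdiff_zero, hπ, hπdim x y hxF hyF hx hy hxy]
    -- each good vector sees many vectors of `π`
    have hlow : ∀ z ∈ Z, 2 ^ (g - 1) - 1 ≤ (T.filter fun t => t ∈ dee G x z).card := by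
      intro z hz
      have hz' := hz
      rw [hZ, Finset.mem_sdiff, hW0, Finset.mem_filter] at hz'
      obtain ⟨hA, -⟩ := hsplit x z hxF hx hz'.1.2.1 hz'.1.2.2 (hgood z hz)
      have h1 := Submodule.finrank_sup_add_finrank_inf_eq (dee G x z ⊓ moved R) π
      have h2 := Submodule.finrank_mono (show (dee G x z ⊓ moved R) ⊔ π ≤ moved R from sup_le inf_le_right inf_le_right)
      have h3 : finrank F2 π = e := hπdim x y hxF hyF hx hy hxy
      have hsub : (Finset.univ.filter fun v => v ∈ (dee G x z ⊓ moved R ⊓ π) ∧ v ≠ 0) ⊆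
          T.filter fun t => t ∈ dee G x z := fun v hv => by
        simp only [hT', Finset.mem_filter, Finset.mem_univ, true_and, Submodule.mem_inf] at hv ⊢
        exact ⟨⟨hv.1.2, hv.2⟩, hv.1.1.1⟩
      refine le_trans ?_ (Finset.card_le_card hsub)
      rw [card_submodule_sdiff_zero]
      exact Nat.sub_le_sub_right (Nat.pow_le_pow_right two_pos (by omega)) _
    -- each vector of `π` is seen by few
    have hhigh : ∀ t ∈ T, (Z.filter fun z => t ∈ dee G x z).card ≤ 2 ^ (f - 2) - 1 := by
      intro t ht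
      simp only [hT', Finset.mem_filter, Finset.mem_univ, true_and, hπ, Submodule.mem_inf] at ht
      obtain ⟨⟨htd, htW⟩, ht0⟩ := ht
      have hxt : x ≠ t := fun h => hx (hFW x hxF (h ▸ htW))
      have hyt : y ∈ dee G x t := by
        by_contra h
        exact (rel_swap_right hG hn3 (⟨hx, ht0, hxt, h⟩ : Rel G x t y)).2.2.2 htd
      have hdimX : finrank F2 (dee G x t ⊓ moved R : Submodule F2 V) + 2 ≤ f := by
        have hL : Submodule.span F2 {x, y} ≤ fix R := Submodule.span_le.2 (Set.pair_subset hxF hyF)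
        have hL2 := two_le_finrank (Submodule.subset_span (Set.mem_insert x {y}) : x ∈ Submodule.span F2 {x, y})
          (Submodule.subset_span (Set.mem_insert_of_mem x rfl)) hx hy hxy
        have hLd : Submodule.span F2 {x, y} ≤ dee G x t :=
          Submodule.span_le.2 (Set.pair_subset (left_mem_dee x t) hyt)
        have hinf : Submodule.span F2 {x, y} ⊓ (dee G x t ⊓ moved R) = ⊥ :=
          (Submodule.eq_bot_iff _).2 fun v hv => hFW v (hL hv.1) hv.2.2
        have h1 := Submodule.finrank_sup_add_finrank_inf_eq (Submodule.span F2 {x, y}) (dee G x t ⊓ moved R)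
        rw [hinf, finrank_bot] at h1
        have h2 := Submodule.finrank_mono (sup_le hLd (inf_le_left : dee G x t ⊓ moved R ≤ dee G x t))
        rw [hconst hx ht0 hxt] at h2
        omega
      have hsub : (Z.filter fun z => t ∈ dee G x z) ⊆
          Finset.univ.filter fun v => v ∈ (dee G x t ⊓ moved R) ∧ v ≠ 0 := fun z hz => by
        rw [Finset.mem_filter, hZ, Finset.mem_sdiff, hW0, Finset.mem_filter] at hz
        obtain ⟨⟨⟨-, hzW, hz0⟩, -⟩, htz⟩ := hz
        simp only [Finset.mem_filter, Finset.mem_univ, true_and, Submodule.mem_inf]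
        refine ⟨⟨?_, hzW⟩, hz0⟩
        by_contra h
        exact (rel_swap_right hG hn3 (⟨hx, ht0, hxt, h⟩ : Rel G x t z)).2.2.2 htz
      refine (Finset.card_le_card hsub).trans ?_
      rw [card_submodule_sdiff_zero]
      exact Nat.sub_le_sub_right (Nat.pow_le_pow_right two_pos (by omega)) _
    have hdc := Finset.sum_card_bipartiteAbove_eq_sum_card_bipartiteBelow (s := Z) (t := T)
      (fun z t => t ∈ dee G x z)
    have h1 : Z.card * (2 ^ (g - 1) - 1) ≤ ∑ z ∈ Z, (T.filter fun t => t ∈ dee G x z).card :=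
      (Finset.card_nsmul_le_sum _ _ _ hlow)
    have h2 : ∑ t ∈ T, (Z.filter fun z => t ∈ dee G x z).card ≤ T.card * (2 ^ (f - 2) - 1) :=
      (Finset.sum_le_card_nsmul _ _ _ hhigh)
    have h3 : Z.card * (2 ^ (g - 1) - 1) ≤ T.card * (2 ^ (f - 2) - 1) := h1.trans (hdc.le.trans h2)
    have hZc : 2 ^ e * 2 ^ e - 1 - (2 ^ (g - 1) - 1) * (2 ^ e - 1) ≤ Z.card := by
      refine le_trans ?_ (Finset.le_card_sdiff Bad W0)
      rw [hW0c]
      exact Nat.sub_le_sub_left hBadc _
    refine count_bound (P := 2 ^ e) (Q := 2 ^ (g - 1))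
      (le_trans (by norm_num) (Nat.pow_le_pow_right two_pos (show 2 ≤ g - 1 by omega)))
      ?_ ?_
    · rw [show 4 = 2 ^ 2 by norm_num, ← pow_add]
      exact Nat.pow_le_pow_right two_pos (by omega)
    · rw [hTc] at h3
      calc (2 ^ e * 2 ^ e - 1 - (2 ^ (g - 1) - 1) * (2 ^ e - 1)) * (2 ^ (g - 1) - 1) * 2
          ≤ Z.card * (2 ^ (g - 1) - 1) * 2 := by gcongr
        _ ≤ (2 ^ e - 1) * (2 ^ (f - 2) - 1) * 2 := by gcongr
        _ = (2 ^ e - 1) * (2 ^ e * 2 ^ (g - 1) - 2) := by
          rw [mul_assoc, Nat.sub_mul (2 ^ (f - 2)), one_mul, ← pow_succ, ← pow_add, show f - 2 + 1 = e + (g - 1) by omega]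

end CfsgLib.SingerOver
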