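import Cfsg.Agent.Lib.SingerOver.Commutant
import Cfsg.Agent.Lib.NumberTheory.Zsigmondy

/-!
Fixed and moved subspaces of a group of odd order, restriction to invariant subspaces, and dimensions of
subspaces invariant under a group of prime-power order without fixed vectors.
-/

set_option linter.style.haveILetI false

namespace CfsgLib.SingerOver

open MulAction Module

variable {V : Type*} [AddCommGroup V] [Module F2 V]

/-- The vectors fixed by a group. -/
def fix (R : Subgroup (V ≃ₗ[F2] V)) : Submodule F2 V where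
  carrier := {v | ∀ r ∈ R, r v = v}
  zero_mem' r _ := map_zero r
  add_mem' ha hb r hr := by rw [map_add, ha r hr, hb r hr]
  smul_mem' c v hv r hr := by rw [map_smul, hv r hr]

theorem mem_fix {R : Subgroup (V ≃ₗ[F2] V)} {v : V} : v ∈ fix R ↔ ∀ r ∈ R, r v = v := Iff.rfl

/-- The subgroup of maps preserving a subspace and its members. -/
def stabSub (W : Submodule F2 V) : Subgroup (V ≃ₗ[F2] V) where
  carrier := {g | ∀ v, g v ∈ W ↔ v ∈ W}
  one_mem' _ := Iff.rfl
  mul_mem' {a b} ha hb v := (ha (b v)).trans (hb v)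
  inv_mem' {a} ha v := by
    have := ha (a⁻¹ v)
    rw [show a (a⁻¹ v) = v from a.apply_symm_apply v] at this
    exact this.symm

theorem mem_stabSub {W : Submodule F2 V} {g : V ≃ₗ[F2] V} : g ∈ stabSub W ↔ ∀ v, g v ∈ W ↔ v ∈ W := Iff.rfl

theorem mem_stabSub_of_le [Finite V] {W : Submodule F2 V} {g : V ≃ₗ[F2] V} (h : ∀ v ∈ W, g v ∈ W) :
    g ∈ stabSub W := by
  intro v
  refine ⟨fun hv => ?_, h v⟩
  haveI : Finite W := inferInstance
  obtain ⟨⟨w, hw⟩, hwv⟩ := Finite.surjective_of_injective (α := W) (f := fun w => ⟨g w, h w w.2⟩)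
    (fun a b hab => Subtype.ext (g.injective (congrArg Subtype.val hab))) ⟨g v, hv⟩
  rwa [← g.injective (congrArg Subtype.val hwv)]

/-- Restriction to an invariant subspace. -/
def restr {H : Subgroup (V ≃ₗ[F2] V)} {W : Submodule F2 V} (h : H ≤ stabSub W) : H →* (W ≃ₗ[F2] W) where
  toFun g :=
    { toFun := fun w => ⟨g.1 w, (h g.2 w).2 w.2⟩
      map_add' := fun a b => Subtype.ext (map_add g.1 a.1 b.1)
      map_smul' := fun c a => Subtype.ext (map_smul g.1 c a.1)
      invFun := fun w => ⟨g.1.symm w, (h g.2 (g.1.symm w)).1 (by rw [g.1.apply_symm_apply]; exact w.2)⟩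
      left_inv := fun w => Subtype.ext (g.1.symm_apply_apply _)
      right_inv := fun w => Subtype.ext (g.1.apply_symm_apply _) }
  map_one' := rfl
  map_mul' _ _ := rfl

@[simp] theorem restr_apply {H : Subgroup (V ≃ₗ[F2] V)} {W : Submodule F2 V} (h : H ≤ stabSub W) (g : H) (w : W) :
    (restr h g w : V) = g.1 w := rfl

theorem restr_eq_one_iff {H : Subgroup (V ≃ₗ[F2] V)} {W : Submodule F2 V} (h : H ≤ stabSub W) (g : H) :
    restr h g = 1 ↔ ∀ w ∈ W, g.1 w = w := by
  constructor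
  · intro hg w hw
    exact congrArg Subtype.val (LinearEquiv.congr_fun hg ⟨w, hw⟩)
  · exact fun hg => LinearEquiv.ext fun w => Subtype.ext (hg w w.2)

theorem normalises_fix {R : Subgroup (V ≃ₗ[F2] V)} {g : V ≃ₗ[F2] V}
    (hg : g ∈ Subgroup.normalizer (R : Set (V ≃ₗ[F2] V))) : g ∈ stabSub (fix R) := by
  intro v
  constructor
  · intro hv r hr
    have h1 := hv _ ((Subgroup.mem_normalizer_iff.1 hg r).1 hr)
    simp only [LinearEquiv.mul_apply] at h1
    rw [show g⁻¹ (g v) = v from g.symm_apply_apply v] at h1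
    exact g.injective h1
  · intro hv r hr
    have h1 := hv _ ((Subgroup.mem_normalizer_iff.1 (inv_mem hg) r).1 hr)
    rw [inv_inv, LinearEquiv.mul_apply, LinearEquiv.mul_apply] at h1
    rw [← g.apply_symm_apply (r (g v))]
    exact congrArg g h1

theorem le_normalizer_self (R : Subgroup (V ≃ₗ[F2] V)) : R ≤ Subgroup.normalizer (R : Set (V ≃ₗ[F2] V)) :=
  Subgroup.le_normalizer

section Moved

variable [Finite V]

/-- The sum of the members of a group. -/
noncomputable def total (R : Subgroup (V ≃ₗ[F2] V)) : V →ₗ[F2] V := ∑ᶠ r : R, (r.1 : V →ₗ[F2] V)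

/-- The subspace killed by the sum of the members of a group. -/
noncomputable def moved (R : Subgroup (V ≃ₗ[F2] V)) : Submodule F2 V := LinearMap.ker (total R)

theorem total_apply (R : Subgroup (V ≃ₗ[F2] V)) [Fintype R] (v : V) : total R v = ∑ r : R, r.1 v := by
  rw [total, finsum_eq_sum_of_fintype, LinearMap.sum_apply]
  rfl

theorem smul_total {R : Subgroup (V ≃ₗ[F2] V)} {r : V ≃ₗ[F2] V} (hr : r ∈ R) (v : V) :
    r (total R v) = total R v := by
  haveI : Finite (V ≃ₗ[F2] V) := finite_equiv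
  haveI := Fintype.ofFinite R
  rw [total_apply, map_sum]
  exact Fintype.sum_equiv (Equiv.mulLeft (⟨r, hr⟩ : R)) _ _ fun _ => rfl

theorem total_smul {R : Subgroup (V ≃ₗ[F2] V)} {r : V ≃ₗ[F2] V} (hr : r ∈ R) (v : V) :
    total R (r v) = total R v := by
  haveI : Finite (V ≃ₗ[F2] V) := finite_equiv
  haveI := Fintype.ofFinite R
  rw [total_apply, total_apply]
  exact Fintype.sum_equiv (Equiv.mulRight (⟨r, hr⟩ : R)) _ _ fun _ => rfl

theorem total_mem_fix (R : Subgroup (V ≃ₗ[F2] V)) (v : V) : total R v ∈ fix R := fun _ hr => smul_total hr v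

theorem total_of_fixed {R : Subgroup (V ≃ₗ[F2] V)} (hR : Odd (Nat.card R)) {v : V} (hv : v ∈ fix R) :
    total R v = v := by
  haveI : Finite (V ≃ₗ[F2] V) := finite_equiv
  haveI := Fintype.ofFinite R
  rw [total_apply, Finset.sum_congr rfl fun r _ => hv r.1 r.2, Finset.sum_const, Finset.card_univ,
    ← Nat.card_eq_fintype_card]
  obtain ⟨k, hk⟩ := hR
  rw [hk, add_nsmul, one_nsmul, mul_comm, mul_nsmul', two_nsmul, add_self_f2, nsmul_zero, zero_add]

theorem add_total_mem_moved {R : Subgroup (V ≃ₗ[F2] V)} (hR : Odd (Nat.card R)) (v : V) :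
    v + total R v ∈ moved R := by
  rw [moved, LinearMap.mem_ker, map_add, total_of_fixed hR (total_mem_fix R v), add_self_f2]

theorem isCompl_fix_moved {R : Subgroup (V ≃ₗ[F2] V)} (hR : Odd (Nat.card R)) : IsCompl (fix R) (moved R) := by
  constructor
  · rw [disjoint_iff, eq_bot_iff]
    intro v hv
    rw [Submodule.mem_bot, ← total_of_fixed hR hv.1]
    exact LinearMap.mem_ker.1 hv.2
  · rw [codisjoint_iff, eq_top_iff]
    intro v _
    have hv : v = total R v + (v + total R v) := by rw [add_left_comm, add_self_f2, add_zero]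
    rw [hv]
    exact Submodule.add_mem_sup (total_mem_fix R v) (add_total_mem_moved hR v)

theorem finrank_fix_add_moved {R : Subgroup (V ≃ₗ[F2] V)} (hR : Odd (Nat.card R)) :
    finrank F2 (fix R) + finrank F2 (moved R) = finrank F2 V :=
  haveI : Module.Finite F2 V := Module.Finite.of_finite
  Submodule.finrank_add_eq_of_isCompl (isCompl_fix_moved hR)

theorem total_map {R : Subgroup (V ≃ₗ[F2] V)} {g : V ≃ₗ[F2] V}
    (hg : g ∈ Subgroup.normalizer (R : Set (V ≃ₗ[F2] V))) (v : V) : total R (g v) = g (total R v) := by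
  haveI : Finite (V ≃ₗ[F2] V) := finite_equiv
  haveI := Fintype.ofFinite R
  rw [total_apply, total_apply, map_sum]
  refine (Fintype.sum_equiv
    ⟨fun r => ⟨g * r.1 * g⁻¹, (Subgroup.mem_normalizer_iff.1 hg r.1).1 r.2⟩,
     fun r => ⟨g⁻¹ * r.1 * g, (Subgroup.mem_normalizer_iff''.1 hg r.1).1 r.2⟩,
     fun r => Subtype.ext (by group), fun r => Subtype.ext (by group)⟩ _ _ fun r => ?_).symm
  show g (r.1 v) = (g * r.1 * g⁻¹) (g v)
  simp only [LinearEquiv.mul_apply]
  rw [show g⁻¹ (g v) = v from g.symm_apply_apply v]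

theorem normalises_moved {R : Subgroup (V ≃ₗ[F2] V)} {g : V ≃ₗ[F2] V}
    (hg : g ∈ Subgroup.normalizer (R : Set (V ≃ₗ[F2] V))) : g ∈ stabSub (moved R) := fun v => by
  rw [moved, LinearMap.mem_ker, LinearMap.mem_ker, total_map hg, LinearEquiv.map_eq_zero_iff]

/-- An invariant subspace meeting the fixed space trivially is moved. -/
theorem le_moved {R : Subgroup (V ≃ₗ[F2] V)} {U : Submodule F2 V} (hU : R ≤ stabSub U)
    (h0 : ∀ u ∈ U, u ∈ fix R → u = 0) : U ≤ moved R := by
  haveI : Finite (V ≃ₗ[F2] V) := finite_equiv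
  haveI := Fintype.ofFinite R
  intro u hu
  rw [moved, LinearMap.mem_ker]
  refine h0 _ ?_ (total_mem_fix R u)
  rw [total_apply]
  exact Submodule.sum_mem _ fun r _ => (hU r.2 u).2 hu

theorem isPGroup_fixfree {R : Subgroup (V ≃ₗ[F2] V)} {ℓ : ℕ} [Fact ℓ.Prime] (hR : IsPGroup ℓ R)
    {U : Submodule F2 V} (hU : R ≤ stabSub U) (h0 : ∀ u ∈ U, u ∈ fix R → u = 0) :
    ℓ ∣ 2 ^ finrank F2 U - 1 := by
  haveI : Module.Finite F2 V := Module.Finite.of_finite
  letI act : MulAction R U :=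
    { smul := fun r u => ⟨r.1 u, (hU r.2 u).2 u.2⟩
      one_smul := fun u => Subtype.ext rfl
      mul_smul := fun _ _ u => Subtype.ext rfl }
  have h := hR.card_modEq_card_fixedPoints U
  have h1 : Nat.card (fixedPoints R U) = 1 := by
    rw [Nat.card_eq_one_iff_unique]
    refine ⟨⟨fun a b => Subtype.ext (Subtype.ext ?_)⟩, ⟨⟨0, fun r => Subtype.ext (map_zero r.1)⟩⟩⟩
    have key : ∀ a : fixedPoints R U, ((a : U) : V) = 0 := fun a =>
      h0 _ (a : U).2 fun r hr => congrArg Subtype.val (a.2 ⟨r, hr⟩)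
    rw [key a, key b]
  rw [h1, natCard_eq_pow_finrank (K := F2) (V := U), Nat.card_zmod] at h
  exact (Nat.modEq_iff_dvd' Nat.one_le_two_pow).1 h.symm

theorem orderOf_dvd_finrank {R : Subgroup (V ≃ₗ[F2] V)} {ℓ : ℕ} [Fact ℓ.Prime] (hR : IsPGroup ℓ R)
    {U : Submodule F2 V} (hU : R ≤ stabSub U) (h0 : ∀ u ∈ U, u ∈ fix R → u = 0) :
    orderOf (2 : ZMod ℓ) ∣ finrank F2 U := by
  have := (CfsgLib.NumberTheory.dvd_pow_sub_one_iff_orderOf_dvd (p := ℓ) (a := 2) (by omega) _).1
    (isPGroup_fixfree hR hU h0)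
  simpa using this

theorem odd_card_of_isPGroup {R : Subgroup (V ≃ₗ[F2] V)} {ℓ : ℕ} [Fact ℓ.Prime] (hℓ : ℓ ≠ 2)
    (hR : IsPGroup ℓ R) : Odd (Nat.card R) := by
  haveI : Finite (V ≃ₗ[F2] V) := finite_equiv
  obtain ⟨k, hk⟩ := IsPGroup.iff_card.1 hR
  rw [hk]
  exact ((Fact.out : ℓ.Prime).odd_of_ne_two hℓ).pow

end Moved

end CfsgLib.SingerOver
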