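import Cfsg.Agent.Lib.SingerOver.Line
import Cfsg.Agent.Lib.SingerOver.Fixed
import Cfsg.Agent.Lib.Class49.Primitive

/-!
The order of the stabiliser of a line divides a power of two times the orders of the two general linear groups on
the factors of the flag made by the line and its subspace.
-/

set_option linter.style.haveILetI false

namespace CfsgLib.SingerOver

open MulAction Module

/-- The order of the general linear group of a space over two elements. -/
def glCard (m : ℕ) : ℕ := ∏ i : Fin m, (2 ^ m - 2 ^ (i : ℕ))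

theorem natCard_gl {U : Type*} [AddCommGroup U] [Module F2 U] [Finite U] :
    Nat.card (U ≃ₗ[F2] U) = glCard (finrank F2 U) :=
  haveI : Fact (Nat.Prime 2) := ⟨Nat.prime_two⟩
  CfsgLib.Class49.card_linearEquiv_prime (by rw [natCard_eq_pow_finrank (K := F2), Nat.card_zmod])

variable {V : Type*} [AddCommGroup V] [Module F2 V] [Finite V]

omit [Finite V] in
theorem map_eq_of_stab {W : Submodule F2 V} {g : V ≃ₗ[F2] V} (hg : g ∈ stabSub W) :
    W.map (g : V →ₗ[F2] V) = W := by
  ext v
  constructor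
  · rintro ⟨w, hw, rfl⟩
    exact (hg w).2 hw
  · exact fun hv => ⟨g.symm v, (hg _).1 (by rwa [g.apply_symm_apply]), g.apply_symm_apply v⟩

/-- The order of a group preserving a subspace is bounded by its images on the two factors. -/
theorem card_dvd_flag {H : Subgroup (V ≃ₗ[F2] V)} {U : Submodule F2 V} (hU : H ≤ stabSub U) :
    ∃ a, Nat.card H ∣ 2 ^ a * (Nat.card (restr hU).range * glCard (finrank F2 V - finrank F2 U)) := by
  haveI : Module.Finite F2 V := Module.Finite.of_finite
  haveI : Finite (V ≃ₗ[F2] V) := finite_equiv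
  haveI : Finite (V ⧸ U) := Quotient.finite _
  let q : H →* ((V ⧸ U) ≃ₗ[F2] (V ⧸ U)) :=
    MonoidHom.mk' (fun g => Submodule.Quotient.equiv U U g.1 (map_eq_of_stab (hU g.2))) fun a b => by
      refine LinearEquiv.ext fun v => ?_
      induction v using Submodule.Quotient.induction_on with | H v => ?_
      rfl
  let ψ := (restr hU).rangeRestrict.prod q
  have hker : IsPGroup 2 ψ.ker := fun g => by
    refine ⟨1, Subtype.ext (Subtype.ext (LinearEquiv.ext fun v => ?_))⟩
    have hg' : ((restr hU).rangeRestrict g.1, q g.1) = 1 := MonoidHom.mem_ker.1 g.2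
    have hg := Prod.mk_eq_one.1 hg'
    have h1 : ∀ u ∈ U, (g.1 : V ≃ₗ[F2] V) u = u :=
      (restr_eq_one_iff hU g.1).1 (congrArg Subtype.val hg.1)
    have h2 : (g.1 : V ≃ₗ[F2] V) v - v ∈ U :=
      (Submodule.Quotient.eq U).1 (LinearEquiv.congr_fun hg.2 (Submodule.Quotient.mk v))
    have h3 := h1 _ h2
    rw [map_sub, sub_eq_iff_eq_add] at h3
    rw [pow_one, pow_two]
    show (g.1 : V ≃ₗ[F2] V) ((g.1 : V ≃ₗ[F2] V) v) = v
    rw [h3]
    calc (g.1 : V ≃ₗ[F2] V) v - v + (g.1 : V ≃ₗ[F2] V) v
        = ((g.1 : V ≃ₗ[F2] V) v + (g.1 : V ≃ₗ[F2] V) v) - v := by abel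
      _ = 0 - v := by rw [add_self_f2]
      _ = v := by rw [zero_sub]; exact neg_eq_of_add_eq_zero_right (add_self_f2 v)
  obtain ⟨a, ha⟩ := IsPGroup.iff_card.1 hker
  refine ⟨a, ?_⟩
  rw [← Subgroup.card_mul_index ψ.ker, ha, Subgroup.index_ker]
  refine Nat.mul_dvd_mul_left _ ((Subgroup.card_subgroup_dvd_card ψ.range).trans ?_)
  rw [Nat.card_prod, natCard_gl, Submodule.finrank_quotient]

variable {G : Subgroup (V ≃ₗ[F2] V)}

/-- The order of the stabiliser of a line. -/
theorem card_lineStab_dvd {x y : V} (hx : x ≠ 0) (hy : y ≠ 0) (hxy : x ≠ y) :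
    ∃ a, Nat.card (lineStab G x y) ∣ 2 ^ a * (glCard (finrank F2 (dee G x y) - 2) *
      glCard (finrank F2 V - finrank F2 (dee G x y))) := by
  classical
  haveI : Module.Finite F2 V := Module.Finite.of_finite
  haveI : Finite (V ≃ₗ[F2] V) := finite_equiv
  set D := dee G x y with hD
  haveI : Finite D := inferInstance
  haveI : Finite (D ≃ₗ[F2] D) := finite_equiv
  set H := lineStab G x y with hH
  have hHD : H ≤ stabSub D := fun g hg v => dee_stab hg
  obtain ⟨a, ha⟩ := card_dvd_flag hHD
  set H1 := (restr hHD).range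
  set L : Submodule F2 V := Submodule.span F2 {x, y} with hL
  set L' : Submodule F2 D := L.comap D.subtype with hL'
  haveI : Finite L' := inferInstance
  haveI : Finite (L' ≃ₗ[F2] L') := finite_equiv
  have hH1 : H1 ≤ stabSub L' := by
    rintro _ ⟨g, rfl⟩
    refine mem_stabSub_of_le fun v hv => ?_
    have hv' : (v : V) ∈ L := hv
    rw [hL, Submodule.mem_span_pair] at hv'
    obtain ⟨i, j, hij⟩ := hv'
    show (g : V ≃ₗ[F2] V) v ∈ L
    rw [← hij, map_add, map_smul, map_smul, show (g : V ≃ₗ[F2] V) x = x from g.2.1.2]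
    refine add_mem (Submodule.smul_mem _ _ (Submodule.subset_span (Set.mem_insert _ _))) (Submodule.smul_mem _ _ ?_)
    rcases g.2.2 with h | h <;> rw [h]
    · exact Submodule.subset_span (Set.mem_insert_of_mem _ rfl)
    · exact add_mem (Submodule.subset_span (Set.mem_insert _ _)) (Submodule.subset_span (Set.mem_insert_of_mem _ rfl))
  obtain ⟨b, hb⟩ := card_dvd_flag hH1
  have h2grp : IsPGroup 2 (restr hH1).range := by
    rintro ⟨_, ⟨⟨_, g, rfl⟩, rfl⟩⟩
    refine ⟨1, Subtype.ext (LinearEquiv.ext fun v => Subtype.ext (Subtype.ext ?_))⟩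
    have hv' : ((v : D) : V) ∈ L := v.2
    rw [hL, Submodule.mem_span_pair] at hv'
    obtain ⟨i, j, hij⟩ := hv'
    simp only [pow_one, pow_two, SubmonoidClass.coe_pow, OneMemClass.coe_one, LinearEquiv.mul_apply, restr_apply]
    have hgx : (g : V ≃ₗ[F2] V) x = x := g.2.1.2
    have hgy : (g : V ≃ₗ[F2] V) ((g : V ≃ₗ[F2] V) y) = y := by
      rcases g.2.2 with h | h
      · rw [h, h]
      · rw [h, map_add, hgx, h, ← add_assoc, add_self_f2, zero_add]
    show (g : V ≃ₗ[F2] V) ((g : V ≃ₗ[F2] V) ((v : D) : V)) = _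
    rw [← hij]
    simp only [map_add, map_smul, hgx, hgy]
    exact hij
  obtain ⟨c, hc⟩ := IsPGroup.iff_card.1 h2grp
  have hL'dim : finrank F2 L' = 2 := by
    have hle : L ≤ D := Submodule.span_le.2 (Set.pair_subset (left_mem_dee x y) (right_mem_dee x y))
    rw [hL', (Submodule.comapSubtypeEquivOfLe hle).finrank_eq]
    refine le_antisymm ((finrank_span_le_card _).trans ?_) ?_
    · simp only [Set.toFinset_insert, Set.toFinset_singleton]
      exact Finset.card_le_two
    · by_contra hlt
      have h1 : ({0, x, y} : Set V) ⊆ L := by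
        rintro v (rfl | rfl | rfl)
        exacts [zero_mem _, Submodule.subset_span (Set.mem_insert _ _),
          Submodule.subset_span (Set.mem_insert_of_mem _ rfl)]
      have h2 := Set.ncard_le_ncard h1 (Set.toFinite _)
      rw [Set.ncard_eq_three.2 ⟨0, x, y, Ne.symm hx, Ne.symm hy, hxy, rfl⟩, ← Nat.card_coe_set_eq,
        show Nat.card (L : Set V) = Nat.card L from rfl, natCard_eq_pow_finrank (K := F2) (V := L), Nat.card_zmod]
        at h2
      have : 2 ^ finrank F2 L ≤ 2 ^ 1 := Nat.pow_le_pow_right two_pos (by omega)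
      omega
  rw [hc, hL'dim] at hb
  refine ⟨a + b + c, ha.trans ?_⟩
  rw [pow_add, pow_add]
  refine (Nat.mul_dvd_mul_left _ (Nat.mul_dvd_mul_right hb _)).trans (dvd_of_eq ?_)
  ring

end CfsgLib.SingerOver
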