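import Cfsg.Agent.Lib.SingerOver.Flags

/-!
A function of `m` vectors which is invariant under a field of multipliers and is, in each argument, a sum of
functions with periods of codimension at most `e` vanishes when `m * e` is less than the dimension.
-/

set_option linter.style.haveILetI false

namespace CfsgLib.SingerOver

open Module

variable {V : Type*} [AddCommGroup V] [Module F2 V]

/-- Spans of functions with periods of codimension at most `e`. -/
def lowSpan (e : ℕ) : Submodule F2 (V → F2) :=
  Submodule.span F2
    {h | ∃ W : Submodule F2 V, finrank F2 V ≤ finrank F2 W + e ∧ ∀ v, ∀ w ∈ W, h (v + w) = h v}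

theorem mem_lowSpan_of_period {e : ℕ} {h : V → F2} (W : Submodule F2 V)
    (hW : finrank F2 V ≤ finrank F2 W + e) (hh : ∀ v, ∀ w ∈ W, h (v + w) = h v) : h ∈ lowSpan e :=
  Submodule.subset_span ⟨W, hW, hh⟩

variable [Finite V]

theorem finrank_le_comap_add (f : V →ₗ[F2] V) (W : Submodule F2 V) :
    finrank F2 V + finrank F2 W ≤ finrank F2 (W.comap f) + finrank F2 V := by
  haveI : Module.Finite F2 V := Module.Finite.of_finite
  have h1 := LinearMap.finrank_range_add_finrank_ker (W.mkQ.comp f)
  have h2 := Submodule.finrank_le (LinearMap.range (W.mkQ.comp f))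
  have h3 := Submodule.finrank_quotient_add_finrank W
  rw [LinearMap.ker_comp, Submodule.ker_mkQ] at h1
  omega

theorem sum_eq_zero_of_period [Fintype V] {h : V → F2} {w : V} (hw : w ≠ 0) (hh : ∀ v, h (v + w) = h v) :
    ∑ v, h v = 0 := by
  refine Finset.sum_involution (fun v _ => v + w) (fun v _ => ?_) (fun v _ _ => ?_) (fun v _ => Finset.mem_univ _)
    (fun v _ => ?_)
  · rw [hh, add_self_f2]
  · intro h
    exact hw (by rwa [add_eq_left] at h)
  · rw [add_assoc, add_self_f2, add_zero]

variable (μ : V →ₗ[F2] Module.End F2 V) {e : ℕ}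

theorem sum_vanish [Fintype V] : ∀ (k : ℕ) (φ : (Fin k → V) → F2),
    (∀ (a : Fin k → V) (i : Fin k), (fun x => φ (Function.update a i x)) ∈ lowSpan e) →
    ∀ (P : V → F2) (W : Submodule F2 V), k * e < finrank F2 W → (∀ v, ∀ w ∈ W, P (v + w) = P v) →
    ∀ a : Fin k → V, ∑ v, P v * φ (fun i => μ v (a i)) = 0 := by
  classical
  haveI : Module.Finite F2 V := Module.Finite.of_finite
  intro k
  induction k with
  | zero =>
    intro φ _ P W hW hP a
    obtain ⟨w, hwW, hw⟩ := W.ne_bot_iff.1 (fun h => by rw [h, finrank_bot] at hW; omega)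
    refine sum_eq_zero_of_period hw fun v => ?_
    rw [hP v w hwW]
    exact congrArg (P v * φ ·) (funext fun i => i.elim0)
  | succ k ih =>
    intro φ hφ P W hW hP a
    obtain ⟨π, hπ⟩ := (lowSpan (V := V) e).subtype.exists_leftInverse_of_injective (Submodule.ker_subtype _)
    set c : V → V → F2 := fun u => (π (Pi.single u 1) : V → F2) with hc
    have hexp : ∀ (x : V) (r : Fin k → V), φ (Fin.cons x r) = ∑ u, c u x * φ (Fin.cons u r) := by
      intro x r
      have hmem : (fun y => φ (Fin.cons y r)) ∈ lowSpan e := by
        simpa [Fin.update_cons_zero] using hφ (Fin.cons x r) 0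
      have h1 : (fun y => φ (Fin.cons y r)) = ∑ u, φ (Fin.cons u r) • (Pi.single u 1 : V → F2) := by
        funext y
        simp [Finset.sum_apply, Pi.single_apply]
      have h2 := LinearMap.congr_fun hπ ⟨_, hmem⟩
      simp only [LinearMap.comp_apply, Submodule.subtype_apply, LinearMap.id_apply] at h2
      have h3 := congrArg (fun z : lowSpan (V := V) e => (z : V → F2) x) h2
      simp only [h1, map_sum, map_smul, AddSubmonoidClass.coe_finsetSum, SetLike.val_smul, Finset.sum_apply,
        Pi.smul_apply, smul_eq_mul] at h3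
      rw [show φ (Fin.cons x r) = ∑ u, φ (Fin.cons u r) * c u x from h3.symm.trans ?_]
      · exact Finset.sum_congr rfl fun u _ => mul_comm _ _
      · simp [hc]
    have hterm : ∀ u : V, ∀ h ∈ lowSpan (V := V) e,
        ∑ v, P v * h (μ v (a 0)) * φ (Fin.cons u fun i => μ v (a i.succ)) = 0 := by
      intro u h hh
      induction hh using Submodule.span_induction with
      | mem h hh =>
        obtain ⟨Wh, hWh, hper⟩ := hh
        set W' : Submodule F2 V := W ⊓ Wh.comap (μ.flip (a 0))
        have hW' : k * e < finrank F2 W' := by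
          have h1 := Submodule.finrank_sup_add_finrank_inf_eq W (Wh.comap (μ.flip (a 0)))
          have h2 := Submodule.finrank_le (W ⊔ Wh.comap (μ.flip (a 0)))
          have h3 := finrank_le_comap_add (μ.flip (a 0)) Wh
          rw [Nat.succ_mul] at hW
          show k * e < finrank F2 (W ⊓ Wh.comap (μ.flip (a 0)) : Submodule F2 V)
          omega
        exact ih (fun r => φ (Fin.cons u r))
          (fun r i => by simpa [Fin.cons_update] using hφ (Fin.cons u r) i.succ)
          (fun v => P v * h (μ v (a 0))) W' hW'
          (fun v w hw => by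
            rw [hP v w hw.1, map_add, LinearMap.add_apply, hper _ _ (show μ w (a 0) ∈ Wh from hw.2)])
          (fun i => a i.succ)
      | zero => simp
      | add h h' _ _ ihh ihh' => simp only [Pi.add_apply, mul_add, add_mul, Finset.sum_add_distrib, ihh, ihh', add_zero]
      | smul t h _ ihh =>
        have : ∀ v, P v * (t • h) (μ v (a 0)) * φ (Fin.cons u fun i => μ v (a i.succ)) =
            t * (P v * h (μ v (a 0)) * φ (Fin.cons u fun i => μ v (a i.succ))) := fun v => by
          simp only [Pi.smul_apply, smul_eq_mul]; ring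
        rw [Finset.sum_congr rfl fun v _ => this v, ← Finset.mul_sum, ihh, mul_zero]
    have heq : ∀ v, (fun i => μ v (a i)) = Fin.cons (μ v (a 0)) (fun i => μ v (a i.succ)) := fun v =>
      (Fin.cons_self_tail fun i => μ v (a i)).symm
    rw [Finset.sum_congr rfl fun v _ => show P v * φ (fun i => μ v (a i)) =
        ∑ u, P v * (c u (μ v (a 0)) * φ (Fin.cons u fun i => μ v (a i.succ))) by
      rw [heq v, hexp, Finset.mul_sum]]
    rw [Finset.sum_comm]
    refine Finset.sum_eq_zero fun u _ => ?_
    rw [← hterm u (c u) (π _).2]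
    exact Finset.sum_congr rfl fun v _ => (mul_assoc _ _ _).symm

/-- The vanishing of invariant functions of few slots of small degree. -/
theorem eq_zero_of_invariant {m : ℕ} (φ : (Fin m → V) → F2) (hm : m * e < finrank F2 V) (h0 : φ 0 = 0)
    (hinv : ∀ v : V, v ≠ 0 → ∀ a, φ (fun i => μ v (a i)) = φ a)
    (hslot : ∀ (a : Fin m → V) (i : Fin m), (fun x => φ (Function.update a i x)) ∈ lowSpan e)
    (a : Fin m → V) : φ a = 0 := by
  classical
  haveI := Fintype.ofFinite V
  haveI : Module.Finite F2 V := Module.Finite.of_finite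
  have h := sum_vanish μ m φ hslot (fun _ => 1) ⊤ (by rwa [finrank_top]) (fun _ _ _ => rfl) a
  simp only [one_mul] at h
  rw [← Finset.add_sum_erase _ _ (Finset.mem_univ (0 : V))] at h
  rw [show (fun i => μ 0 (a i)) = (0 : Fin m → V) from funext fun i => by simp, h0, zero_add,
    Finset.sum_congr rfl (fun v hv => hinv v (Finset.ne_of_mem_erase hv) a), Finset.sum_const, nsmul_eq_mul,
    Finset.card_erase_of_mem (Finset.mem_univ _), Finset.card_univ, ← Nat.card_eq_fintype_card,
    natCard_eq_pow_finrank (K := F2) (V := V), Nat.card_zmod] at h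
  rwa [(ZMod.natCast_eq_one_iff_odd).2 (odd_two_pow_sub_one (by omega)), one_mul] at h

end CfsgLib.SingerOver
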