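import Cfsg.Agent.Lib.SingerOver.Line
import Cfsg.Agent.Lib.SingerOver.Averaging

/-!
The relation "off the subspace of the line" between three vectors is symmetric, and averaging over a field
of multipliers bounds the codimension of that subspace below by a third of the dimension.
-/

set_option linter.style.haveILetI false

namespace CfsgLib.SingerOver

open MulAction Module

variable {V : Type*} [AddCommGroup V] [Module F2 V] {G : Subgroup (V ≃ₗ[F2] V)}

/-- `z` is off the subspace of the line through `x` and `y`. -/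
def Rel (G : Subgroup (V ≃ₗ[F2] V)) (x y z : V) : Prop :=
  x ≠ 0 ∧ y ≠ 0 ∧ x ≠ y ∧ z ∉ dee G x y

theorem Rel.ne_zero {x y z : V} (h : Rel G x y z) : z ≠ 0 :=
  fun h0 => h.2.2.2 (by rw [h0]; exact zero_mem _)

theorem Rel.ne_left {x y z : V} (h : Rel G x y z) : x ≠ z :=
  fun h0 => h.2.2.2 (by rw [← h0]; exact left_mem_dee x y)

theorem Rel.ne_right {x y z : V} (h : Rel G x y z) : y ≠ z :=
  fun h0 => h.2.2.2 (by rw [← h0]; exact right_mem_dee x y)

theorem rel_map {g : V ≃ₗ[F2] V} (hg : g ∈ G) {x y z : V} : Rel G (g x) (g y) (g z) ↔ Rel G x y z := by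
  simp only [Rel, ne_eq, LinearEquiv.map_eq_zero_iff, g.injective.eq_iff, dee_map hg]

/-- Multiplications by non-zero vectors lie in the group. -/
def Mult (G : Subgroup (V ≃ₗ[F2] V)) (μ : V →ₗ[F2] Module.End F2 V) : Prop :=
  ∀ v, v ≠ 0 → ∃ g ∈ G, ∀ u, g u = μ v u

variable [Finite V] (hG : Setup G) (hn : 3 ≤ finrank F2 V)

include hG

theorem finrank_dee_eq {x y x' y' : V} (hx : x ≠ 0) (hy : y ≠ 0) (hxy : x ≠ y) (hx' : x' ≠ 0) (hy' : y' ≠ 0)
    (hxy' : x' ≠ y') : finrank F2 (dee G x y) = finrank F2 (dee G x' y') := by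
  obtain ⟨g, hg, h1, h2⟩ := hG.two x y x' y' hx hy hxy hx' hy' hxy'
  rw [← h1, ← h2, finrank_dee_map hg]

include hn

theorem card_dee {x y : V} (f : ℕ) (hf : finrank F2 (dee G x y) = f) :
    Nat.card (dee G x y) = 2 ^ f := by
  haveI : Module.Finite F2 V := Module.Finite.of_finite
  rw [natCard_eq_pow_finrank (K := F2), Nat.card_zmod, hf]

theorem finrank_dee_lt {x y : V} (hx : x ≠ 0) (hy : y ≠ 0) (hxy : x ≠ y) :
    finrank F2 (dee G x y) < finrank F2 V :=
  haveI : Module.Finite F2 V := Module.Finite.of_finite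
  Submodule.finrank_lt (dee_ne_top hn hx hy hxy)

omit hG hn in
theorem card_compl_submodule (W : Submodule F2 V) :
    ((W : Set V)ᶜ).ncard = 2 ^ finrank F2 V - 2 ^ finrank F2 W := by
  haveI : Module.Finite F2 V := Module.Finite.of_finite
  rw [Set.ncard_compl, ← Nat.card_coe_set_eq, natCard_eq_pow_finrank (K := F2) (V := V), Nat.card_zmod]
  congr 1
  exact (natCard_eq_pow_finrank (K := F2) (V := W)).trans (by rw [Nat.card_zmod])

theorem orbit_lineStab {x y z : V} (hx : x ≠ 0) (hy : y ≠ 0) (hxy : x ≠ y) (hz : z ∉ dee G x y) :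
    orbit (lineStab G x y) z = ((dee G x y : Set V))ᶜ := by
  ext w
  constructor
  · rintro ⟨g, rfl⟩ h
    exact hz ((dee_stab g.2).1 h)
  · intro hw
    obtain ⟨g, hg, hgz⟩ := out_trans hG hn hx hy hxy hz hw
    exact ⟨⟨g, hg⟩, hgz⟩

/-- The number of vectors off the subspace divides twice an orbit of the stabiliser of both vectors. -/
theorem dvd_orbit {x y z : V} (hx : x ≠ 0) (hy : y ≠ 0) (hxy : x ≠ y) (hz : z ∉ dee G x y) :
    2 ^ finrank F2 V - 2 ^ finrank F2 (dee G x y) ∣
      2 * (orbit (pt G x ⊓ pt G y : Subgroup (V ≃ₗ[F2] V)) z).ncard := by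
  set A := lineStab G x y
  set B := pt G x ⊓ pt G y
  set S := stabilizer (V ≃ₗ[F2] V) z
  have hB : (B ⊓ S).relIndex B = (orbit B z).ncard := by
    rw [← index_stabilizer, Subgroup.relIndex]
    congr 1
    ext g
    simp only [Subgroup.mem_subgroupOf, Subgroup.mem_inf, mem_stabilizer_iff]
    exact ⟨fun h => h.2, fun h => ⟨g.2, h⟩⟩
  have hA : (A ⊓ S).relIndex A = 2 ^ finrank F2 V - 2 ^ finrank F2 (dee G x y) := by
    rw [← card_compl_submodule, ← orbit_lineStab hG hn hx hy hxy hz, ← index_stabilizer, Subgroup.relIndex]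
    congr 1
    ext g
    simp only [Subgroup.mem_subgroupOf, Subgroup.mem_inf, mem_stabilizer_iff]
    exact ⟨fun h => h.2, fun h => ⟨g.2, h⟩⟩
  have h1 := Subgroup.relIndex_mul_relIndex (B ⊓ S) B A inf_le_left (inf_le_lineStab x y)
  have h2 := Subgroup.relIndex_mul_relIndex (B ⊓ S) (A ⊓ S) A (inf_le_inf_right S (inf_le_lineStab x y))
    inf_le_left
  rw [hB, relIndex_two hG hx hy hxy] at h1
  rw [hA, ← h1] at h2
  exact Dvd.intro_left _ (h2.trans (mul_comm _ _))

theorem exists_symm_pair {x : V} (hx : x ≠ 0) : ∃ y z, Rel G x y z ∧ Rel G x z y := by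
  classical
  haveI : Module.Finite F2 V := Module.Finite.of_finite
  haveI := Fintype.ofFinite V
  by_contra hcon
  push Not at hcon
  set Y : Finset V := Finset.univ.filter fun y => y ≠ 0 ∧ x ≠ y with hY
  set A : Finset (V × V) := Y ×ˢ Y |>.filter fun p => Rel G x p.1 p.2 with hA
  have hYc : Y.card = 2 ^ finrank F2 V - 2 := by
    have : Y = Finset.univ \ {0, x} := by ext y; simp [hY, eq_comm]
    rw [this, Finset.card_univ_sdiff, Finset.card_pair (Ne.symm hx), ← Nat.card_eq_fintype_card,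
      natCard_eq_pow_finrank (K := F2) (V := V), Nat.card_zmod]
  obtain ⟨y0, hy0⟩ : Y.Nonempty := by
    rw [← Finset.card_pos, hYc]
    have : 2 ^ 3 ≤ 2 ^ finrank F2 V := Nat.pow_le_pow_right two_pos hn
    omega
  rw [hY, Finset.mem_filter] at hy0
  set f := finrank F2 (dee G x y0) with hf
  have hflt := finrank_dee_lt hG hn hx hy0.2.1 hy0.2.2
  have hAc : A.card = Y.card * (2 ^ finrank F2 V - 2 ^ f) := by
    have hfib : A.card = ∑ y ∈ Y, (Y.filter fun z => Rel G x y z).card := by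
      simp only [hA, Finset.card_filter, Finset.sum_product]
    rw [hfib, ← smul_eq_mul, ← Finset.sum_const]
    refine Finset.sum_congr rfl fun y hy => ?_
    rw [hY, Finset.mem_filter] at hy
    rw [hf, finrank_dee_eq hG hx hy0.2.1 hy0.2.2 hx hy.2.1 hy.2.2, ← card_compl_submodule,
      ← Set.ncard_coe_finset]
    congr 1
    ext z
    simp only [Finset.coe_filter, Set.mem_setOf_eq, Set.mem_compl_iff, SetLike.mem_coe]
    refine ⟨fun h => h.2.2.2.2, fun h => ?_⟩
    have hr : Rel G x y z := ⟨hx, hy.2.1, hy.2.2, h⟩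
    exact ⟨by simp [hY, hr.ne_zero, hr.ne_left], hr⟩
  have hdis : Disjoint A (A.image Prod.swap) := by
    rw [Finset.disjoint_left]
    rintro ⟨y, z⟩ h h'
    obtain ⟨⟨y', z'⟩, hm, he⟩ := Finset.mem_image.1 h'
    simp only [Prod.swap_prod_mk, Prod.mk.injEq] at he
    obtain ⟨rfl, rfl⟩ := he
    exact hcon _ _ (Finset.mem_filter.1 h).2 (Finset.mem_filter.1 hm).2
  have hsub : A ∪ A.image Prod.swap ⊆ Y ×ˢ Y := by
    intro p hp
    rcases Finset.mem_union.1 hp with h | h
    · exact (Finset.mem_filter.1 h).1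
    · obtain ⟨q, hq, rfl⟩ := Finset.mem_image.1 h
      have := Finset.mem_product.1 (Finset.mem_filter.1 hq).1
      exact Finset.mem_product.2 ⟨this.2, this.1⟩
  have hle := Finset.card_le_card hsub
  rw [Finset.card_union_of_disjoint hdis, Finset.card_image_of_injective _ Prod.swap_injective,
    Finset.card_product, hAc, ← two_mul] at hle
  have hle' : 2 * (2 ^ finrank F2 V - 2 ^ f) ≤ Y.card := by
    refine Nat.le_of_mul_le_mul_left ?_ (show 0 < Y.card by rw [Finset.card_pos]; exact ⟨y0, by simp [hY, hy0.2]⟩)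
    linarith [hle]
  have h2f : 2 ^ (f + 1) ≤ 2 ^ finrank F2 V := Nat.pow_le_pow_right two_pos hflt
  have h8 : 2 ^ 3 ≤ 2 ^ finrank F2 V := Nat.pow_le_pow_right two_pos hn
  rw [pow_succ] at h2f
  omega

theorem rel_swap_right {x y z : V} (h : Rel G x y z) : Rel G x z y := by
  obtain ⟨hx, hy, hxy, hz⟩ := h
  obtain ⟨y0, z0, h0, h0'⟩ := exists_symm_pair hG hn hx
  obtain ⟨g0, hg0, h1, h2⟩ := hG.two x y0 x y hx h0.2.1 h0.2.2.1 hx hy hxy
  have hz0 : g0 z0 ∉ dee G x y := by
    have := (rel_map hg0).2 h0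
    rw [h1, h2] at this
    exact this.2.2.2
  obtain ⟨k, hk, hkz⟩ := out_trans hG hn hx hy hxy hz0 hz
  have hkx : k x = x := hk.1.2
  refine ⟨hx, Rel.ne_zero ⟨hx, hy, hxy, hz⟩, Rel.ne_left ⟨hx, hy, hxy, hz⟩, fun hy' => ?_⟩
  have := ((rel_map (mul_mem hk.1.1 hg0)).2 h0').2.2.2
  simp only [LinearEquiv.mul_apply, h1, hkx, hkz, h2] at this
  rcases hk.2 with h | h <;> rw [h] at this
  · exact this hy'
  · exact this (add_mem (left_mem_dee _ _) hy')

theorem rel_swap_left {x y z : V} (h : Rel G x y z)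
    (hf : finrank F2 (dee G x y) + 2 ≤ finrank F2 V) : Rel G y x z := by
  obtain ⟨hx, hy, hxy, hz⟩ := h
  refine ⟨hy, hx, Ne.symm hxy, fun hz' => ?_⟩
  haveI : Finite (V ≃ₗ[F2] V) := finite_equiv
  set f := finrank F2 (dee G x y) with hfdef
  have hsub : orbit (pt G x ⊓ pt G y : Subgroup (V ≃ₗ[F2] V)) z ⊆ (dee G y x : Set V) := by
    rintro w ⟨g, rfl⟩
    have := (dee_map (G := G) g.2.1.1 (x := y) (y := x) (v := z)).2 hz'
    rwa [show (g : V ≃ₗ[F2] V) y = y from g.2.2.2, show (g : V ≃ₗ[F2] V) x = x from g.2.1.2] at this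
  have h1 := Set.ncard_le_ncard hsub (Set.toFinite _)
  rw [← Nat.card_coe_set_eq (dee G y x : Set V)] at h1
  have h2 : Nat.card (dee G y x) = 2 ^ f :=
    card_dee hG hn f (finrank_dee_eq hG hy hx (Ne.symm hxy) hx hy hxy)
  have h3 : 0 < (orbit (pt G x ⊓ pt G y : Subgroup (V ≃ₗ[F2] V)) z).ncard :=
    (Set.ncard_pos (Set.toFinite _)).2 ⟨z, mem_orbit_self z⟩
  have h4 := Nat.le_of_dvd (by omega) (dvd_orbit hG hn hx hy hxy hz)
  have h5 : 2 ^ (f + 2) ≤ 2 ^ finrank F2 V := Nat.pow_le_pow_right two_pos hf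
  rw [pow_add] at h5
  have h6 : 0 < 2 ^ f := Nat.two_pow_pos f
  change _ ≤ Nat.card (dee G y x) at h1
  rw [← hfdef] at h4
  omega

/-- Three times the codimension is at least the dimension. -/
theorem le_three_mul_codim {μ : V →ₗ[F2] Module.End F2 V} (hμ : Mult G μ) {x y : V} (hx : x ≠ 0) (hy : y ≠ 0)
    (hxy : x ≠ y) (hf : finrank F2 (dee G x y) + 2 ≤ finrank F2 V) :
    finrank F2 V ≤ 3 * (finrank F2 V - finrank F2 (dee G x y)) := by
  classical
  haveI : Module.Finite F2 V := Module.Finite.of_finite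
  set n := finrank F2 V
  set f := finrank F2 (dee G x y)
  by_contra hlt
  push Not at hlt
  let φ : (Fin 3 → V) → F2 := fun a => if Rel G (a 0) (a 1) (a 2) then 1 else 0
  have hswap : ∀ {a b c : V}, Rel G a b c → Rel G b a c := fun {a b c} h =>
    rel_swap_left hG hn h (by rw [finrank_dee_eq hG h.1 h.2.1 h.2.2.1 hx hy hxy]; exact hf)
  have hmem : ∀ p q : V, (fun t => if Rel G p q t then (1 : F2) else 0) ∈ lowSpan (n - f) := by
    intro p q
    by_cases hpq : p ≠ 0 ∧ q ≠ 0 ∧ p ≠ q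
    · refine mem_lowSpan_of_period (dee G p q) ?_ fun v w hw => ?_
      · rw [finrank_dee_eq hG hpq.1 hpq.2.1 hpq.2.2 hx hy hxy]
        omega
      · refine if_congr ?_ rfl rfl
        simp only [Rel]
        rw [Submodule.add_mem_iff_left _ hw]
    · refine mem_lowSpan_of_period ⊤ (by rw [finrank_top]; omega) fun v w _ => ?_
      rw [if_neg fun h => hpq ⟨h.1, h.2.1, h.2.2.1⟩, if_neg fun h => hpq ⟨h.1, h.2.1, h.2.2.1⟩]
  have hφ0 := eq_zero_of_invariant μ (e := n - f) φ (by omega)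
    (if_neg fun h => h.1 rfl) (fun v hv a => by
      obtain ⟨g, hg, hgu⟩ := hμ v hv
      simp only [φ, ← hgu]
      exact if_congr (rel_map hg) rfl rfl) (fun a i => by
      fin_cases i
      · convert hmem (a 1) (a 2) using 1
        funext t
        refine if_congr ?_ rfl rfl
        simp
        exact ⟨fun h => rel_swap_right hG hn (hswap h), fun h => hswap (rel_swap_right hG hn h)⟩
      · convert hmem (a 0) (a 2) using 1
        funext t
        refine if_congr ?_ rfl rfl
        simp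
        exact ⟨fun h => rel_swap_right hG hn h, fun h => rel_swap_right hG hn h⟩
      · convert hmem (a 0) (a 1) using 1
        funext t
        refine if_congr ?_ rfl rfl
        simp)
  obtain ⟨z, hz⟩ : ∃ z, z ∉ dee G x y := by
    by_contra h
    push Not at h
    exact dee_ne_top hn hx hy hxy (eq_top_iff.2 fun v _ => h v)
  have hr : Rel G x y z := ⟨hx, hy, hxy, hz⟩
  have := hφ0 ![x, y, z]
  simp [φ, hr] at this

end CfsgLib.SingerOver
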