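import Cfsg.Agent.Lib.SingerOver.Commutant
import Cfsg.Agent.Lib.SingerOver.Fixed
import Cfsg.Agent.Lib.SingerOver.Relation

/-!
A cyclic group of Mersenne prime order `2 ^ n - 1` in dimension `n` is transitive, yields a field of multipliers
and has normaliser of order dividing `n * (2 ^ n - 1)`.
-/

set_option linter.style.haveILetI false

namespace CfsgLib.SingerOver

open MulAction Module

variable {V : Type*} [AddCommGroup V] [Module F2 V] [Finite V]

/-- A cyclic group whose order is `2 ^ n - 1`, a prime. -/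
structure IsSingerC (C : Subgroup (V ≃ₗ[F2] V)) : Prop where
  prime : (2 ^ finrank F2 V - 1).Prime
  card : Nat.card C = 2 ^ finrank F2 V - 1

namespace IsSingerC

variable {C : Subgroup (V ≃ₗ[F2] V)} (hC : IsSingerC C)

include hC

theorem dim_prime : (finrank F2 V).Prime := Nat.prime_of_pow_sub_one_prime
  (fun h => by have := hC.prime; rw [h] at this; norm_num at this) hC.prime |>.2

theorem fix_eq_bot : fix C = ⊥ := by
  haveI : Module.Finite F2 V := Module.Finite.of_finite
  haveI : Finite (V ≃ₗ[F2] V) := finite_equiv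
  haveI : Fact (2 ^ finrank F2 V - 1).Prime := ⟨hC.prime⟩
  have hp : IsPGroup (2 ^ finrank F2 V - 1) C := IsPGroup.of_card (n := 1) (by rw [pow_one, hC.card])
  have hp2 : 2 ^ finrank F2 V - 1 ≠ 2 := by
    have := hC.dim_prime.two_le
    have : 2 ^ 2 ≤ 2 ^ finrank F2 V := Nat.pow_le_pow_right two_pos this
    omega
  have hodd := odd_card_of_isPGroup hp2 hp
  have h := isPGroup_fixfree hp (fun c hc => normalises_moved (le_normalizer_self C hc)) fun v hv hv' =>
    Submodule.disjoint_def.1 (isCompl_fix_moved hodd).disjoint v hv' hv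
  have hsum := finrank_fix_add_moved hodd
  have hcases : finrank F2 (moved C) = 0 ∨ finrank F2 (moved C) = finrank F2 V := by
    by_contra hne
    push Not at hne
    have h1 : 2 ^ finrank F2 (moved C) < 2 ^ finrank F2 V := Nat.pow_lt_pow_right one_lt_two (by omega)
    have h2 : 2 ^ 1 ≤ 2 ^ finrank F2 (moved C) := Nat.pow_le_pow_right two_pos (by omega)
    have := Nat.le_of_dvd (by omega) h
    omega
  rcases hcases with h0 | h0
  · exfalso
    have hone : C = ⊥ := by
      rw [Subgroup.eq_bot_iff_forall]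
      intro c hc
      have hm : moved C = ⊥ := Submodule.finrank_eq_zero.1 h0
      refine LinearEquiv.ext fun v => ?_
      have := add_total_mem_moved hodd v
      rw [hm, Submodule.mem_bot] at this
      have hv : v = total C v := ((eq_add_of_add_eq this).trans (add_zero _)).symm
      calc c v = c (total C v) := by rw [← hv]
        _ = total C v := smul_total hc v
        _ = v := hv.symm
    have := hC.card
    rw [hone, Subgroup.card_bot] at this
    exact hC.prime.one_lt.ne this
  · exact Submodule.finrank_eq_zero.1 (by omega)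

theorem trans {v w : V} (hv : v ≠ 0) (hw : w ≠ 0) : ∃ c ∈ C, c v = w := by
  haveI : Module.Finite F2 V := Module.Finite.of_finite
  haveI : Finite (V ≃ₗ[F2] V) := finite_equiv
  have hcard : (orbit C v).ncard = 2 ^ finrank F2 V - 1 := by
    have h := Subgroup.index_dvd_card (stabilizer C v)
    rw [index_stabilizer, hC.card] at h
    rcases (Nat.dvd_prime hC.prime).1 h with h | h
    · exfalso
      obtain ⟨a, ha⟩ := Set.ncard_eq_one.1 h
      have hmem : ∀ c ∈ C, c v = v := fun c hc => by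
        have h1 : c v ∈ orbit C v := ⟨⟨c, hc⟩, rfl⟩
        have h2 : v ∈ orbit C v := mem_orbit_self v
        rw [ha, Set.mem_singleton_iff] at h1 h2
        exact h1.trans h2.symm
      exact hv (by rw [← Submodule.mem_bot F2, ← hC.fix_eq_bot]; exact hmem)
    · exact h
  have hsub : orbit C v ⊆ ({0} : Set V)ᶜ := by
    rintro u ⟨c, rfl⟩
    exact (LinearEquiv.map_ne_zero_iff (c : V ≃ₗ[F2] V)).2 hv
  have hall := Set.eq_of_subset_of_ncard_le hsub (by
    rw [hcard, Set.ncard_compl, Set.ncard_singleton, natCard_eq_pow_finrank (K := F2) (V := V), Nat.card_zmod])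
    (Set.toFinite _)
  obtain ⟨c, hc⟩ := (hall.ge (by simpa using hw) : w ∈ orbit C v)
  exact ⟨c, c.2, hc⟩

theorem isCyclic : IsCyclic C :=
  haveI : Fact (2 ^ finrank F2 V - 1).Prime := ⟨hC.prime⟩
  isCyclic_of_prime_card hC.card

theorem irredComm : IrredComm (C : Set (V ≃ₗ[F2] V)) := by
  haveI := hC.isCyclic
  refine ⟨fun a ha b hb => ?_, fun W hW => ?_⟩
  · letI : CommGroup C := IsCyclic.commGroup
    exact congrArg Subtype.val (mul_comm (⟨a, ha⟩ : C) ⟨b, hb⟩)
  · rcases eq_or_ne W ⊥ with h | h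
    · exact Or.inl h
    · obtain ⟨v, hv, hv0⟩ := W.ne_bot_iff.1 h
      refine Or.inr (eq_top_iff.2 fun w _ => ?_)
      rcases eq_or_ne w 0 with rfl | hw
      · exact zero_mem _
      obtain ⟨c, hc, rfl⟩ := hC.trans hv0 hw
      exact hW c hc v hv

theorem nontrivial : Nontrivial V :=
  haveI : Module.Finite F2 V := Module.Finite.of_finite
  Module.nontrivial_of_finrank_pos (R := F2) hC.dim_prime.pos

/-- The field of multipliers. -/
theorem exists_mult {G : Subgroup (V ≃ₗ[F2] V)} (hle : C ≤ G) :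
    ∃ μ : V →ₗ[F2] Module.End F2 V, Mult G μ := by
  haveI := hC.nontrivial
  obtain ⟨v0, hv0⟩ := exists_ne (0 : V)
  have h := hC.irredComm
  refine ⟨(Subalgebra.toSubmodule (alg (C : Set (V ≃ₗ[F2] V)))).subtype ∘ₗ (h.evalEquiv hv0).symm.toLinearMap,
    fun v hv => ?_⟩
  obtain ⟨c, hc, hcv⟩ := hC.trans hv0 hv
  refine ⟨c, hle hc, fun u => ?_⟩
  have : (h.evalEquiv hv0).symm v = ⟨toEnd c, h.toEnd_mem hc⟩ := by
    rw [LinearEquiv.symm_apply_eq]
    exact hcv.symm
  rw [LinearMap.comp_apply, LinearEquiv.coe_coe, this]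
  rfl

/-- A group normalising the cyclic group has order the prime times `1` or `n`. -/
theorem card_normalizing {H : Subgroup (V ≃ₗ[F2] V)} (hle : C ≤ H)
    (hH : H ≤ Subgroup.normalizer (C : Set (V ≃ₗ[F2] V))) :
    ∃ k, (k = 1 ∨ k = finrank F2 V) ∧ Nat.card H = k * (2 ^ finrank F2 V - 1) := by
  classical
  haveI : Module.Finite F2 V := Module.Finite.of_finite
  haveI : Finite (V ≃ₗ[F2] V) := finite_equiv
  haveI := hC.nontrivial
  haveI := hC.isCyclic
  set n := finrank F2 V with hn
  obtain ⟨v0, hv0⟩ := exists_ne (0 : V)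
  set S := stabilizer H v0
  obtain ⟨g, hg⟩ := IsCyclic.exists_generator (α := C)
  have hgen : ∀ c ∈ C, ∃ k : ℤ, (g : V ≃ₗ[F2] V) ^ k = c := fun c hc => by
    obtain ⟨k, hk⟩ := hg ⟨c, hc⟩
    exact ⟨k, congrArg Subtype.val hk⟩
  have hirr1 : IrredComm ({(g : V ≃ₗ[F2] V)} : Set (V ≃ₗ[F2] V)) := by
    refine ⟨fun a ha b hb => by rw [Set.mem_singleton_iff.1 ha, Set.mem_singleton_iff.1 hb],
      fun W hW => hC.irredComm.irred W fun c hc w hw => ?_⟩
    obtain ⟨k, rfl⟩ := hgen c hc
    exact (zpow_mem (mem_stabSub_of_le fun v hv => hW _ rfl v hv) k w).2 hw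
  have hcomm : ∀ h : V ≃ₗ[F2] V, h * g = g * h → ∀ c ∈ C, h * c = c * h := fun h hh c hc => by
    obtain ⟨k, rfl⟩ := hgen c hc
    exact Commute.zpow_right hh k
  have hinj : ∀ h : V ≃ₗ[F2] V, h * g = g * h → h v0 = v0 → h = 1 := fun h hh hv => by
    refine toEnd_injective (hirr1.apply_inj (hirr1.mem_alg_of_commute fun a ha => ?_)
      (by rw [map_one]; exact one_mem _) hv0 (by simpa using hv))
    rw [Set.mem_singleton_iff.1 ha, ← map_mul, ← map_mul, hh]
  have hconj : ∀ h : S, Commute (((h : H) : V ≃ₗ[F2] V) * g * ((h : H) : V ≃ₗ[F2] V)⁻¹) g := fun h => by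
    obtain ⟨k, hk⟩ := hgen _ ((Subgroup.mem_normalizer_iff.1 (hH (h : H).2) g.1).1 g.2)
    rw [← hk]
    exact Commute.zpow_left (Commute.refl _) k
  have hexp : ∀ h : S, h ^ n = 1 := fun h => by
    refine Subtype.ext (Subtype.ext (hinj _ ?_ ?_))
    · simpa using (commute_pow_dim hirr1 (hconj h)).eq
    · exact congrArg (fun z : V => z) ((h ^ n).2 : ((h ^ n : S) : H) • v0 = v0)
  have hle' : Nat.card S ≤ n := by
    haveI := Fintype.ofFinite S
    let f : S → (V ≃ₗ[F2] V) := fun h => ((h : H) : V ≃ₗ[F2] V) * g * ((h : H) : V ≃ₗ[F2] V)⁻¹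
    have hf : Function.Injective f := fun a b hab => by
      have h1 := hinj (((a⁻¹ * b : S) : H) : V ≃ₗ[F2] V) ?_ ((a⁻¹ * b).2)
      · exact inv_mul_eq_one.1 (Subtype.ext (Subtype.ext h1))
      · simp only [Subgroup.coe_mul, Subgroup.coe_inv]
        calc ((a : H) : V ≃ₗ[F2] V)⁻¹ * ((b : H) : V ≃ₗ[F2] V) * g
            = ((a : H) : V ≃ₗ[F2] V)⁻¹ * f b * ((b : H) : V ≃ₗ[F2] V) := by simp only [f]; group
          _ = ((a : H) : V ≃ₗ[F2] V)⁻¹ * f a * ((b : H) : V ≃ₗ[F2] V) := by rw [hab]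
          _ = g * (((a : H) : V ≃ₗ[F2] V)⁻¹ * ((b : H) : V ≃ₗ[F2] V)) := by simp only [f]; group
    have := hirr1.card_conj_le (Set.mem_singleton _) (Finset.univ.image f) fun b hb => by
      obtain ⟨h, -, rfl⟩ := Finset.mem_image.1 hb
      exact ⟨_, rfl, fun c hc => by rw [Set.mem_singleton_iff.1 hc]; exact hconj h⟩
    rwa [Finset.card_image_of_injective _ hf, Finset.card_univ, ← Nat.card_eq_fintype_card] at this
  haveI : Fact n.Prime := ⟨hC.dim_prime⟩
  have hpg : IsPGroup n S := fun h => ⟨1, by rw [pow_one]; exact hexp h⟩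
  obtain ⟨j, hj⟩ := IsPGroup.iff_card.1 hpg
  have hS : Nat.card S = 1 ∨ Nat.card S = n := by
    rcases j with _ | _ | j
    · exact Or.inl (by simpa using hj)
    · exact Or.inr (by simpa using hj)
    · exfalso
      rw [hj] at hle'
      have h2 := hC.dim_prime.two_le
      have : n ^ 2 ≤ n ^ (j + 1 + 1) := Nat.pow_le_pow_right (by omega) (by omega)
      rw [pow_two] at this
      nlinarith
  refine ⟨Nat.card S, hS, ?_⟩
  rw [← Subgroup.card_mul_index S, index_stabilizer]
  congr 1
  have horb : orbit H v0 = ({0} : Set V)ᶜ := by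
    ext u
    constructor
    · rintro ⟨h, rfl⟩
      exact (LinearEquiv.map_ne_zero_iff (h : V ≃ₗ[F2] V)).2 hv0
    · intro hu
      obtain ⟨c, hc, hcu⟩ := hC.trans hv0 hu
      exact ⟨⟨c, hle hc⟩, hcu⟩
  rw [horb, Set.ncard_compl, Set.ncard_singleton, natCard_eq_pow_finrank (K := F2) (V := V), Nat.card_zmod]

/-- The number of conjugates of the cyclic group is one modulo its order. -/
theorem exists_count {G : Subgroup (V ≃ₗ[F2] V)} (hle : C ≤ G) :
    ∃ k t, (k = 1 ∨ k = finrank F2 V) ∧ Nat.card G = k * (2 ^ finrank F2 V - 1) * t ∧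
      t ≡ 1 [MOD 2 ^ finrank F2 V - 1] := by
  haveI : Module.Finite F2 V := Module.Finite.of_finite
  haveI : Finite (V ≃ₗ[F2] V) := finite_equiv
  set p := 2 ^ finrank F2 V - 1 with hp
  haveI : Fact p.Prime := ⟨hC.prime⟩
  set C' := C.subgroupOf G
  have hC' : Nat.card C' = p := (Nat.card_congr (Subgroup.subgroupOfEquivOfLe hle).toEquiv).trans hC.card
  have hp' : IsPGroup p C' := IsPGroup.of_card (n := 1) (by rw [pow_one, hC'])
  obtain ⟨P, hP⟩ := hp'.exists_le_sylow
  set N := (Subgroup.normalizer (C' : Set G)).map G.subtype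
  have hCN : C ≤ N := fun c hc => ⟨⟨c, hle hc⟩, Subgroup.le_normalizer (show (⟨c, hle hc⟩ : G) ∈ C' from hc), rfl⟩
  have hNC : N ≤ Subgroup.normalizer (C : Set (V ≃ₗ[F2] V)) := by
    rintro _ ⟨g, hg, rfl⟩
    refine Subgroup.mem_normalizer_iff.2 fun c => ⟨fun hc => ?_, fun hc => ?_⟩
    · exact (Subgroup.mem_normalizer_iff.1 hg ⟨c, hle hc⟩).1 hc
    · have hcG : c ∈ G := by
        have := mul_mem (mul_mem (inv_mem g.2) (hle hc)) g.2
        simpa [mul_assoc] using this
      exact (Subgroup.mem_normalizer_iff.1 hg ⟨c, hcG⟩).2 hc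
  obtain ⟨k, hk, hkN⟩ := hC.card_normalizing hCN hNC
  rw [Subgroup.card_map_of_injective G.subtype_injective] at hkN
  have hkp : ¬ p ∣ k := by
    have h2 := hC.dim_prime.two_le
    have hlt : finrank F2 V < p := by
      have : ∀ n, 2 ≤ n → n < 2 ^ n - 1 := fun n hn => by
        induction n, hn using Nat.le_induction with
        | base => norm_num
        | succ n _ ih => rw [pow_succ]; omega
      exact this _ h2
    rcases hk with rfl | rfl
    · rw [Nat.dvd_one]; exact hC.prime.ne_one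
    · exact fun h => absurd (Nat.le_of_dvd (by omega) h) (by omega)
  have hPC : (P : Subgroup G) = C' := by
    by_contra hne
    haveI : Group.IsNilpotent (P : Subgroup G) := P.2.isNilpotent
    have hlt : C'.subgroupOf P < ⊤ := lt_top_iff_ne_top.2 fun h => hne (le_antisymm
      (Subgroup.subgroupOf_eq_top.1 h) hP)
    obtain ⟨x, hxN, hxC⟩ := SetLike.exists_of_lt (Group.normalizerCondition_of_isNilpotent _ hlt)
    have hx : (x : G) ∈ Subgroup.normalizer (C' : Set G) := by
      refine Subgroup.mem_normalizer_iff.2 fun c => ⟨fun hc => ?_, fun hc => ?_⟩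
      · exact (Subgroup.mem_normalizer_iff.1 hxN ⟨c, hP hc⟩).1 hc
      · have hcP : c ∈ (P : Subgroup G) := by
          have := mul_mem (mul_mem (inv_mem x.2) (hP hc)) x.2
          simpa [mul_assoc] using this
        exact (Subgroup.mem_normalizer_iff.1 hxN ⟨c, hcP⟩).2 hc
    have hpg : IsPGroup p ((Subgroup.normalizer (C' : Set G)) ⊓ P : Subgroup G) := P.2.to_le inf_le_right
    obtain ⟨i, hi⟩ := IsPGroup.iff_card.1 hpg
    have hdvd := Subgroup.card_dvd_of_le (inf_le_left : Subgroup.normalizer (C' : Set G) ⊓ P ≤ _)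
    rw [hi, hkN] at hdvd
    rcases i with _ | _ | i
    · exact hxC (by
        have hb : Subgroup.normalizer (C' : Set G) ⊓ P = ⊥ := Subgroup.card_eq_one.1 (by simpa using hi)
        have : (x : G) ∈ Subgroup.normalizer (C' : Set G) ⊓ P := ⟨hx, x.2⟩
        rw [hb, Subgroup.mem_bot] at this
        rw [Subgroup.mem_subgroupOf, this]
        exact one_mem _)
    · refine hxC ?_
      have hle2 : C' ≤ Subgroup.normalizer (C' : Set G) ⊓ P := le_inf Subgroup.le_normalizer hP
      have := Subgroup.eq_of_le_of_card_ge hle2 (by rw [hi, hC']; simp)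
      rw [Subgroup.mem_subgroupOf, this]
      exact ⟨hx, x.2⟩
    · apply hkp
      have h2 : p * p ∣ k * p := (Dvd.intro (p ^ i) (by rw [pow_succ, pow_succ]; ring)).trans hdvd
      exact Nat.dvd_of_mul_dvd_mul_right hC.prime.pos h2
  refine ⟨k, Nat.card (Sylow p G), hk, ?_, card_sylow_modEq_one p G⟩
  rw [P.card_eq_index_normalizer, show (P : Set G) = (C' : Set G) by rw [← hPC]; rfl, ← hkN]
  exact (Subgroup.card_mul_index _).symm

end IsSingerC

end CfsgLib.SingerOver
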