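import Cfsg.Agent.Lib.SingerOver.Hyperplane
import Cfsg.Agent.Lib.SingerOver.Cases
import Cfsg.Agent.Lib.SingerOver.Arith
import Cfsg.Agent.Lib.SingerOver.Singer
import Cfsg.Agent.Lib.SingerOver.FlagOrder
import Cfsg.Agent.Lib.McLaughlin.Generation
import Cfsg.Agent.S0675

/-!
Linear groups over two elements that are transitive on the non-zero vectors in a dimension `n` with `2 ^ n - 1`
prime.
-/

set_option linter.style.haveILetI false

namespace CfsgLib.SingerOver

open MulAction Module

variable {V : Type*} [AddCommGroup V] [Module F2 V] [Finite V] {G : Subgroup (V ≃ₗ[F2] V)}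

theorem exists_transvection_fun {g : V ≃ₗ[F2] V} {x : V} (hx : x ≠ 0) (h : ∀ v, g v = v ∨ g v = v + x) :
    ∃ φ : Dual F2 V, φ x = 0 ∧ ∀ v, g v = v + φ v • x := by
  obtain ⟨ψ, hψ⟩ := exists_fun_one hx
  set φ : Dual F2 V := ψ.comp (g.toLinearMap + LinearMap.id) with hφ
  have hall : ∀ v, g v = v + φ v • x := fun v => by
    rcases h v with h' | h'
    · have : φ v = 0 := by simp [hφ, h', add_self_f2]
      rw [this, zero_smul, add_zero, h']
    · have : φ v = 1 := by
        simp only [hφ, LinearMap.comp_apply, LinearMap.add_apply, LinearEquiv.coe_coe, LinearMap.id_apply, h']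
        rw [add_right_comm, add_self_f2, zero_add, hψ]
      rw [this, one_smul, h']
  refine ⟨φ, ?_, hall⟩
  rcases f2_cases (φ x) with h' | h'
  · exact h'
  · have := hall x
    rw [h', one_smul, add_self_f2] at this
    exact absurd ((LinearEquiv.map_eq_zero_iff g).1 this) hx

/-- A doubly transitive group with a transvection is the whole linear group. -/
theorem eq_top_of_transvection (hG : Setup G) (hn : 2 ≤ finrank F2 V) (hT : ¬ NoTrans G) : G = ⊤ := by
  haveI : Module.Finite F2 V := Module.Finite.of_finite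
  simp only [NoTrans, not_forall, exists_prop] at hT
  obtain ⟨t, ht, c, htc, ht1⟩ := hT
  have hc : c ≠ 0 := fun h => ht1 (LinearEquiv.ext fun v => by
    rcases htc v with h' | h'
    · exact h'
    · rw [h', h, add_zero]; rfl)
  obtain ⟨ψ, hψc, hψ⟩ := exists_transvection_fun hc htc
  have hψ0 : ψ ≠ 0 := fun h => ht1 (LinearEquiv.ext fun v => by
    rw [hψ v, h]
    simp)
  rw [eq_top_iff]
  intro g _
  refine CfsgLib.McLaughlin.mem_of_det_one G (fun g a f hfa hg => ?_) ?_
  · rcases eq_or_ne a 0 with rfl | ha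
    · have : g = 1 := LinearEquiv.ext fun v => by rw [hg v, smul_zero, add_zero]; rfl
      rw [this]; exact one_mem _
    rcases eq_or_ne f 0 with rfl | hf
    · have : g = 1 := LinearEquiv.ext fun v => by rw [hg v]; simp
      rw [this]; exact one_mem _
    obtain ⟨h, hh, hhc⟩ := hG.exists_map hc ha hn
    obtain ⟨k, hk, hkf⟩ := hG.fun_trans ha (f := h • ψ) (fun h0 => hψ0 (LinearMap.ext fun v => by
      rw [← smul_f_apply_map h ψ v, h0]; rfl)) hf (by rw [hfa, ← hhc, smul_f_apply_map, hψc]) hn
    have hkh : (k * h) • ψ = f := by rw [mul_smul, hkf]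
    have hkc : (k * h) c = a := by rw [LinearEquiv.mul_apply, hhc]; exact hk.2
    have : g = (k * h) * t * (k * h)⁻¹ := LinearEquiv.ext fun v => by
      rw [LinearEquiv.mul_apply, LinearEquiv.mul_apply, hg v, hψ, map_add, map_smul, hkc, ← hkh, dual_smul_apply]
      congr 1
      exact ((k * h).apply_symm_apply v).symm
    rw [this]
    exact mul_mem (mul_mem (mul_mem hk.1 hh) ht) (inv_mem (mul_mem hk.1 hh))
  · rcases f2_cases (LinearMap.det (g : V →ₗ[F2] V)) with h | h
    · exact absurd h (LinearEquiv.isUnit_det' g).ne_zero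
    · exact h

theorem not_noTrans_small (hG : Setup G) (hn : finrank F2 V = 2 ∨ finrank F2 V = 3) : ¬ NoTrans G := by
  intro hT
  haveI : Module.Finite F2 V := Module.Finite.of_finite
  haveI : Finite (V ≃ₗ[F2] V) := finite_equiv
  haveI : Nontrivial V := Module.nontrivial_of_finrank_pos (R := F2) (by omega)
  obtain ⟨a, ha⟩ := exists_ne (0 : V)
  obtain ⟨b, hb, hab⟩ : ∃ b, b ≠ 0 ∧ a ≠ b := by
    obtain ⟨φ, hφ, hφa⟩ := exists_fun_zero (by omega : 2 ≤ finrank F2 V) a
    obtain ⟨b, hb, -⟩ := exists_both_one hφ hφ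
    exact ⟨b, fun h => by rw [h, map_zero] at hb; exact zero_ne_one hb,
      fun h => by rw [← h, hφa] at hb; exact zero_ne_one hb⟩
  obtain ⟨g, hg, h1, h2⟩ := hG.two a b b a ha hb hab hb ha (Ne.symm hab)
  have heven : 2 ∣ orderOf g := by
    by_contra hodd
    obtain ⟨k, hk⟩ : Odd (orderOf g) := by rwa [← Nat.not_even_iff_odd, even_iff_two_dvd]
    have key : ∀ i : ℕ, (g ^ (2 * i + 1)) a = b ∧ (g ^ (2 * i + 1)) b = a := by
      intro i
      induction i with
      | zero => simp [h1, h2]
      | succ i ih =>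
        rw [show 2 * (i + 1) + 1 = (2 * i + 1) + 2 by omega, pow_add, pow_two]
        simp only [LinearEquiv.mul_apply, h1, h2, ih.1, ih.2, and_self]
    have := (key k).1
    rw [← hk, pow_orderOf_eq_one] at this
    exact hab this
  set j := g ^ (orderOf g / 2) with hj
  have hjo : orderOf j = 2 := by
    rw [hj, orderOf_pow_of_dvd (by have := orderOf_pos g; omega) (Nat.div_dvd_of_dvd heven),
      Nat.div_div_self heven (orderOf_pos g).ne']
  have hj2 : ∀ v, j (j v) = v := fun v => by
    have := pow_orderOf_eq_one j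
    rw [hjo, pow_two] at this
    exact LinearEquiv.congr_fun this v
  set N : V →ₗ[F2] V := j.toLinearMap + LinearMap.id
  have hle : LinearMap.range N ≤ LinearMap.ker N := by
    rintro _ ⟨v, rfl⟩
    simp only [N, LinearMap.mem_ker, LinearMap.add_apply, LinearEquiv.coe_coe, LinearMap.id_apply, map_add, hj2]
    calc v + j v + (j v + v) = (v + v) + (j v + j v) := by abel
      _ = 0 := by rw [add_self_f2, add_self_f2, add_zero]
  have h3 := LinearMap.finrank_range_add_finrank_ker N
  have h4 := Submodule.finrank_mono hle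
  obtain ⟨v0, hv0⟩ := (finrank_le_one_iff (K := F2) (V := LinearMap.range N)).1 (by omega)
  have hj1 := hT j (pow_mem hg _) v0 fun v => by
    obtain ⟨s, hs⟩ := hv0 ⟨N v, v, rfl⟩
    have hs' := congrArg Subtype.val hs
    simp only [SetLike.val_smul, N, LinearMap.add_apply, LinearEquiv.coe_coe, LinearMap.id_apply] at hs'
    have hjv : j v = v + s • (v0 : V) := by
      rw [hs', add_left_comm, add_self_f2, add_zero]
    rcases f2_cases s with rfl | rfl
    · left; rw [hjv, zero_smul, add_zero]
    · right; rw [hjv, one_smul]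
  rw [hj1, orderOf_one] at hjo
  omega

theorem eq_top_of_setup (hG : Setup G) {C : Subgroup (V ≃ₗ[F2] V)} (hC : IsSingerC C) (hle : C ≤ G) : G = ⊤ := by
  haveI : Module.Finite F2 V := Module.Finite.of_finite
  haveI : Finite (V ≃ₗ[F2] V) := finite_equiv
  have hn2 := hC.dim_prime.two_le
  by_contra hne
  have hT : NoTrans G := by
    by_contra h
    exact hne (eq_top_of_transvection hG hn2 h)
  rcases Nat.lt_or_ge (finrank F2 V) 4 with hsmall | hbig
  · exact not_noTrans_small hG (by omega) hT
  have hn4 : finrank F2 V ≠ 4 := fun h => by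
    have := hC.dim_prime
    rw [h] at this
    norm_num at this
  have hn5 : 5 ≤ finrank F2 V := by omega
  haveI := hC.nontrivial
  obtain ⟨μ, hμ⟩ := hC.exists_mult hle
  obtain ⟨x, hx⟩ := exists_ne (0 : V)
  obtain ⟨φ, hφ, hφx⟩ := exists_fun_zero hn2 x
  obtain ⟨y, hy', -⟩ := exists_both_one hφ hφ
  have hy : y ≠ 0 := fun h => by rw [h, map_zero] at hy'; exact zero_ne_one hy'
  have hxy : x ≠ y := fun h => by rw [← h, hφx] at hy'; exact zero_ne_one hy'
  -- the order of the group
  obtain ⟨k, t, hk, hcard, ht⟩ := hC.exists_count hle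
  obtain ⟨a, ha⟩ := card_lineStab_dvd (G := G) hx hy hxy
  set p := 2 ^ finrank F2 V - 1
  have hGcard : Nat.card G = p * ((2 ^ (finrank F2 V - 1) - 1) * Nat.card (lineStab G x y)) := by
    have h1 := index_inf_pt hG hx hy hxy
    rw [← Subgroup.relIndex_mul_relIndex _ _ _ (inf_le_lineStab (G := G) x y) (lineStab_le x y),
      relIndex_two hG hx hy hxy] at h1
    have hrel : (lineStab G x y).relIndex (pt G x) = 2 ^ (finrank F2 V - 1) - 1 := by
      obtain ⟨m, hm⟩ : ∃ m, finrank F2 V = m + 1 := ⟨finrank F2 V - 1, by omega⟩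
      rw [hm, pow_succ] at h1
      rw [hm, Nat.add_sub_cancel]
      omega
    have e : ∀ (A B : Subgroup (V ≃ₗ[F2] V)), A ≤ B → Nat.card A * A.relIndex B = Nat.card B := fun A B hAB => by
      rw [Subgroup.relIndex, ← Nat.card_congr (Subgroup.subgroupOfEquivOfLe hAB).toEquiv]
      exact Subgroup.card_mul_index _
    have hptidx : (pt G x).relIndex G = p := by
      have hst : (pt G x).subgroupOf G = stabilizer G x := by
        ext g
        simp only [Subgroup.mem_subgroupOf, mem_pt, mem_stabilizer_iff]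
        exact ⟨fun h => h.2, fun h => ⟨g.2, h⟩⟩
      have horb : orbit G x = ({0} : Set V)ᶜ := by
        ext u
        constructor
        · rintro ⟨h, rfl⟩
          exact (LinearEquiv.map_ne_zero_iff (h : V ≃ₗ[F2] V)).2 hx
        · intro hu
          obtain ⟨c, hc, hcu⟩ := hC.trans hx hu
          exact ⟨⟨c, hle hc⟩, hcu⟩
      rw [Subgroup.relIndex, hst, index_stabilizer, horb, Set.ncard_compl, Set.ncard_singleton,
        natCard_eq_pow_finrank (K := F2) (V := V), Nat.card_zmod]
    rw [← e (pt G x) G inf_le_left, hptidx, ← e _ _ (lineStab_le x y), hrel]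
    ring
  have hcong : (2 ^ (finrank F2 V - 1) - 1) * Nat.card (lineStab G x y) ≡ k [MOD p] := by
    have hpos : 0 < p := hC.prime.pos
    have : (2 ^ (finrank F2 V - 1) - 1) * Nat.card (lineStab G x y) = k * t :=
      Nat.eq_of_mul_eq_mul_left hpos (by rw [← hGcard, hcard]; ring)
    rw [this]
    simpa using ht.mul_left k
  have hconst : ∀ u v : V, u ≠ 0 → v ≠ 0 → u ≠ v → finrank F2 (dee G u v) = finrank F2 (dee G x y) :=
    fun u v hu hv huv => finrank_dee_eq hG hu hv huv hx hy hxy
  have hflt := finrank_dee_lt hG (by omega) hx hy hxy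
  rcases Nat.lt_or_ge (finrank F2 (dee G x y) + 1) (finrank F2 V) with hf | hf
  · -- codimension at least two
    by_cases h6 : finrank F2 V - finrank F2 (dee G x y) = 6
    · have h3 := le_three_mul_codim hG (by omega) hμ hx hy hxy (by omega)
      have hf2 := two_le_finrank (left_mem_dee (G := G) x y) (right_mem_dee x y) hx hy hxy
      have hn18 : finrank F2 V ≤ 18 := by omega
      rcases (show finrank F2 V = 13 ∨ finrank F2 V = 17 by
        have hp := hC.dim_prime
        have hp' := hC.prime
        have : 8 ≤ finrank F2 V := by omega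
        interval_cases finrank F2 V
        all_goals first
          | exact Or.inl rfl
          | exact Or.inr rfl
          | (exfalso; norm_num at hp; done)
          | (exfalso; norm_num at hp'; done)) with hn | hn
      · have hD : finrank F2 (dee G x y) = 7 := by omega
        rw [hn, hD] at ha
        simp only [p, hn] at hcong
        refine no_count_thirteen (a := a + 25) ?_ (hk.imp_right fun h => h.trans hn) hcong
        refine ha.trans (dvd_of_eq ?_)
        simp only [glCard, Fin.prod_univ_succ, Fin.prod_univ_zero]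
        rw [pow_add]
        norm_num
        ring
      · have hD : finrank F2 (dee G x y) = 11 := by omega
        rw [hn, hD] at ha
        simp only [p, hn] at hcong
        refine no_count_seventeen (a := a + 51) ?_ (hk.imp_right fun h => h.trans hn) hcong
        refine ha.trans (dvd_of_eq ?_)
        simp only [glCard, Fin.prod_univ_succ, Fin.prod_univ_zero]
        rw [pow_add]
        norm_num
        ring
    · exact codim_false hG hT hn5 hC.dim_prime hμ hx hy hxy (by omega) h6
  · -- hyperplanes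
    rcases eq_or_ne (finrank F2 V) 5 with hn | hn
    · have hD : finrank F2 (dee G x y) = 4 := by omega
      rw [hn, hD] at ha
      simp only [p, hn] at hcong
      refine no_count_five (a := a + 1) ?_ (hk.imp_right fun h => h.trans hn) hcong
      refine ha.trans (dvd_of_eq ?_)
      simp only [glCard, Fin.prod_univ_succ, Fin.prod_univ_zero]
      rw [pow_add]
      norm_num
      ring
    · have hn6 : finrank F2 V ≠ 6 := fun h => by
        have := hC.dim_prime
        rw [h] at this
        norm_num at this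
      exact hyperplane_false hG (by omega) (fun u v hu hv huv => by rw [hconst u v hu hv huv]; omega) hμ

/-- Burnside's alternative and the normaliser of a Singer group. -/
theorem cyclic_or_top {H : Subgroup (V ≃ₗ[F2] V)} (hprime : (2 ^ finrank F2 V - 1).Prime)
    (hH : ∀ v w : V, v ≠ 0 → w ≠ 0 → ∃ h ∈ H, h v = w) :
    (∃ C, IsSingerC C ∧ C ≤ H ∧ H ≤ Subgroup.normalizer (C : Set (V ≃ₗ[F2] V))) ∨ H = ⊤ := by
  classical
  haveI : Module.Finite F2 V := Module.Finite.of_finite
  haveI : Finite (V ≃ₗ[F2] V) := finite_equiv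
  haveI := Fintype.ofFinite V
  haveI : Fact (2 ^ finrank F2 V - 1).Prime := ⟨hprime⟩
  haveI : Nontrivial V := Module.nontrivial_of_finrank_pos (R := F2) (Nat.pos_of_ne_zero fun h => by
    rw [h] at hprime; norm_num at hprime)
  obtain ⟨v0, hv0⟩ := exists_ne (0 : V)
  have hpdvd : ∀ A : Subgroup (V ≃ₗ[F2] V), (∀ w, w ≠ 0 → ∃ a ∈ A, a v0 = w) →
      2 ^ finrank F2 V - 1 ∣ Nat.card A := fun A hA => by
    have h := Subgroup.index_dvd_card (stabilizer A v0)
    have horb : orbit A v0 = ({0} : Set V)ᶜ := by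
      ext u
      constructor
      · rintro ⟨g, rfl⟩
        exact (LinearEquiv.map_ne_zero_iff (g : V ≃ₗ[F2] V)).2 hv0
      · intro hu
        obtain ⟨c, hc, hcu⟩ := hA u hu
        exact ⟨⟨c, hc⟩, hcu⟩
    rwa [index_stabilizer, horb, Set.ncard_compl, Set.ncard_singleton, natCard_eq_pow_finrank (K := F2) (V := V),
      Nat.card_zmod] at h
  have hsinger : ∀ A : Subgroup (V ≃ₗ[F2] V), 2 ^ finrank F2 V - 1 ∣ Nat.card A → ∃ C, IsSingerC C ∧ C ≤ A := by
    intro A hA
    obtain ⟨c, hc⟩ := exists_prime_orderOf_dvd_card' (2 ^ finrank F2 V - 1) hA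
    exact ⟨Subgroup.zpowers (c : V ≃ₗ[F2] V), ⟨hprime, by rw [Nat.card_zpowers, Subgroup.orderOf_coe, hc]⟩,
      Subgroup.zpowers_le.2 c.2⟩
  obtain ⟨C, hC, hCH⟩ := hsinger H (hpdvd H fun w hw => hH v0 w hv0 hw)
  -- the permutations of the non-zero vectors
  letI act : MulAction H {v : V // v ≠ 0} :=
    { smul := fun h v => ⟨(h : V ≃ₗ[F2] V) v, (LinearEquiv.map_ne_zero_iff _).2 v.2⟩
      one_smul := fun v => Subtype.ext rfl
      mul_smul := fun _ _ _ => Subtype.ext rfl }
  set φ := MulAction.toPermHom H {v : V // v ≠ 0}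
  have hφinj : Function.Injective φ := (injective_iff_map_eq_one φ).2 fun h hh => Subtype.ext (LinearEquiv.ext fun v => by
    rcases eq_or_ne v 0 with rfl | hv
    · rw [map_zero]; rfl
    · exact congrArg Subtype.val (Equiv.congr_fun hh ⟨v, hv⟩))
  haveI : MulAction.IsPretransitive φ.range {v : V // v ≠ 0} := ⟨fun u w => by
    obtain ⟨h, hh, he⟩ := hH u w u.2 w.2
    exact ⟨⟨φ ⟨h, hh⟩, _, rfl⟩, Subtype.ext he⟩⟩
  have hcardα : Fintype.card {v : V // v ≠ 0} = 2 ^ finrank F2 V - 1 := by
    rw [Fintype.card_subtype_compl, Fintype.card_subtype_eq, ← Nat.card_eq_fintype_card,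
      natCard_eq_pow_finrank (K := F2) (V := V), Nat.card_zmod]
  rcases Cfsg.Agent.S0675.result (hcardα ▸ hprime) φ.range with hsol | h2
  · left
    haveI : Group.IsSolvable H := Group.isSolvable_of_isSolvable_injective (f := φ.rangeRestrict)
      (fun a b hab => hφinj (congrArg Subtype.val hab))
    -- the last non-trivial derived subgroup
    obtain ⟨A, hAn, hAc, hA1⟩ : ∃ A : Subgroup H, A.Normal ∧ (∀ a ∈ A, ∀ b ∈ A, a * b = b * a) ∧ A ≠ ⊥ := by
      obtain ⟨m, hm⟩ := (Group.isSolvable_def H).1 inferInstance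
      have hex : ∃ j, derivedSeries H j = ⊥ := ⟨m, hm⟩
      set j := Nat.find hex
      have hj : derivedSeries H j = ⊥ := Nat.find_spec hex
      have hj0 : j ≠ 0 := fun h0 => by
        rw [h0, derivedSeries_zero] at hj
        obtain ⟨w, hw⟩ := hC.trans hv0 hv0
        have hbot : ∀ h : H, h = 1 := fun h => by
          have : h ∈ (⊤ : Subgroup H) := trivial
          rwa [hj, Subgroup.mem_bot] at this
        have h1 : C = ⊥ := (Subgroup.eq_bot_iff_forall C).2 fun c hc => congrArg Subtype.val (hbot ⟨c, hCH hc⟩)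
        have := hC.card
        rw [h1, Subgroup.card_bot] at this
        exact hprime.one_lt.ne this
      obtain ⟨i, hi⟩ := Nat.exists_eq_succ_of_ne_zero hj0
      rw [hi, Nat.succ_eq_add_one, derivedSeries_succ] at hj
      refine ⟨derivedSeries H i, derivedSeries_normal H i, fun a ha b hb => ?_, fun h => ?_⟩
      · have := Subgroup.commutator_mem_commutator ha hb
        rw [hj, Subgroup.mem_bot, commutatorElement_eq_one_iff_mul_comm] at this
        exact this
      · exact Nat.find_min hex (m := i) (by omega) h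
    set B := A.map H.subtype with hB
    have hBH : B ≤ H := Subgroup.map_subtype_le A
    have hBn : ∀ h ∈ H, ∀ b ∈ B, h * b * h⁻¹ ∈ B := by
      rintro h hh _ ⟨b, hb, rfl⟩
      exact ⟨⟨h, hh⟩ * b * ⟨h, hh⟩⁻¹, hAn.conj_mem b hb ⟨h, hh⟩, rfl⟩
    have hBc : ∀ a ∈ B, ∀ b ∈ B, a * b = b * a := by
      rintro _ ⟨a, ha, rfl⟩ _ ⟨b, hb, rfl⟩
      exact congrArg Subtype.val (hAc a ha b hb)
    have hBtrans : ∀ w, w ≠ 0 → ∃ b ∈ B, b v0 = w := by
      by_contra hno
      push Not at hno
      -- otherwise the Singer group separates every orbit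
      have hfix : ∀ v : V, v ≠ 0 → ∀ b ∈ B, b v = v := by
        intro v hv b hb
        let T : Subgroup (V ≃ₗ[F2] V) :=
          { carrier := {c | c ∈ H ∧ ∃ b ∈ B, c v = b v}
            one_mem' := ⟨one_mem _, 1, one_mem _, rfl⟩
            mul_mem' := by
              rintro c d ⟨hc, b1, hb1, hcv⟩ ⟨hd, b2, hb2, hdv⟩
              refine ⟨mul_mem hc hd, c * b2 * c⁻¹ * b1, mul_mem (hBn c hc b2 hb2) hb1, ?_⟩
              simp only [LinearEquiv.mul_apply, hdv, ← hcv]
              exact congrArg (fun z => c (b2 z)) (c.symm_apply_apply v).symm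
            inv_mem' := by
              rintro c ⟨hc, b1, hb1, hcv⟩
              refine ⟨inv_mem hc, c⁻¹ * b1⁻¹ * c, by simpa using hBn c⁻¹ (inv_mem hc) _ (inv_mem hb1), ?_⟩
              simp only [LinearEquiv.mul_apply, hcv]
              exact congrArg (fun z => c⁻¹ z) (b1.symm_apply_apply v).symm }
        rcases (Nat.dvd_prime hprime).1 (hC.card ▸ Subgroup.card_dvd_of_le (inf_le_left : C ⊓ T ≤ C)) with h | h
        · obtain ⟨c, hc, hcv⟩ := hC.trans hv ((LinearEquiv.map_ne_zero_iff b).2 hv)
          have hcT : c ∈ C ⊓ T := ⟨hc, hCH hc, b, hb, hcv⟩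
          rw [Subgroup.card_eq_one.1 h, Subgroup.mem_bot] at hcT
          rw [← hcv, hcT]
          rfl
        · exfalso
          obtain ⟨w, hw, hwno⟩ := hno
          have hCT : C ⊓ T = C := Subgroup.eq_of_le_of_card_ge inf_le_left (by rw [h, hC.card])
          have hinT : ∀ c ∈ C, ∃ b ∈ B, c v = b v := fun c hc => (hCT.ge hc).2.2
          obtain ⟨c1, hc1, hc1v⟩ := hC.trans hv hv0
          obtain ⟨c2, hc2, hc2v⟩ := hC.trans hv hw
          obtain ⟨b1, hb1, e1⟩ := hinT c1 hc1
          obtain ⟨b2, hb2, e2⟩ := hinT c2 hc2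
          refine hwno (b2 * b1⁻¹) (mul_mem hb2 (inv_mem hb1)) ?_
          rw [LinearEquiv.mul_apply, ← hc2v, e2, ← hc1v, e1]
          exact congrArg b2 (b1.symm_apply_apply v)
      apply hA1
      rw [← Subgroup.map_eq_bot_iff_of_injective _ H.subtype_injective, ← hB, Subgroup.eq_bot_iff_forall]
      intro b hb
      refine LinearEquiv.ext fun v => ?_
      rcases eq_or_ne v 0 with rfl | hv
      · rw [map_zero]; rfl
      · exact hfix v hv b hb
    obtain ⟨C', hC', hC'B⟩ := hsinger B (hpdvd B hBtrans)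
    have hBC : B = C' := by
      refine le_antisymm (fun b hb => ?_) hC'B
      obtain ⟨c, hc, hcb⟩ := hC'.trans hv0 ((LinearEquiv.map_ne_zero_iff b).2 hv0)
      have : toEnd b = toEnd c := hC'.irredComm.apply_inj
        (hC'.irredComm.mem_alg_of_commute fun a ha => by rw [← map_mul, ← map_mul, hBc b hb a (hC'B ha)])
        (hC'.irredComm.toEnd_mem hc) hv0 hcb.symm
      rwa [toEnd_injective this]
    refine ⟨C', hC', hBC ▸ hBH, fun h hh => Subgroup.mem_normalizer_iff.2 fun c => ⟨fun hc => ?_, fun hc => ?_⟩⟩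
    · rw [← hBC] at hc ⊢; exact hBn h hh c hc
    · rw [← hBC] at hc ⊢
      have := hBn h⁻¹ (inv_mem hh) _ hc
      simpa [mul_assoc] using this
  · right
    refine eq_top_of_setup ⟨fun a b c d ha hb hab hc hd hcd => ?_⟩ hC hCH
    have hne1 : (⟨a, ha⟩ : {v : V // v ≠ 0}) ≠ ⟨b, hb⟩ := fun e => hab (congrArg Subtype.val e)
    have hne2 : (⟨c, hc⟩ : {v : V // v ≠ 0}) ≠ ⟨d, hd⟩ := fun e => hcd (congrArg Subtype.val e)
    obtain ⟨⟨_, h, rfl⟩, h1, h2'⟩ := is_two_pretransitive_iff.1 h2 hne1 hne2
    exact ⟨h, h.2, congrArg Subtype.val h1, congrArg Subtype.val h2'⟩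

end CfsgLib.SingerOver
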