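import Cfsg.Agent.Lib.SingerOver.Fixed

/-!
A group normalising an `ℓ`-group that moves a space of dimension at most twice the order of two modulo `ℓ` has
its second derived group centralise an `ℓ`-group without fixed vectors there.
-/

set_option linter.style.haveILetI false

namespace CfsgLib.SingerOver

open MulAction Module
open scoped commutatorElement

theorem commutator_comm_cyclic {Γ : Type*} [Group Γ] (C : Subgroup Γ) [IsCyclic C] {a b : Γ}
    (ha : ∀ c ∈ C, a * c * a⁻¹ ∈ C) (hb : ∀ c ∈ C, b * c * b⁻¹ ∈ C)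
    (ha' : ∀ c ∈ C, a⁻¹ * c * a ∈ C) (hb' : ∀ c ∈ C, b⁻¹ * c * b ∈ C) {c : Γ} (hc : c ∈ C) :
    ⁅a, b⁆ * c = c * ⁅a, b⁆ := by
  obtain ⟨g, hg⟩ := IsCyclic.exists_generator (α := C)
  have hpow : ∀ d ∈ C, ∃ k : ℤ, d = (g : Γ) ^ k := fun d hd => by
    obtain ⟨k, hk⟩ := hg ⟨d, hd⟩
    exact ⟨k, (congrArg Subtype.val hk).symm.trans rfl⟩
  obtain ⟨α, hα⟩ := hpow _ (ha g g.2)
  obtain ⟨β, hβ⟩ := hpow _ (hb g g.2)
  have happ : ∀ (u : Γ) (m : ℤ) (γ : ℤ), u * g * u⁻¹ = (g : Γ) ^ γ → u * (g : Γ) ^ m * u⁻¹ = (g : Γ) ^ (γ * m) :=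
    fun u m γ h => by rw [← MulAut.conj_apply, map_zpow, MulAut.conj_apply, h, ← zpow_mul]
  have hswap : ∀ d ∈ C, (a * b) * d * (a * b)⁻¹ = (b * a) * d * (b * a)⁻¹ := fun d hd => by
    obtain ⟨m, rfl⟩ := hpow d hd
    calc (a * b) * (g : Γ) ^ m * (a * b)⁻¹ = a * (b * (g : Γ) ^ m * b⁻¹) * a⁻¹ := by group
      _ = (g : Γ) ^ (α * (β * m)) := by rw [happ b m β hβ, happ a _ α hα]
      _ = (g : Γ) ^ (β * (α * m)) := by rw [mul_left_comm]
      _ = b * (a * (g : Γ) ^ m * a⁻¹) * b⁻¹ := by rw [happ a m α hα, happ b _ β hβ]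
      _ = (b * a) * (g : Γ) ^ m * (b * a)⁻¹ := by group
  have hd : a⁻¹ * (b⁻¹ * c * b) * a ∈ C := ha' _ (hb' c hc)
  have h := hswap _ hd
  rw [commutatorElement_def]
  calc a * b * a⁻¹ * b⁻¹ * c = (a * b) * (a⁻¹ * (b⁻¹ * c * b) * a) * (a * b)⁻¹ * (a * b * a⁻¹ * b⁻¹) := by group
    _ = (b * a) * (a⁻¹ * (b⁻¹ * c * b) * a) * (b * a)⁻¹ * (a * b * a⁻¹ * b⁻¹) := by rw [h]
    _ = c * (a * b * a⁻¹ * b⁻¹) := by group

variable {V : Type*} [AddCommGroup V] [Module F2 V]

theorem conj_mem_of_normalizer {R : Subgroup (V ≃ₗ[F2] V)} {g : V ≃ₗ[F2] V}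
    (hg : g ∈ Subgroup.normalizer (R : Set (V ≃ₗ[F2] V))) :
    (∀ c ∈ R, g * c * g⁻¹ ∈ R) ∧ ∀ c ∈ R, g⁻¹ * c * g ∈ R :=
  ⟨fun c hc => (Subgroup.mem_normalizer_iff.1 hg c).1 hc, fun c hc => (Subgroup.mem_normalizer_iff''.1 hg c).1 hc⟩

variable [Finite V] {ℓ : ℕ} [Fact ℓ.Prime]

/-- An invariant subspace without fixed vectors and with dimension the order of two modulo `ℓ` carries a cyclic
image. -/
theorem isCyclic_image {P : Subgroup (V ≃ₗ[F2] V)} (hP : IsPGroup ℓ P) {U : Submodule F2 V}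
    (hU : P ≤ stabSub U) (h0 : ∀ u ∈ U, u ∈ fix P → u = 0) (hdim : finrank F2 U = orderOf (2 : ZMod ℓ)) :
    IsCyclic (restr hU).range := by
  haveI : Module.Finite F2 V := Module.Finite.of_finite
  haveI : Finite U := inferInstance
  haveI : Finite (U ≃ₗ[F2] U) := finite_equiv
  set Pb := (restr hU).range with hPb
  have hp : IsPGroup ℓ Pb := hP.of_surjective (restr hU).rangeRestrict (restr hU).rangeRestrict_surjective
  rcases subsingleton_or_nontrivial Pb with h | h
  · exact isCyclic_of_subsingleton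
  haveI := hp.center_nontrivial
  obtain ⟨c, hc⟩ := exists_ne (1 : Subgroup.center Pb)
  set r : U ≃ₗ[F2] U := (c.1 : U ≃ₗ[F2] U)
  have hcomm : ∀ q ∈ Pb, q * r = r * q := fun q hq =>
    congrArg Subtype.val (Subgroup.mem_center_iff.1 c.2 ⟨q, hq⟩)
  have hr1 : r ≠ 1 := fun h1 => hc (Subtype.ext (Subtype.ext h1))
  haveI : Nontrivial U := by
    by_contra hn
    rw [not_nontrivial_iff_subsingleton] at hn
    exact hr1 (LinearEquiv.ext fun x => Subsingleton.elim _ _)
  have hfix0 : ∀ u : U, u ∈ fix Pb → u = 0 := fun u hu => Subtype.ext <| h0 u u.2 fun q hq =>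
    congrArg Subtype.val (hu (restr hU ⟨q, hq⟩) ⟨⟨q, hq⟩, rfl⟩)
  have hfree : ∀ u : U, r u = u → u = 0 := by
    intro u hu
    by_contra hu0
    set W : Submodule F2 U := fix (Subgroup.zpowers r)
    have huW : u ∈ W := fun q hq => by
      obtain ⟨k, rfl⟩ := hq
      have : ∀ m : ℕ, (r ^ m) u = u := fun m => by
        induction m with
        | zero => rfl
        | succ m ih => rw [pow_succ, LinearEquiv.mul_apply, hu, ih]
      obtain ⟨m, rfl | rfl⟩ := k.eq_nat_or_neg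
      · simpa using this m
      · show (r ^ (-(m : ℤ))) u = u
        rw [zpow_neg, zpow_natCast]
        conv_lhs => rw [← this m]
        exact (r ^ m).symm_apply_apply u
    have hWs : Pb ≤ stabSub W := fun q hq => by
      refine mem_stabSub_of_le fun v hv s hs => ?_
      obtain ⟨k, rfl⟩ := hs
      have hk : q * r ^ k = r ^ k * q := (Commute.zpow_right (hcomm q hq) k)
      show (r ^ k) (q v) = q v
      rw [← LinearEquiv.mul_apply, ← hk, LinearEquiv.mul_apply, hv _ ⟨k, rfl⟩]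
    have hd := orderOf_dvd_finrank hp hWs fun v _ hv => hfix0 v hv
    rw [← hdim] at hd
    have hWtop : W = ⊤ := by
      have hne : W ≠ ⊥ := fun hb => hu0 (by rwa [hb, Submodule.mem_bot] at huW)
      refine Submodule.eq_top_of_finrank_eq (le_antisymm (Submodule.finrank_le W) ?_)
      exact Nat.le_of_dvd (Nat.pos_of_ne_zero fun h => hne (Submodule.finrank_eq_zero.1 h)) hd
    exact hr1 (LinearEquiv.ext fun v => (hWtop ▸ Submodule.mem_top : v ∈ W) r (Subgroup.mem_zpowers r))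
  have hirr : IrredComm ({r} : Set (U ≃ₗ[F2] U)) := by
    refine ⟨fun a ha b hb => by rw [Set.mem_singleton_iff.1 ha, Set.mem_singleton_iff.1 hb], fun W hW => ?_⟩
    rcases eq_or_ne W ⊥ with hb | hb
    · exact Or.inl hb
    refine Or.inr (Submodule.eq_top_of_finrank_eq (le_antisymm (Submodule.finrank_le W) ?_))
    have hz : IsPGroup ℓ (Subgroup.zpowers r) := hp.to_le (Subgroup.zpowers_le.2 c.1.2)
    have hs : Subgroup.zpowers r ≤ stabSub W :=
      Subgroup.zpowers_le.2 (mem_stabSub_of_le fun v hv => hW r rfl v hv)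
    have hd := orderOf_dvd_finrank hz hs fun v _ hv => hfree v (hv r (Subgroup.mem_zpowers r))
    rw [← hdim] at hd
    exact Nat.le_of_dvd (Nat.pos_of_ne_zero fun h => hb (Submodule.finrank_eq_zero.1 h)) hd
  exact hirr.isCyclic_of_commute Pb fun q hq a ha => by rw [Set.mem_singleton_iff.1 ha]; exact hcomm q hq

/-- The commutator subgroup of a group of maps normalising a group with cyclic image commutes with it there. -/
theorem commute_on {Q M : Subgroup (V ≃ₗ[F2] V)} {U : Submodule F2 V} (hQ : Q ≤ stabSub U)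
    (hcyc : IsCyclic (restr hQ).range) (hM : M ≤ stabSub U)
    (hnorm : M ≤ Subgroup.normalizer (Q : Set (V ≃ₗ[F2] V))) {u : V ≃ₗ[F2] V} (hu : u ∈ ⁅M, M⁆)
    {q : V ≃ₗ[F2] V} (hq : q ∈ Q) {v : V} (hv : v ∈ U) : u (q v) = q (u v) := by
  set ρ := restr (le_refl (stabSub U))
  set C := (restr hQ).range with hC
  have hle : ⁅M, M⁆ ≤ ((Subgroup.centralizer (C : Set (U ≃ₗ[F2] U))).comap ρ).map (stabSub U).subtype := by
    rw [Subgroup.commutator_le]
    intro a ha b hb
    refine ⟨⁅(⟨a, hM ha⟩ : stabSub U), ⟨b, hM hb⟩⁆, ?_, rfl⟩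
    rw [SetLike.mem_coe, Subgroup.mem_comap, Subgroup.mem_centralizer_iff, map_commutatorElement]
    intro c hc
    have hin : ∀ (d : V ≃ₗ[F2] V) (hd : d ∈ M), (∀ c ∈ C, ρ ⟨d, hM hd⟩ * c * (ρ ⟨d, hM hd⟩)⁻¹ ∈ C) ∧
        ∀ c ∈ C, (ρ ⟨d, hM hd⟩)⁻¹ * c * ρ ⟨d, hM hd⟩ ∈ C := by
      intro d hd
      obtain ⟨h1, h2⟩ := conj_mem_of_normalizer (hnorm hd)
      constructor <;> rintro _ ⟨⟨c, hc⟩, rfl⟩
      · refine ⟨⟨_, h1 c hc⟩, LinearEquiv.ext fun w => Subtype.ext ?_⟩
        rfl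
      · refine ⟨⟨_, h2 c hc⟩, LinearEquiv.ext fun w => Subtype.ext ?_⟩
        rfl
    haveI := hcyc
    exact (commutator_comm_cyclic C (hin a ha).1 (hin b hb).1 (hin a ha).2 (hin b hb).2 hc).symm
  obtain ⟨u', hu', rfl⟩ := hle hu
  rw [SetLike.mem_coe, Subgroup.mem_comap, Subgroup.mem_centralizer_iff] at hu'
  exact (congrArg Subtype.val (LinearEquiv.congr_fun (hu' _ ⟨⟨q, hq⟩, rfl⟩) ⟨v, hv⟩)).symm

/-- Maps agreeing on the fixed and the moved space agree. -/
theorem ext_fix_moved {R : Subgroup (V ≃ₗ[F2] V)} (hR : Odd (Nat.card R)) {f g : V ≃ₗ[F2] V}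
    (h1 : ∀ v ∈ fix R, f v = g v) (h2 : ∀ v ∈ moved R, f v = g v) : f = g := by
  refine LinearEquiv.ext fun v => ?_
  have hv : v = total R v + (v + total R v) := by rw [add_left_comm, add_self_f2, add_zero]
  calc f v = f (total R v + (v + total R v)) := by rw [← hv]
    _ = g (total R v + (v + total R v)) := by
      rw [map_add f, map_add g, h1 _ (total_mem_fix R v), h2 _ (add_total_mem_moved hR v)]
    _ = g v := by rw [← hv]

variable {Q N : Subgroup (V ≃ₗ[F2] V)} (hQ : IsPGroup ℓ Q) (hℓ2 : ℓ ≠ 2)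
  (hN : N ≤ Subgroup.normalizer (Q : Set (V ≃ₗ[F2] V))) (hdim : finrank F2 (moved Q) ≤ 2 * orderOf (2 : ZMod ℓ))

include hQ hℓ2 hN hdim

theorem exists_centralised : ∃ P : Subgroup (V ≃ₗ[F2] V), IsPGroup ℓ P ∧ P ≤ stabSub (moved Q) ∧
    (∀ v ∈ moved Q, v ∈ fix P → v = 0) ∧ ∀ u ∈ ⁅⁅N, N⁆, ⁅N, N⁆⁆, ∀ p ∈ P, u * p = p * u := by
  classical
  haveI : Module.Finite F2 V := Module.Finite.of_finite
  haveI : Finite (V ≃ₗ[F2] V) := finite_equiv
  set e := orderOf (2 : ZMod ℓ) with he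
  have hodd := odd_card_of_isPGroup hℓ2 hQ
  have hcompl := isCompl_fix_moved hodd
  have hnofix : ∀ v ∈ moved Q, v ∈ fix Q → v = 0 := fun v hv hv' =>
    Submodule.disjoint_def.1 hcompl.disjoint v hv' hv
  set Z : Subgroup (V ≃ₗ[F2] V) := (Subgroup.center Q).map Q.subtype with hZdef
  have hmemZ : ∀ z, z ∈ Z ↔ z ∈ Q ∧ ∀ b ∈ Q, b * z = z * b := by
    intro z
    constructor
    · rintro ⟨c, hc, rfl⟩
      exact ⟨c.2, fun b hb => congrArg Subtype.val (Subgroup.mem_center_iff.1 hc ⟨b, hb⟩)⟩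
    · rintro ⟨hz, h⟩
      exact ⟨⟨z, hz⟩, Subgroup.mem_center_iff.2 fun b => Subtype.ext (h b.1 b.2), rfl⟩
  have hZQ : Z ≤ Q := fun z hz => ((hmemZ z).1 hz).1
  have hZp : IsPGroup ℓ Z := hQ.to_le hZQ
  have hNZ : ∀ g ∈ Subgroup.normalizer (Q : Set (V ≃ₗ[F2] V)), g ∈ Subgroup.normalizer (Z : Set (V ≃ₗ[F2] V)) := by
    have key : ∀ g ∈ Subgroup.normalizer (Q : Set (V ≃ₗ[F2] V)), ∀ z ∈ Z, g * z * g⁻¹ ∈ Z := fun g hg z hz => by
      rw [hmemZ] at hz ⊢
      obtain ⟨h1, h2⟩ := conj_mem_of_normalizer hg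
      refine ⟨h1 z hz.1, fun b hb => ?_⟩
      calc b * (g * z * g⁻¹) = g * ((g⁻¹ * b * g) * z) * g⁻¹ := by group
        _ = g * (z * (g⁻¹ * b * g)) * g⁻¹ := by rw [hz.2 _ (h2 b hb)]
        _ = g * z * g⁻¹ * b := by group
    intro g hg
    refine Subgroup.mem_normalizer_iff.2 fun z => ⟨key g hg z, fun hz => ?_⟩
    have := key g⁻¹ (inv_mem hg) _ hz
    simpa [mul_assoc] using this
  have hQW : Q ≤ stabSub (moved Q) := fun q hq => normalises_moved (le_normalizer_self Q hq)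
  have hN'N : ⁅N, N⁆ ≤ N := by
    rw [Subgroup.commutator_le]
    intro a ha b hb
    rw [commutatorElement_def]
    exact mul_mem (mul_mem (mul_mem ha hb) (inv_mem ha)) (inv_mem hb)
  have hN'' : ⁅⁅N, N⁆, ⁅N, N⁆⁆ ≤ ⁅N, N⁆ := Subgroup.commutator_mono hN'N hN'N
  -- on the fixed space everything commutes
  have hF : ∀ {P : Subgroup (V ≃ₗ[F2] V)}, P ≤ Q → ∀ u ∈ ⁅⁅N, N⁆, ⁅N, N⁆⁆, ∀ p ∈ P, ∀ v ∈ fix Q,
      (u * p) v = (p * u) v := by
    intro P hP u hu p hp v hv
    rw [LinearEquiv.mul_apply, LinearEquiv.mul_apply, hv p (hP hp),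
      (normalises_fix (hN (hN'N (hN'' hu))) v).2 hv p (hP hp)]
  have hlt : ∀ X : Submodule F2 V, X ≤ moved Q → X ≠ moved Q → finrank F2 X < finrank F2 (moved Q) :=
    fun X hX hne => Submodule.finrank_lt_finrank_of_lt (lt_of_le_of_ne hX hne)
  by_cases hA : ∀ v ∈ moved Q, v ∈ fix Z → v = 0
  · -- the centre has no fixed vector
    refine ⟨Z, hZp, hZQ.trans hQW, hA, ?_⟩
    have hZW : Z ≤ stabSub (moved Q) := hZQ.trans hQW
    have hZcomm : ∀ a ∈ Z, ∀ b ∈ Z, a * b = b * a := fun a ha b hb => ((hmemZ b).1 hb).2 a (hZQ ha)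
    by_cases hZc : IsCyclic Z
    · intro u hu p hp
      haveI := hZc
      have hle : ⁅N, N⁆ ≤ Subgroup.centralizer (Z : Set (V ≃ₗ[F2] V)) := by
        rw [Subgroup.commutator_le]
        intro a ha b hb
        rw [Subgroup.mem_centralizer_iff]
        intro c hc
        obtain ⟨a1, a2⟩ := conj_mem_of_normalizer (hNZ a (hN ha))
        obtain ⟨b1, b2⟩ := conj_mem_of_normalizer (hNZ b (hN hb))
        exact (commutator_comm_cyclic Z a1 b1 a2 b2 hc).symm
      exact (Subgroup.mem_centralizer_iff.1 (hle (hN'' hu)) p hp).symm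
    -- restriction to a subspace with trivial kernel would make the centre cyclic
    have hker : ∀ X : Submodule F2 V, ∀ hX : Z ≤ stabSub X, IsCyclic (restr hX).range →
        ∃ z ∈ Z, z ≠ 1 ∧ ∀ v ∈ X, z v = v := by
      intro X hX hcyc
      by_contra hno
      push Not at hno
      apply hZc
      have hinj : Function.Injective (restr hX) := by
        rw [injective_iff_map_eq_one]
        intro z hz
        by_contra hz1
        obtain ⟨v, hv, hvne⟩ := hno z.1 z.2 (fun h => hz1 (Subtype.ext h))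
        exact hvne ((restr_eq_one_iff hX z).1 hz v hv)
      exact (MonoidHom.ofInjective hinj).symm.isCyclic.1 hcyc
    obtain ⟨W1, hW1le, hW1Z, hW1ne, hW1top⟩ : ∃ W1 : Submodule F2 V, W1 ≤ moved Q ∧ Z ≤ stabSub W1 ∧
        W1 ≠ ⊥ ∧ W1 ≠ moved Q := by
      by_contra hno
      push Not at hno
      haveI : Finite (moved Q) := inferInstance
      haveI : Finite (moved Q ≃ₗ[F2] moved Q) := finite_equiv
      rcases subsingleton_or_nontrivial (moved Q) with hs | hs
      · obtain ⟨z, hz, hz1, hzfix⟩ := hker (moved Q) hZW (by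
          haveI : Subsingleton (moved Q ≃ₗ[F2] moved Q) :=
            ⟨fun f g => LinearEquiv.ext fun v => Subsingleton.elim _ _⟩
          exact isCyclic_of_subsingleton)
        exact hz1 (ext_fix_moved hodd (fun v hv => hv z (hZQ hz)) hzfix)
      have hirr : IrredComm (((restr hZW).range : Subgroup _) : Set (moved Q ≃ₗ[F2] moved Q)) := by
        refine ⟨?_, fun W hW => ?_⟩
        · rintro _ ⟨a, rfl⟩ _ ⟨b, rfl⟩
          rw [← map_mul, ← map_mul]
          congr 1
          exact Subtype.ext (hZcomm a a.2 b b.2)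
        · rcases eq_or_ne W ⊥ with hb | hb
          · exact Or.inl hb
          refine Or.inr ?_
          have hle : W.map (moved Q).subtype ≤ moved Q := Submodule.map_subtype_le _ _
          have hinv : Z ≤ stabSub (W.map (moved Q).subtype) := fun z hz => mem_stabSub_of_le fun v hv => by
            obtain ⟨w, hw, rfl⟩ := hv
            exact ⟨restr hZW ⟨z, hz⟩ w, hW _ ⟨⟨z, hz⟩, rfl⟩ w hw, rfl⟩
          have h2 := hno _ hle hinv (fun h => hb (by
            rw [eq_bot_iff]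
            intro w hw
            have : (w : V) ∈ (⊥ : Submodule F2 V) := h ▸ Submodule.mem_map_of_mem hw
            exact Subtype.ext ((Submodule.mem_bot F2).1 this)))
          rw [eq_top_iff]
          intro w _
          obtain ⟨w', hw', hww⟩ := (h2.ge w.2 : (w : V) ∈ W.map (moved Q).subtype)
          rwa [← Subtype.ext hww]
      obtain ⟨z, hz, hz1, hzfix⟩ := hker (moved Q) hZW (hirr.isCyclic_of_commute _ fun p hp a ha =>
        hirr.comm p hp a ha)
      exact hz1 (ext_fix_moved hodd (fun v hv => hv z (hZQ hz)) hzfix)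
    have hdvd : ∀ X : Submodule F2 V, X ≤ moved Q → Z ≤ stabSub X → e ∣ finrank F2 X := fun X hX hXs =>
      orderOf_dvd_finrank hZp hXs fun v hv hv' => hA v (hX hv) hv'
    have hsmall : ∀ X : Submodule F2 V, X ≤ moved Q → Z ≤ stabSub X → X ≠ ⊥ → X ≠ moved Q →
        finrank F2 X = e := by
      intro X hX hXs hne htop
      obtain ⟨k, hk⟩ := hdvd X hX hXs
      have h1 := hlt X hX htop
      have h2 : 0 < finrank F2 X := Nat.pos_of_ne_zero fun h => hne (Submodule.finrank_eq_zero.1 h)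
      rcases k with _ | _ | k
      · omega
      · simpa using hk
      · nlinarith
    have hW1e := hsmall W1 hW1le hW1Z hW1ne hW1top
    obtain ⟨z1, hz1Z, hz1ne, hz1fix⟩ := hker W1 hW1Z
      (isCyclic_image hZp hW1Z (fun v hv hv' => hA v (hW1le hv) hv') hW1e)
    set Z1 := Subgroup.zpowers z1
    have hZ1Z : Z1 ≤ Z := Subgroup.zpowers_le.2 hz1Z
    have hZ1odd := odd_card_of_isPGroup hℓ2 (hZp.to_le hZ1Z)
    have hZnorm1 : Z ≤ Subgroup.normalizer (Z1 : Set (V ≃ₗ[F2] V)) := fun z hz => by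
      refine Subgroup.mem_normalizer_iff.2 fun y => ⟨fun hy => ?_, fun hy => ?_⟩
      · rw [hZcomm z hz y (hZ1Z hy), mul_inv_cancel_right]
        exact hy
      · have : z⁻¹ * (z * y * z⁻¹) * z = y := by group
        rw [← this, hZcomm z⁻¹ (inv_mem hz) _ (hZ1Z hy), inv_mul_cancel_right]
        exact hy
    have hW1fix : ∀ v ∈ W1, v ∈ fix Z1 := fun v hv r hr => by
      obtain ⟨k, rfl⟩ := hr
      refine zpow_mem (show z1 ∈ stabilizer (V ≃ₗ[F2] V) v from hz1fix v hv) k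
    set X1 := fix Z1 ⊓ moved Q
    have hX1s : Z ≤ stabSub X1 := fun z hz v => and_congr (normalises_fix (hZnorm1 hz) v) (hZW hz v)
    have hX1 : X1 = W1 := by
      have hle : W1 ≤ X1 := fun v hv => ⟨hW1fix v hv, hW1le hv⟩
      refine (Submodule.eq_of_le_of_finrank_eq hle ?_).symm
      rw [hW1e, hsmall X1 inf_le_right hX1s (fun h => hW1ne (le_bot_iff.1 (h ▸ hle))) fun htop => hz1ne ?_]
      exact ext_fix_moved hodd (fun v hv => hv z1 (hZQ hz1Z)) fun v hv =>
        ((htop.ge hv).1 : v ∈ fix Z1) z1 (Subgroup.mem_zpowers z1)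
    set W2 := moved Z1
    have hW2le : W2 ≤ moved Q := by
      refine le_moved ?_ fun v hv hv' =>
        Submodule.disjoint_def.1 (isCompl_fix_moved hZ1odd).disjoint v (fun r hr => hv' r (hZQ (hZ1Z hr))) hv
      intro q hq
      refine normalises_moved (Subgroup.mem_normalizer_iff.2 fun y => ⟨fun hy => ?_, fun hy => ?_⟩)
      · rw [((hmemZ y).1 (hZ1Z hy)).2 q hq, mul_inv_cancel_right]
        exact hy
      · have : q⁻¹ * (q * y * q⁻¹) * q = y := by group
        rw [← this, ((hmemZ _).1 (hZ1Z hy)).2 q⁻¹ (inv_mem hq), inv_mul_cancel_right]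
        exact hy
    have hW2s : Z ≤ stabSub W2 := fun z hz => normalises_moved (hZnorm1 hz)
    have hdisj : Disjoint W1 W2 := Submodule.disjoint_def.2 fun v hv hv' =>
      Submodule.disjoint_def.1 (isCompl_fix_moved hZ1odd).disjoint v (hW1fix v hv) hv'
    have hW2ne : W2 ≠ ⊥ := fun h => hz1ne (LinearEquiv.ext fun v => by
      have := add_total_mem_moved hZ1odd v
      rw [show moved Z1 = ⊥ from h, Submodule.mem_bot] at this
      have hv : v = total Z1 v := by rw [← add_zero (total Z1 v), ← this, add_left_comm, add_self_f2, add_zero]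
      show z1 v = v
      calc z1 v = z1 (total Z1 v) := by rw [← hv]
        _ = total Z1 v := smul_total (Subgroup.mem_zpowers z1) v
        _ = v := hv.symm)
    have hW2e : finrank F2 W2 = e := hsmall W2 hW2le hW2s hW2ne fun h => hW1ne (by
      rw [eq_bot_iff]
      intro v hv
      exact Submodule.disjoint_def.1 hdisj v hv (h.ge (hW1le hv)) |> (Submodule.mem_bot F2).2)
    have hpair : ∀ U : Submodule F2 V, U ≤ moved Q → Z ≤ stabSub U → finrank F2 U = e → U = W1 ∨ U = W2 := by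
      intro U hU hUs hUe
      by_cases hUW : U ≤ X1
      · left
        rw [← hX1]
        exact Submodule.eq_of_le_of_finrank_eq hUW (by rw [hUe, hX1, hW1e])
      · right
        refine Submodule.eq_of_le_of_finrank_eq (le_moved (hZ1Z.trans hUs) fun v hv hv' => ?_) (by rw [hUe, hW2e])
        by_contra hv0
        apply hUW
        have hs : Z ≤ stabSub (U ⊓ fix Z1) := fun z hz w => and_congr (hUs hz w) (normalises_fix (hZnorm1 hz) w)
        obtain ⟨k, hk⟩ := hdvd (U ⊓ fix Z1) (inf_le_left.trans hU) hs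
        have h2 : 0 < finrank F2 (U ⊓ fix Z1 : Submodule F2 V) := Nat.pos_of_ne_zero fun h => hv0 (by
          rw [← Submodule.mem_bot F2, ← Submodule.finrank_eq_zero.1 h]
          exact ⟨hv, hv'⟩)
        have heq : U ⊓ fix Z1 = U := Submodule.eq_of_le_of_finrank_le inf_le_left (by
          rw [hUe]
          exact Nat.le_of_dvd h2 ⟨k, hk⟩)
        exact fun w hw => ⟨(heq.ge hw).2, hU hw⟩
    -- the commutator subgroup preserves both subspaces
    have hmapW : ∀ g ∈ N, ∀ U, U ≤ moved Q → Z ≤ stabSub U → finrank F2 U = e →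
        U.map (g : V →ₗ[F2] V) ≤ moved Q ∧ Z ≤ stabSub (U.map (g : V →ₗ[F2] V)) ∧
          finrank F2 (U.map (g : V →ₗ[F2] V)) = e := by
      intro g hg U hU hUs hUe
      refine ⟨?_, fun z hz => mem_stabSub_of_le ?_, by rw [← hUe]; exact LinearEquiv.finrank_map_eq g U⟩
      · rintro _ ⟨v, hv, rfl⟩
        exact (normalises_moved (hN hg) v).2 (hU hv)
      · rintro _ ⟨v, hv, rfl⟩
        have hz' := (conj_mem_of_normalizer (hNZ g (hN hg))).2 z hz
        refine ⟨(g⁻¹ * z * g) v, (hUs hz' v).2 hv, ?_⟩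
        show g (g⁻¹ (z (g v))) = z (g v)
        exact g.apply_symm_apply _
    have h12 : W1 ≠ W2 := fun h => hW1ne (disjoint_self.1 (by rwa [← h] at hdisj))
    have hact : ∀ g ∈ N, (W1.map (g : V →ₗ[F2] V) = W1 ∧ W2.map (g : V →ₗ[F2] V) = W2) ∨
        (W1.map (g : V →ₗ[F2] V) = W2 ∧ W2.map (g : V →ₗ[F2] V) = W1) := by
      intro g hg
      obtain ⟨a1, a2, a3⟩ := hmapW g hg W1 hW1le hW1Z hW1e
      obtain ⟨b1, b2, b3⟩ := hmapW g hg W2 hW2le hW2s hW2e
      have hne : W1.map (g : V →ₗ[F2] V) ≠ W2.map (g : V →ₗ[F2] V) := fun h =>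
        h12 (Submodule.map_injective_of_injective g.injective h)
      rcases hpair _ a1 a2 a3 with h | h <;> rcases hpair _ b1 b2 b3 with h' | h'
      · exact absurd (h.trans h'.symm) hne
      · exact Or.inl ⟨h, h'⟩
      · exact Or.inr ⟨h, h'⟩
      · exact absurd (h.trans h'.symm) hne
    have hmm : ∀ (a b : V ≃ₗ[F2] V) (U : Submodule F2 V), U.map ((a * b : V ≃ₗ[F2] V) : V →ₗ[F2] V) =
        (U.map (b : V →ₗ[F2] V)).map (a : V →ₗ[F2] V) := fun a b U => by
      rw [← Submodule.map_comp]; rfl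
    have hstab : ∀ u ∈ ⁅N, N⁆, u ∈ stabSub W1 ∧ u ∈ stabSub W2 := by
      have hle : ⁅N, N⁆ ≤ stabSub W1 ⊓ stabSub W2 := by
        rw [Subgroup.commutator_le]
        intro a ha b hb
        have hfix : W1.map ((⁅a, b⁆ : V ≃ₗ[F2] V) : V →ₗ[F2] V) = W1 ∧
            W2.map ((⁅a, b⁆ : V ≃ₗ[F2] V) : V →ₗ[F2] V) = W2 := by
          have hcom : ⁅a, b⁆ * (b * a) = a * b := by rw [commutatorElement_def]; group
          have e1 : (W1.map ((b * a : V ≃ₗ[F2] V) : V →ₗ[F2] V)).map ((⁅a, b⁆ : V ≃ₗ[F2] V) : V →ₗ[F2] V) =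
              W1.map ((a * b : V ≃ₗ[F2] V) : V →ₗ[F2] V) := by rw [← hmm, hcom]
          have e2 : (W2.map ((b * a : V ≃ₗ[F2] V) : V →ₗ[F2] V)).map ((⁅a, b⁆ : V ≃ₗ[F2] V) : V →ₗ[F2] V) =
              W2.map ((a * b : V ≃ₗ[F2] V) : V →ₗ[F2] V) := by rw [← hmm, hcom]
          simp only [hmm] at e1 e2
          rcases hact a ha with ⟨p1, p2⟩ | ⟨p1, p2⟩ <;> rcases hact b hb with ⟨r1, r2⟩ | ⟨r1, r2⟩ <;>
            simp only [p1, p2, r1, r2] at e1 e2 <;> first | exact ⟨e1, e2⟩ | exact ⟨e2, e1⟩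
        exact ⟨mem_stabSub_of_le fun v hv => hfix.1.le ⟨v, hv, rfl⟩,
          mem_stabSub_of_le fun v hv => hfix.2.le ⟨v, hv, rfl⟩⟩
      exact fun u hu => hle hu
    intro u hu p hp
    have h1 : ∀ v ∈ W1, u (p v) = p (u v) := fun v hv =>
      commute_on hW1Z (isCyclic_image hZp hW1Z (fun v hv hv' => hA v (hW1le hv) hv') hW1e)
        (fun g hg => (hstab g hg).1) (fun g hg => hNZ g (hN (hN'N hg))) hu hp hv
    have h2 : ∀ v ∈ W2, u (p v) = p (u v) := fun v hv =>
      commute_on hW2s (isCyclic_image hZp hW2s (fun v hv hv' => hA v (hW2le hv) hv') hW2e)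
        (fun g hg => (hstab g hg).2) (fun g hg => hNZ g (hN (hN'N hg))) hu hp hv
    refine ext_fix_moved hodd (hF hZQ u hu p hp) fun v hv => ?_
    have hsup : W1 ⊔ W2 = moved Q := by
      refine Submodule.eq_of_le_of_finrank_le (sup_le hW1le hW2le) ?_
      have := Submodule.finrank_sup_add_finrank_inf_eq W1 W2
      rw [hdisj.eq_bot, finrank_bot, hW1e, hW2e] at this
      omega
    rw [← hsup, Submodule.mem_sup] at hv
    obtain ⟨v1, hv1, v2, hv2, rfl⟩ := hv
    simp only [LinearEquiv.mul_apply, map_add, h1 v1 hv1, h2 v2 hv2]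
  · -- the centre has fixed vectors, which split the moved space
    push Not at hA
    obtain ⟨v0, hv0, hv0Z, hv00⟩ := hA
    refine ⟨Q, hQ, hQW, hnofix, ?_⟩
    set W1 := fix Z ⊓ moved Q with hW1
    set W2 := moved Z with hW2
    have hW1s : ∀ g ∈ Subgroup.normalizer (Q : Set (V ≃ₗ[F2] V)), g ∈ stabSub W1 := fun g hg v =>
      and_congr (normalises_fix (hNZ g hg) v) (normalises_moved hg v)
    have hW2s : ∀ g ∈ Subgroup.normalizer (Q : Set (V ≃ₗ[F2] V)), g ∈ stabSub W2 := fun g hg =>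
      normalises_moved (hNZ g hg)
    have hQ1 : Q ≤ stabSub W1 := fun q hq => hW1s q (le_normalizer_self Q hq)
    have hQ2 : Q ≤ stabSub W2 := fun q hq => hW2s q (le_normalizer_self Q hq)
    have hZodd := odd_card_of_isPGroup hℓ2 hZp
    have hdisjZ := (isCompl_fix_moved hZodd).disjoint
    have hW2le : W2 ≤ moved Q := le_moved hQ2 fun v hv hv' =>
      Submodule.disjoint_def.1 hdisjZ v (fun r hr => hv' r (hZQ hr)) hv
    have hdisj : Disjoint W1 W2 := Submodule.disjoint_def.2 fun v hv hv' =>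
      Submodule.disjoint_def.1 hdisjZ v hv.1 hv'
    have hW2ne : W2 ≠ ⊥ := by
      intro h
      haveI : Nontrivial Q := by
        by_contra hn
        rw [not_nontrivial_iff_subsingleton] at hn
        refine hv00 (hnofix v0 hv0 fun r hr => ?_)
        rw [show r = 1 from congrArg Subtype.val (Subsingleton.elim (⟨r, hr⟩ : Q) 1)]
        rfl
      haveI := hQ.center_nontrivial
      obtain ⟨c, hc⟩ := exists_ne (1 : Subgroup.center Q)
      have hcZ : ((c.1 : Q) : V ≃ₗ[F2] V) ∈ Z := ⟨c.1, c.2, rfl⟩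
      refine hc (Subtype.ext (Subtype.ext (LinearEquiv.ext fun v => ?_)))
      have := add_total_mem_moved hZodd v
      rw [show moved Z = ⊥ from h, Submodule.mem_bot] at this
      have hv : v = total Z v := by rw [← add_zero (total Z v), ← this, add_left_comm, add_self_f2, add_zero]
      show ((c.1 : Q) : V ≃ₗ[F2] V) v = v
      calc ((c.1 : Q) : V ≃ₗ[F2] V) v = ((c.1 : Q) : V ≃ₗ[F2] V) (total Z v) := by rw [← hv]
        _ = total Z v := smul_total hcZ v
        _ = v := hv.symm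
    have hd1 := orderOf_dvd_finrank hQ hQ1 fun v hv hv' => hnofix v hv.2 hv'
    have hd2 := orderOf_dvd_finrank hQ hQ2 fun v hv hv' => hnofix v (hW2le hv) hv'
    have hp1 : 0 < finrank F2 W1 := Nat.pos_of_ne_zero fun h => hv00 (by
      rw [← Submodule.mem_bot F2, ← Submodule.finrank_eq_zero.1 h]; exact ⟨hv0Z, hv0⟩)
    have hp2 : 0 < finrank F2 W2 := Nat.pos_of_ne_zero fun h => hW2ne (Submodule.finrank_eq_zero.1 h)
    have hsum := Submodule.finrank_sup_add_finrank_inf_eq W1 W2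
    rw [hdisj.eq_bot, finrank_bot] at hsum
    have hle : finrank F2 (W1 ⊔ W2 : Submodule F2 V) ≤ finrank F2 (moved Q) :=
      Submodule.finrank_mono (sup_le inf_le_right hW2le)
    have hW1e : finrank F2 W1 = e := by
      have := Nat.le_of_dvd hp2 hd2
      have := Nat.le_of_dvd hp1 hd1
      omega
    have hW2e : finrank F2 W2 = e := by
      have := Nat.le_of_dvd hp2 hd2
      omega
    intro u hu p hp
    have h1 : ∀ v ∈ W1, u (p v) = p (u v) := fun v hv =>
      commute_on hQ1 (isCyclic_image hQ hQ1 (fun v hv hv' => hnofix v hv.2 hv') hW1e)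
        (fun g hg => hW1s g (hN hg)) (fun g hg => hN hg) (hN'' hu) hp hv
    have h2 : ∀ v ∈ W2, u (p v) = p (u v) := fun v hv =>
      commute_on hQ2 (isCyclic_image hQ hQ2 (fun v hv hv' => hnofix v (hW2le hv) hv') hW2e)
        (fun g hg => hW2s g (hN hg)) (fun g hg => hN hg) (hN'' hu) hp hv
    refine ext_fix_moved hodd (hF le_rfl u hu p hp) fun v hv => ?_
    have hsup : W1 ⊔ W2 = moved Q := by
      refine Submodule.eq_of_le_of_finrank_le (sup_le inf_le_right hW2le) ?_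
      omega
    rw [← hsup, Submodule.mem_sup] at hv
    obtain ⟨v1, hv1, v2, hv2, rfl⟩ := hv
    simp only [LinearEquiv.mul_apply, map_add, h1 v1 hv1, h2 v2 hv2]

end CfsgLib.SingerOver
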