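import Cfsg.Agent.Lib.SingerOver.Flags

/-!
An irreducible commuting set of linear maps of a space over two elements generates a field: its commutant is
cyclic, and a normalising map acts on it as a power of squaring.
-/

set_option linter.style.haveILetI false

namespace CfsgLib.SingerOver

open Module Polynomial

variable {V : Type*} [AddCommGroup V] [Module F2 V]

/-- A linear equivalence as an endomorphism. -/
def toEnd : (V ≃ₗ[F2] V) →* Module.End F2 V where
  toFun g := g.toLinearMap
  map_one' := rfl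
  map_mul' _ _ := rfl

@[simp] theorem toEnd_apply (g : V ≃ₗ[F2] V) (v : V) : toEnd g v = g v := rfl

theorem toEnd_injective : Function.Injective (toEnd (V := V)) := LinearEquiv.toLinearMap_injective

/-- The algebra generated by a set of linear equivalences. -/
def alg (S : Set (V ≃ₗ[F2] V)) : Subalgebra F2 (Module.End F2 V) := Algebra.adjoin F2 (toEnd '' S)

/-- A commuting set without invariant subspaces. -/
structure IrredComm (S : Set (V ≃ₗ[F2] V)) : Prop where
  comm : ∀ a ∈ S, ∀ b ∈ S, a * b = b * a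
  irred : ∀ W : Submodule F2 V, (∀ a ∈ S, ∀ w ∈ W, a w ∈ W) → W = ⊥ ∨ W = ⊤

theorem frob_aeval {R : Type*} [CommRing R] [Algebra F2 R] (x : R) (p : F2[X]) (j : ℕ) :
    aeval (x ^ 2 ^ j) p = (aeval x p) ^ 2 ^ j := by
  induction j with
  | zero => simp
  | succ j ih =>
    rw [pow_succ, pow_mul, pow_mul, ← expand_aeval, ZMod.expand_card, map_pow, ih]

/-- In a finite domain over two elements generated by `x`, the roots of the equation of `x` are its Frobenius
images. -/
theorem root_eq_pow {R : Type*} [CommRing R] [IsDomain R] [Algebra F2 R] [Finite R] (x : R)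
    (hgen : ∀ y : R, ∃ p : F2[X], aeval x p = y) {y : R} (hy : aeval y (minpoly F2 x) = 0) :
    ∃ j, y = x ^ 2 ^ j := by
  classical
  haveI : Module.Finite F2 R := Module.Finite.of_finite
  haveI := Fintype.ofFinite R
  haveI : CharP R 2 := charP_of_injective_algebraMap (algebraMap F2 R).injective 2
  set d := finrank F2 R
  have hm0 : minpoly F2 x ≠ 0 := minpoly.ne_zero (Algebra.IsIntegral.isIntegral x)
  have hM0 : (minpoly F2 x).map (algebraMap F2 R) ≠ 0 :=
    fun h => hm0 ((Polynomial.map_eq_zero_iff (algebraMap F2 R).injective).1 h)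
  have hper : ∀ k, 0 < k → k < d → x ^ 2 ^ k ≠ x := by
    intro k hk hkd he
    have hall : ∀ z : R, z ^ 2 ^ k = z := fun z => by
      obtain ⟨p, rfl⟩ := hgen z
      rw [← frob_aeval, he]
    have hdeg : (X ^ 2 ^ k - X : R[X]).natDegree = 2 ^ k := by
      rw [natDegree_sub_eq_left_of_natDegree_lt] <;> simp only [natDegree_X_pow, natDegree_X]
      exact Nat.one_lt_two_pow hk.ne'
    have hne : (X ^ 2 ^ k - X : R[X]) ≠ 0 := fun h0 => by
      rw [h0, natDegree_zero] at hdeg
      exact (pow_ne_zero k two_ne_zero) hdeg.symm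
    have h1 : (Finset.univ : Finset R) ⊆ (X ^ 2 ^ k - X : R[X]).roots.toFinset := fun z _ => by
      rw [Multiset.mem_toFinset, mem_roots hne]
      simp [hall z]
    have h2 := (Finset.card_le_card h1).trans ((Multiset.toFinset_card_le _).trans (card_roots' _))
    rw [hdeg, Finset.card_univ,
      ← Nat.card_eq_fintype_card, natCard_eq_pow_finrank (K := F2) (V := R), Nat.card_zmod,
      Nat.pow_le_pow_iff_right one_lt_two] at h2
    omega
  have key : ∀ i j : ℕ, i < j → j < d → x ^ 2 ^ i ≠ x ^ 2 ^ j := by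
    intro i j hij hj he
    apply hper (j - i) (by omega) (by omega)
    apply iterateFrobenius_inj R 2 i
    show (x ^ 2 ^ (j - i)) ^ 2 ^ i = x ^ 2 ^ i
    rw [← pow_mul, ← pow_add, Nat.sub_add_cancel hij.le]
    exact he.symm
  have hinj : Set.InjOn (fun j => x ^ 2 ^ j) (Finset.range d : Set ℕ) := by
    intro i hi j hj hij
    simp only [Finset.coe_range, Set.mem_Iio] at hi hj
    rcases Nat.lt_trichotomy i j with h | h | h
    · exact absurd hij (key i j h hj)
    · exact h
    · exact absurd hij.symm (key j i h hi)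
  have hroot : (Finset.range d).image (fun j => x ^ 2 ^ j) =
      ((minpoly F2 x).map (algebraMap F2 R)).roots.toFinset := by
    refine Finset.eq_of_subset_of_card_le (fun z hz => ?_) ?_
    · obtain ⟨j, -, rfl⟩ := Finset.mem_image.1 hz
      rw [Multiset.mem_toFinset, mem_roots hM0, IsRoot, eval_map_algebraMap, frob_aeval, minpoly.aeval,
        zero_pow (pow_ne_zero j two_ne_zero)]
    · rw [Finset.card_image_of_injOn hinj, Finset.card_range]
      refine (Multiset.toFinset_card_le _).trans ((card_roots' _).trans ?_)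
      rw [natDegree_map_eq_of_injective (algebraMap F2 R).injective]
      exact minpoly.natDegree_le x
  have hmem : y ∈ ((minpoly F2 x).map (algebraMap F2 R)).roots.toFinset := by
    rwa [Multiset.mem_toFinset, mem_roots hM0, IsRoot, eval_map_algebraMap]
  rw [← hroot] at hmem
  obtain ⟨j, -, hj⟩ := Finset.mem_image.1 hmem
  exact ⟨j, hj.symm⟩

namespace IrredComm

variable {S : Set (V ≃ₗ[F2] V)} (h : IrredComm S)

include h

theorem alg_comm {T U : Module.End F2 V} (hT : T ∈ alg S) (hU : U ∈ alg S) : T * U = U * T := by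
  letI : CommRing (alg S) := Algebra.adjoinCommRingOfComm F2 (s := toEnd '' S) (by
    rintro _ ⟨a, ha, rfl⟩ _ ⟨b, hb, rfl⟩
    rw [← map_mul, ← map_mul, h.comm a ha b hb])
  exact congrArg Subtype.val (mul_comm (⟨T, hT⟩ : alg S) ⟨U, hU⟩)

theorem toEnd_mem {a : V ≃ₗ[F2] V} (ha : a ∈ S) : toEnd a ∈ alg S :=
  Algebra.subset_adjoin ⟨a, ha, rfl⟩

theorem eq_zero_of_apply {T : Module.End F2 V} (hT : ∀ a ∈ S, T * toEnd a = toEnd a * T) {v : V} (hv : v ≠ 0)
    (h0 : T v = 0) : T = 0 := by
  rcases h.irred (LinearMap.ker T) (fun a ha w hw => by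
    have := LinearMap.congr_fun (hT a ha) w
    rw [Module.End.mul_apply, Module.End.mul_apply, toEnd_apply, LinearMap.mem_ker.1 hw, map_zero] at this
    exact LinearMap.mem_ker.2 this) with h1 | h1
  · exact absurd (by rw [← Submodule.mem_bot F2, ← h1]; exact h0) hv
  · exact LinearMap.ker_eq_top.1 h1

theorem exists_apply_eq {v : V} (hv : v ≠ 0) (w : V) : ∃ T ∈ alg S, T v = w := by
  let W : Submodule F2 V :=
    (Subalgebra.toSubmodule (alg S)).map (LinearMap.applyₗ v : Module.End F2 V →ₗ[F2] V)
  have hW : ∀ u, u ∈ W ↔ ∃ T ∈ alg S, T v = u := fun u => by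
    simp [W, Submodule.mem_map]
  rcases h.irred W (fun a ha u hu => by
    obtain ⟨T, hT, rfl⟩ := (hW u).1 hu
    exact (hW _).2 ⟨toEnd a * T, mul_mem (h.toEnd_mem ha) hT, rfl⟩) with h1 | h1
  · exfalso
    apply hv
    rw [← Submodule.mem_bot F2, ← h1]
    exact (hW v).2 ⟨1, one_mem _, rfl⟩
  · exact (hW w).1 (by rw [h1]; trivial)

theorem mem_alg_of_commute {T : Module.End F2 V} (hT : ∀ a ∈ S, T * toEnd a = toEnd a * T) : T ∈ alg S := by
  rcases subsingleton_or_nontrivial V with hV | hV
  · have : T = 0 := Subsingleton.elim _ _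
    rw [this]; exact zero_mem _
  obtain ⟨v, hv⟩ := exists_ne (0 : V)
  obtain ⟨U, hU, hUv⟩ := h.exists_apply_eq hv (T v)
  have : T - U = 0 := h.eq_zero_of_apply (fun a ha => by
    rw [sub_mul, mul_sub, hT a ha, h.alg_comm hU (h.toEnd_mem ha)]) hv (by
    rw [LinearMap.sub_apply, hUv, sub_self])
  rwa [sub_eq_zero.1 this]

theorem apply_inj {T U : Module.End F2 V} (hT : T ∈ alg S) (hU : U ∈ alg S) {v : V} (hv : v ≠ 0)
    (he : T v = U v) : T = U :=
  sub_eq_zero.1 (h.eq_zero_of_apply (fun a ha => by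
    rw [sub_mul, mul_sub, h.alg_comm hT (h.toEnd_mem ha), h.alg_comm hU (h.toEnd_mem ha)]) hv (by
    rw [LinearMap.sub_apply, he, sub_self]))

/-- The generated algebra is isomorphic to the space by evaluation. -/
noncomputable def evalEquiv {v : V} (hv : v ≠ 0) : alg S ≃ₗ[F2] V :=
  LinearEquiv.ofBijective ((LinearMap.applyₗ v).comp (Subalgebra.toSubmodule (alg S)).subtype)
    ⟨fun T U he => Subtype.ext (h.apply_inj T.2 U.2 hv he), fun w => by
      obtain ⟨T, hT, hTv⟩ := h.exists_apply_eq hv w
      exact ⟨⟨T, hT⟩, hTv⟩⟩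

/-- The commutative ring structure on the generated algebra. -/
@[reducible] def commRing : CommRing (alg S) :=
  { (inferInstance : Ring (alg S)) with
    mul_comm := fun a b => Subtype.ext (h.alg_comm a.2 b.2) }

theorem isDomain [Nontrivial V] : letI := h.commRing; IsDomain (alg S) := by
  letI := h.commRing
  haveI : Nontrivial (alg S) := by
    obtain ⟨v, hv⟩ := exists_ne (0 : V)
    exact (h.evalEquiv hv).toEquiv.nontrivial
  haveI : NoZeroDivisors (alg S) := ⟨fun {a b} hab => by
    by_contra hc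
    push Not at hc
    obtain ⟨w, hw⟩ : ∃ w, b.1 w ≠ 0 := by
      by_contra h0
      push Not at h0
      exact hc.2 (Subtype.ext (LinearMap.ext h0))
    refine hc.1 (Subtype.ext (h.eq_zero_of_apply (fun u hu => h.alg_comm a.2 (h.toEnd_mem hu)) hw ?_))
    exact LinearMap.congr_fun (congrArg Subtype.val hab) w⟩
  exact NoZeroDivisors.to_isDomain _

theorem finrank_alg [Nontrivial V] : finrank F2 (alg S) = finrank F2 V := by
  obtain ⟨v, hv⟩ := exists_ne (0 : V)
  exact (h.evalEquiv hv).finrank_eq

variable [Finite V] [Nontrivial V]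

theorem finite_alg : Finite (alg S) := by
  obtain ⟨v, hv⟩ := exists_ne (0 : V)
  exact Finite.of_equiv V (h.evalEquiv hv).toEquiv.symm

/-- A group of linear equivalences commuting with the set is cyclic. -/
theorem isCyclic_of_commute (P : Subgroup (V ≃ₗ[F2] V)) (hP : ∀ p ∈ P, ∀ a ∈ S, p * a = a * p) : IsCyclic P := by
  haveI : Finite (V ≃ₗ[F2] V) := finite_equiv
  letI := h.commRing
  haveI := h.isDomain
  have hm : ∀ p : P, toEnd p.1 ∈ alg S := fun p => h.mem_alg_of_commute fun a ha => by
    rw [← map_mul, ← map_mul, hP _ p.2 a ha]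
  let f : P →* alg S :=
    { toFun := fun p => ⟨toEnd p.1, hm p⟩
      map_one' := Subtype.ext (map_one toEnd)
      map_mul' := fun a b => Subtype.ext (map_mul toEnd a.1 b.1) }
  exact isCyclic_of_injective_ringHom f
    fun a b hab => Subtype.ext (toEnd_injective (congrArg Subtype.val hab))

/-- An element commuting with the set satisfies the equation of the field. -/
theorem pow_card (g : V ≃ₗ[F2] V) (hg : ∀ a ∈ S, g * a = a * g) : g ^ (2 ^ finrank F2 V - 1) = 1 := by
  classical
  letI := h.commRing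
  haveI := h.isDomain
  haveI := h.finite_alg
  letI := Fintype.ofFinite (alg S)
  letI := Fintype.fieldOfDomain (alg S)
  have hx : toEnd g ∈ alg S := h.mem_alg_of_commute fun a ha => by rw [← map_mul, ← map_mul, hg a ha]
  have h0 : (⟨toEnd g, hx⟩ : alg S) ≠ 0 := by
    intro h0
    obtain ⟨v, hv⟩ := exists_ne (0 : V)
    exact hv ((LinearEquiv.map_eq_zero_iff g).1 (LinearMap.congr_fun (congrArg Subtype.val h0) v))
  have hc := FiniteField.pow_card_sub_one_eq_one (⟨toEnd g, hx⟩ : alg S) h0
  rw [← Nat.card_eq_fintype_card, natCard_eq_pow_finrank (K := F2) (V := alg S), Nat.card_zmod,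
    h.finrank_alg] at hc
  apply toEnd_injective
  rw [map_pow, map_one]
  simpa using congrArg Subtype.val hc

/-- Conjugates of a member inside the commutant number at most the dimension. -/
theorem card_conj_le {a : V ≃ₗ[F2] V} (ha : a ∈ S) (A : Finset (V ≃ₗ[F2] V))
    (hA : ∀ b ∈ A, ∃ g : V ≃ₗ[F2] V, g * a * g⁻¹ = b ∧ ∀ c ∈ S, b * c = c * b) :
    A.card ≤ finrank F2 V := by
  classical
  letI := h.commRing
  haveI := h.isDomain
  haveI := h.finite_alg
  haveI : Module.Finite F2 (alg S) := Module.Finite.of_finite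
  set x : alg S := ⟨toEnd a, h.toEnd_mem ha⟩
  set m := minpoly F2 x
  have hm0 : m ≠ 0 := minpoly.ne_zero (Algebra.IsIntegral.isIntegral x)
  have hx : aeval (toEnd a) m = 0 := by
    have := congrArg (alg S).val (minpoly.aeval F2 x)
    rwa [← aeval_algHom_apply, map_zero] at this
  let f : A → alg S := fun b => ⟨toEnd b.1, h.mem_alg_of_commute fun c hc => by
    obtain ⟨g, -, hg⟩ := hA b.1 b.2
    rw [← map_mul, ← map_mul, hg c hc]⟩
  have hf : Function.Injective f := fun b b' hb => Subtype.ext (toEnd_injective (congrArg Subtype.val hb))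
  have hroot : Finset.univ.image f ⊆ (m.map (algebraMap F2 (alg S))).roots.toFinset := by
    intro y hy
    obtain ⟨b, -, rfl⟩ := Finset.mem_image.1 hy
    obtain ⟨g, hg, -⟩ := hA b.1 b.2
    rw [Multiset.mem_toFinset, mem_roots (fun h0 => hm0 ((Polynomial.map_eq_zero_iff (algebraMap F2 (alg S)).injective).1 h0)),
      IsRoot, eval_map_algebraMap]
    apply Subtype.ext
    rw [← Subalgebra.coe_val, ← aeval_algHom_apply, map_zero, Subalgebra.coe_val]
    show aeval (toEnd b.1) m = 0
    have hb : toEnd b.1 = LinearEquiv.conjAlgEquiv F2 g (toEnd a) := by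
      rw [← hg]; ext v; rfl
    rw [hb, aeval_algEquiv, AlgHom.comp_apply, hx, map_zero]
  have := Finset.card_le_card hroot
  rw [Finset.card_image_of_injective _ hf, Finset.card_univ, Fintype.card_coe] at this
  refine this.trans ((Multiset.toFinset_card_le _).trans ((card_roots' _).trans ?_))
  rw [natDegree_map_eq_of_injective (algebraMap F2 (alg S)).injective]
  exact (minpoly.natDegree_le x).trans h.finrank_alg.le

end IrredComm

variable [Finite V] [Nontrivial V]

/-- A conjugate of an irreducible map commuting with it is a power of squaring applied to it. -/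
theorem conj_eq_pow {r g : V ≃ₗ[F2] V} (h : IrredComm {r}) (hc : Commute (g * r * g⁻¹) r) :
    ∃ j, g * r * g⁻¹ = r ^ 2 ^ j ∧ r ^ 2 ^ finrank F2 V = r := by
  classical
  letI := h.commRing
  haveI := h.isDomain
  haveI : Finite (alg ({r} : Set (V ≃ₗ[F2] V))) := h.finite_alg
  have hcard : r ^ 2 ^ finrank F2 V = r := by
    have hc := h.pow_card r fun a ha => by rw [Set.mem_singleton_iff.1 ha]
    conv_rhs => rw [← mul_one r, ← hc]
    rw [← pow_succ', Nat.sub_add_cancel (Nat.one_le_pow _ _ two_pos)]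
  let x : alg ({r} : Set (V ≃ₗ[F2] V)) := ⟨toEnd r, h.toEnd_mem rfl⟩
  have hgen : ∀ y : alg ({r} : Set (V ≃ₗ[F2] V)), ∃ p : F2[X], aeval x p = y := by
    intro y
    have := y.2
    simp only [alg, Set.image_singleton, Algebra.adjoin_singleton_eq_range_aeval, AlgHom.mem_range] at this
    obtain ⟨p, hp⟩ := this
    exact ⟨p, Subtype.ext ((Polynomial.aeval_subalgebra_coe p _ x).trans hp)⟩
  have hy : toEnd (g * r * g⁻¹) ∈ alg ({r} : Set (V ≃ₗ[F2] V)) := h.mem_alg_of_commute fun a ha => by
    rw [Set.mem_singleton_iff.1 ha, ← map_mul, ← map_mul, hc.eq]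
  have hroot : aeval (⟨_, hy⟩ : alg ({r} : Set (V ≃ₗ[F2] V))) (minpoly F2 x) = 0 := by
    apply Subtype.ext
    rw [Polynomial.aeval_subalgebra_coe, ZeroMemClass.coe_zero]
    have hg : toEnd (g * r * g⁻¹) = LinearEquiv.conjAlgEquiv F2 g (toEnd r) := by ext v; rfl
    have hxm : aeval (toEnd r) (minpoly F2 x) = 0 := by
      have := congrArg Subtype.val (minpoly.aeval F2 x)
      rwa [Polynomial.aeval_subalgebra_coe] at this
    show aeval (toEnd (g * r * g⁻¹)) _ = 0
    rw [hg, aeval_algEquiv, AlgHom.comp_apply, hxm, map_zero]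
  obtain ⟨j, hj⟩ := root_eq_pow x hgen hroot
  refine ⟨j, toEnd_injective ?_, hcard⟩
  rw [map_pow]
  exact congrArg Subtype.val hj

/-- The dimension power of a normalising map centralises an irreducible map. -/
theorem commute_pow_dim {r g : V ≃ₗ[F2] V} (h : IrredComm {r}) (hc : Commute (g * r * g⁻¹) r) :
    Commute (g ^ finrank F2 V) r := by
  obtain ⟨j, hj, hd⟩ := conj_eq_pow h hc
  have hk : ∀ k : ℕ, g ^ k * r * (g ^ k)⁻¹ = r ^ 2 ^ (j * k) := by
    intro k
    induction k with
    | zero => simp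
    | succ k ih =>
      calc g ^ (k + 1) * r * (g ^ (k + 1))⁻¹ = g * (g ^ k * r * (g ^ k)⁻¹) * g⁻¹ := by
            rw [pow_succ']; group
        _ = g * r ^ 2 ^ (j * k) * g⁻¹ := by rw [ih]
        _ = (g * r * g⁻¹) ^ 2 ^ (j * k) := by rw [← MulAut.conj_apply, map_pow, MulAut.conj_apply]
        _ = r ^ 2 ^ (j * (k + 1)) := by rw [hj, ← pow_mul, ← pow_add]; ring_nf
  have hit : ∀ i : ℕ, r ^ 2 ^ (finrank F2 V * i) = r := by
    intro i
    induction i with
    | zero => simp
    | succ i ih => rw [Nat.mul_succ, pow_add, pow_mul, ih, hd]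
  have := hk (finrank F2 V)
  rw [mul_comm j, hit] at this
  exact (mul_inv_eq_iff_eq_mul.1 this)

end CfsgLib.SingerOver
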