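import Mathlib

set_option linter.style.haveILetI false

/-!
Linear groups over the field with two elements: orbit counts on vectors and on functionals, and transitivity of
subgroups of odd index on orbits of two-power size.
-/

namespace CfsgLib.SingerOver

open MulAction Module

abbrev F2 := ZMod 2

theorem f2_cases (a : F2) : a = 0 ∨ a = 1 := by
  revert a
  decide

theorem f2_eq_one {a : F2} (h : a ≠ 0) : a = 1 := (f2_cases a).resolve_left h

section Index

variable {G X : Type*} [Group G] [Finite G] [MulAction G X]

/-- A subgroup of index prime to the orbit size is transitive on that orbit. -/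
theorem exists_smul_of_coprime_index (J : Subgroup G) {a b : X} (hb : b ∈ orbit G a)
    (hco : (Nat.card (orbit G a)).Coprime J.index) : ∃ g ∈ J, g • a = b := by
  classical
  have h1 : Nat.card (orbit G a) = (stabilizer G a).index := (index_stabilizer G a).symm
  have h2 : Nat.card (orbit J a) = ((stabilizer G a).subgroupOf J).index := by
    have : (stabilizer G a).subgroupOf J = stabilizer J a := by
      ext g
      simp [Subgroup.mem_subgroupOf, Subgroup.smul_def]
    rw [this]
    exact (index_stabilizer (↥J) a).symm
  have hsub : orbit J a ⊆ orbit G a := by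
    rintro x ⟨g, rfl⟩
    exact ⟨(g : G), rfl⟩
  have hdvd : Nat.card (orbit G a) ∣ Nat.card (orbit J a) := by
    have ha : (stabilizer G a ⊓ J).index = ((stabilizer G a).subgroupOf J).index * J.index := by
      have := Subgroup.relIndex_mul_index (inf_le_right : stabilizer G a ⊓ J ≤ J)
      rw [← this, Subgroup.relIndex, Subgroup.inf_subgroupOf_right]
    have hb' : (stabilizer G a).index ∣ (stabilizer G a ⊓ J).index :=
      Subgroup.index_dvd_of_le inf_le_left
    rw [ha, ← h1, ← h2] at hb'
    exact hco.dvd_of_dvd_mul_right hb'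
  have hfin : (orbit G a).Finite := Finite.finite_mulAction_orbit a
  haveI := hfin.to_subtype
  have hpos : 0 < Nat.card (orbit J a) := by
    haveI : Finite (orbit J a) := (hfin.subset hsub).to_subtype
    haveI : Nonempty (orbit J a) := ⟨⟨a, mem_orbit_self a⟩⟩
    exact Nat.card_pos
  have heq : orbit J a = orbit G a := by
    apply Set.eq_of_subset_of_ncard_le hsub _ hfin
    rw [← Nat.card_coe_set_eq, ← Nat.card_coe_set_eq]
    exact Nat.le_of_dvd hpos hdvd
  rw [← heq] at hb
  obtain ⟨g, hg⟩ := hb
  exact ⟨(g : G), g.2, hg⟩

end Index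

section Dual

variable {V : Type*} [AddCommGroup V] [Module F2 V]

/-- The contragredient action on functionals. -/
@[reducible] def dualAct : MulAction (V ≃ₗ[F2] V) (Dual F2 V) where
  smul g f := f.comp (g.symm : V →ₗ[F2] V)
  one_smul f := by
    change f.comp _ = f
    ext v
    rfl
  mul_smul g h f := by
    change f.comp _ = (f.comp _).comp _
    ext v
    rfl

attribute [scoped instance] dualAct

theorem dual_smul_apply (g : V ≃ₗ[F2] V) (f : Dual F2 V) (v : V) : (g • f) v = f (g⁻¹ v) := rfl

theorem dual_smul_sub {G : Subgroup (V ≃ₗ[F2] V)} (g : G) (f : Dual F2 V) (v : V) :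
    (g • f) v = f ((g : V ≃ₗ[F2] V)⁻¹ v) := rfl

theorem dual_smul_sub_apply_smul {G : Subgroup (V ≃ₗ[F2] V)} (g : G) (f : Dual F2 V) (v : V) :
    (g • f) (g • v) = f v := by
  rw [dual_smul_sub]
  congr 1
  exact LinearEquiv.symm_apply_apply (g : V ≃ₗ[F2] V) v

variable [Finite V]

theorem card_fixed_dual (g : V ≃ₗ[F2] V) :
    Nat.card {f : Dual F2 V // g • f = f} = Nat.card {v : V // g • v = v} := by
  set M : V →ₗ[F2] V := (g : V →ₗ[F2] V) - LinearMap.id with hM
  have h1 : Nat.card {v : V // g • v = v} = Nat.card (LinearMap.ker M) :=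
    Nat.card_congr (Equiv.subtypeEquivRight fun v => by
      rw [LinearMap.mem_ker, hM, LinearMap.sub_apply, sub_eq_zero]
      rfl)
  have h2 : Nat.card {f : Dual F2 V // g • f = f} = Nat.card (LinearMap.ker M.dualMap) := by
    refine Nat.card_congr (Equiv.subtypeEquivRight fun f => ?_)
    rw [LinearMap.mem_ker]
    constructor
    · intro h
      ext v
      rw [LinearMap.dualMap_apply, hM, LinearMap.sub_apply, LinearMap.zero_apply, map_sub, sub_eq_zero,
        LinearMap.id_apply]
      have h3 := LinearMap.congr_fun h (g v)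
      rw [dual_smul_apply] at h3
      rw [← (show g⁻¹ (g v) = v from g.symm_apply_apply v)]
      conv_rhs => rw [h3]
      rw [show g⁻¹ (g v) = v from g.symm_apply_apply v]
      rfl
    · intro h
      ext v
      have h3 := LinearMap.congr_fun h (g⁻¹ v)
      rw [LinearMap.dualMap_apply, hM, LinearMap.sub_apply, LinearMap.zero_apply, map_sub, sub_eq_zero,
        LinearMap.id_apply] at h3
      rw [dual_smul_apply, ← h3]
      exact congrArg f (g.apply_symm_apply v)
  rw [h1, h2, natCard_eq_pow_finrank (K := F2) (V := LinearMap.ker M),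
    natCard_eq_pow_finrank (K := F2) (V := LinearMap.ker M.dualMap)]
  congr 1
  have a1 := LinearMap.finrank_range_add_finrank_ker M
  have a2 := LinearMap.finrank_range_add_finrank_ker M.dualMap
  rw [LinearMap.finrank_range_dualMap_eq_finrank_range, Subspace.dual_finrank_eq] at a2
  omega

/-- A group of linear maps has as many orbits on functionals as on vectors. -/
theorem card_orbits_dual (J : Subgroup (V ≃ₗ[F2] V)) :
    Nat.card (orbitRel.Quotient J (Dual F2 V)) = Nat.card (orbitRel.Quotient J V) := by
  classical
  haveI : Fintype V := Fintype.ofFinite V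
  haveI : Finite (Dual F2 V) := Module.finite_of_finite F2
  haveI : Fintype (Dual F2 V) := Fintype.ofFinite _
  haveI : Finite (V ≃ₗ[F2] V) := Finite.of_injective _ DFunLike.coe_injective
  haveI : Fintype J := Fintype.ofFinite J
  haveI : Fintype (orbitRel.Quotient J (Dual F2 V)) := Fintype.ofFinite _
  haveI : Fintype (orbitRel.Quotient J V) := Fintype.ofFinite _
  have e1 := sum_card_fixedBy_eq_card_orbits_mul_card_group J (Dual F2 V)
  have e2 := sum_card_fixedBy_eq_card_orbits_mul_card_group J V
  have : ∑ g : J, Fintype.card (fixedBy (Dual F2 V) g) = ∑ g : J, Fintype.card (fixedBy V g) := by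
    refine Finset.sum_congr rfl fun g _ => ?_
    rw [← Nat.card_eq_fintype_card, ← Nat.card_eq_fintype_card]
    exact card_fixed_dual (g : V ≃ₗ[F2] V)
  rw [this, e2] at e1
  rw [Nat.card_eq_fintype_card, Nat.card_eq_fintype_card]
  exact (Nat.eq_of_mul_eq_mul_right Fintype.card_pos e1).symm

end Dual

end CfsgLib.SingerOver
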