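import Cfsg.Agent.Lib.SingerOver.Count

/-!
A group of linear maps of a space over two elements which is doubly transitive on non-zero vectors is transitive
on antiflags and on the vectors off a hyperplane of a flag.
-/

set_option linter.style.haveILetI false

namespace CfsgLib.SingerOver

open MulAction Module

variable {V : Type*} [AddCommGroup V] [Module F2 V]

/-- Double transitivity on non-zero vectors. -/
structure Setup (G : Subgroup (V ≃ₗ[F2] V)) : Prop where
  two : ∀ a b c d : V, a ≠ 0 → b ≠ 0 → a ≠ b → c ≠ 0 → d ≠ 0 → c ≠ d →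
    ∃ g ∈ G, g a = c ∧ g b = d

theorem add_self_f2 (v : V) : v + v = 0 := by
  rw [← two_smul F2 v, show (2 : F2) = 0 from rfl, zero_smul]

theorem add_ne_zero_of_ne {a b : V} (h : a ≠ b) : a + b ≠ 0 := by
  intro h0
  apply h
  calc a = a + b + b := by rw [add_assoc, add_self_f2, add_zero]
    _ = b := by rw [h0, zero_add]

theorem eq_add_of_add_eq {a b c : V} (h : a + b = c) : b = a + c := by
  rw [← h, ← add_assoc, add_self_f2, zero_add]

/-- Stabiliser of a vector inside `G`. -/
def pt (G : Subgroup (V ≃ₗ[F2] V)) (x : V) : Subgroup (V ≃ₗ[F2] V) := G ⊓ stabilizer _ x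

/-- Stabiliser of a functional inside `G`. -/
def fn (G : Subgroup (V ≃ₗ[F2] V)) (f : Dual F2 V) : Subgroup (V ≃ₗ[F2] V) := G ⊓ stabilizer _ f

variable {G : Subgroup (V ≃ₗ[F2] V)}

theorem mem_pt {g : V ≃ₗ[F2] V} {x : V} : g ∈ pt G x ↔ g ∈ G ∧ g x = x := Iff.rfl

theorem mem_fn {g : V ≃ₗ[F2] V} {f : Dual F2 V} : g ∈ fn G f ↔ g ∈ G ∧ g • f = f := Iff.rfl

theorem smul_f_apply_map (g : V ≃ₗ[F2] V) (f : Dual F2 V) (v : V) : (g • f) (g v) = f v := by
  rw [dual_smul_apply]
  exact congrArg f (g.symm_apply_apply v)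

theorem apply_map_of_fixed {g : V ≃ₗ[F2] V} {f : Dual F2 V} (h : g • f = f) (v : V) : f (g v) = f v := by
  conv_lhs => rw [← h]
  exact smul_f_apply_map g f v

theorem finite_equiv [Finite V] : Finite (V ≃ₗ[F2] V) := Finite.of_injective _ DFunLike.coe_injective

theorem exists_fun_one {a : V} (ha : a ≠ 0) : ∃ f : Dual F2 V, f a = 1 := by
  obtain ⟨f, hf⟩ : ∃ f : Dual F2 V, f a ≠ 0 := by
    by_contra h
    push Not at h
    exact ha ((Module.forall_dual_apply_eq_zero_iff F2 a).1 h)
  exact ⟨f, f2_eq_one hf⟩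

theorem exists_both_one {f f' : Dual F2 V} (hf : f ≠ 0) (hf' : f' ≠ 0) : ∃ w, f w = 1 ∧ f' w = 1 := by
  obtain ⟨a, ha⟩ : ∃ a, f a ≠ 0 := by
    by_contra h
    push Not at h
    exact hf (LinearMap.ext h)
  obtain ⟨b, hb⟩ : ∃ b, f' b ≠ 0 := by
    by_contra h
    push Not at h
    exact hf' (LinearMap.ext h)
  have ha1 := f2_eq_one ha
  have hb1 := f2_eq_one hb
  rcases f2_cases (f' a) with h | h
  · rcases f2_cases (f b) with h' | h'
    · exact ⟨a + b, by rw [map_add, ha1, h', add_zero], by rw [map_add, h, hb1, zero_add]⟩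
    · exact ⟨b, h', hb1⟩
  · exact ⟨a, ha1, h⟩

theorem exists_fun_zero (hn : 2 ≤ finrank F2 V) [Finite V] (x : V) : ∃ f : Dual F2 V, f ≠ 0 ∧ f x = 0 := by
  have hlt : Submodule.span F2 {x} < ⊤ := by
    refine lt_top_iff_ne_top.2 fun h => ?_
    have h1 := finrank_span_le_card ({x} : Set V) (R := F2)
    rw [h, finrank_top] at h1
    simp only [Set.toFinset_singleton, Finset.card_singleton] at h1
    omega
  obtain ⟨f, hf, hle⟩ := Submodule.exists_le_ker_of_lt_top _ hlt
  exact ⟨f, hf, hle (Submodule.subset_span rfl)⟩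

/-- A class function with as many values as there are orbits separates the orbits. -/
theorem exists_smul_of_class {J X C : Type*} [Group J] [MulAction J X] [Finite X] [Finite C] (c : X → C)
    (hinv : ∀ (g : J) a, c (g • a) = c a) (hsurj : Function.Surjective c)
    (hcard : Nat.card (orbitRel.Quotient J X) ≤ Nat.card C) {a b : X} (h : c a = c b) :
    ∃ g : J, g • a = b := by
  let φ : orbitRel.Quotient J X → C := Quotient.lift c (by
    rintro u v ⟨g, rfl⟩
    exact hinv g v)
  have hφ : Function.Surjective φ := fun v => by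
    obtain ⟨u, hu⟩ := hsurj v
    exact ⟨Quotient.mk _ u, hu⟩
  haveI : Fintype (orbitRel.Quotient J X) := Fintype.ofFinite _
  haveI : Fintype C := Fintype.ofFinite C
  rw [Nat.card_eq_fintype_card, Nat.card_eq_fintype_card] at hcard
  have hbij := (Fintype.bijective_iff_surjective_and_card φ).2
    ⟨hφ, le_antisymm hcard (Fintype.card_le_of_surjective φ hφ)⟩
  have hab : (Quotient.mk'' b : orbitRel.Quotient J X) = Quotient.mk'' a := hbij.1 h.symm
  obtain ⟨g, hg⟩ := Quotient.eq''.1 hab
  exact ⟨g, hg⟩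

/-- If the pieces of a class function are orbits, the number of orbits is at most the number of values. -/
theorem card_orbits_le_class {J X C : Type*} [Group J] [MulAction J X] [Finite C] (c : X → C)
    (hinv : ∀ (g : J) a, c (g • a) = c a) (h : ∀ a b, c a = c b → ∃ g : J, g • a = b) :
    Nat.card (orbitRel.Quotient J X) ≤ Nat.card C := by
  let φ : orbitRel.Quotient J X → C := Quotient.lift c (by
    rintro u v ⟨g, rfl⟩
    exact hinv g v)
  refine Nat.card_le_card_of_injective φ ?_
  intro u v huv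
  induction u using Quotient.inductionOn' with | h u => ?_
  induction v using Quotient.inductionOn' with | h v => ?_
  exact (Quotient.eq''.2 (h v u huv.symm))

namespace Setup

variable [Finite V] (hG : Setup G) (hn : 2 ≤ finrank F2 V)

include hG

theorem exists_map {a c : V} (ha : a ≠ 0) (hc : c ≠ 0) (hn : 2 ≤ finrank F2 V) : ∃ g ∈ G, g a = c := by
  obtain ⟨f, hf, hfa⟩ := exists_fun_zero hn a
  obtain ⟨f', hf', hfc⟩ := exists_fun_zero hn c
  obtain ⟨b, hb, hb'⟩ := exists_both_one hf hf'
  have hb0 : b ≠ 0 := fun h => by rw [h, map_zero] at hb; exact zero_ne_one hb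
  obtain ⟨g, hg, h1, -⟩ := hG.two a b c b ha hb0 (fun h => by rw [← h, hfa] at hb; exact zero_ne_one hb)
    hc hb0 (fun h => by rw [← h, hfc] at hb'; exact zero_ne_one hb')
  exact ⟨g, hg, h1⟩

/-- The stabiliser of a vector is transitive on each of the two kinds of non-zero functionals. -/
theorem fun_trans {x : V} (hx : x ≠ 0) {f f' : Dual F2 V} (hf : f ≠ 0) (hf' : f' ≠ 0) (h : f x = f' x)
    (hn : 2 ≤ finrank F2 V) : ∃ g ∈ pt G x, g • f = f' := by
  classical
  haveI : Finite (Dual F2 V) := Module.finite_of_finite F2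
  let cv : V → Fin 3 := fun v => if v = 0 then 0 else if v = x then 1 else 2
  let cf : Dual F2 V → Fin 3 := fun u => if u = 0 then 0 else if u x = 1 then 1 else 2
  have e0 : ∀ g : pt G x, ∀ v, g • v = (0 : V) ↔ v = 0 := fun g v =>
    LinearEquiv.map_eq_zero_iff (g : V ≃ₗ[F2] V)
  have hiv : ∀ (g : pt G x) v, cv (g • v) = cv v := fun g v => by
    have e1 : g • v = x ↔ v = x := by
      constructor
      · intro hh
        exact (g : V ≃ₗ[F2] V).injective (hh.trans g.2.2.symm)
      · rintro rfl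
        exact g.2.2
    simp only [cv, e0 g v, e1]
  have hifn : ∀ (g : pt G x) u, cf (g • u) = cf u := fun g u => by
    have e1 : (g • u) x = u x := by
      calc (g • u) x = ((g : V ≃ₗ[F2] V) • u) ((g : V ≃ₗ[F2] V) x) := by
            rw [show (g : V ≃ₗ[F2] V) x = x from g.2.2]; rfl
        _ = u x := smul_f_apply_map _ u x
    have e2 : g • u = 0 ↔ u = 0 := by
      constructor
      · intro hh
        ext v
        rw [← smul_f_apply_map (g : V ≃ₗ[F2] V) u v]
        exact LinearMap.congr_fun hh _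
      · rintro rfl
        ext v
        rfl
    simp only [cf, e1, e2]
  have horb : Nat.card (orbitRel.Quotient (pt G x) V) ≤ 3 := by
    have := card_orbits_le_class (J := pt G x) cv hiv (fun a b hab => by
      by_cases ha : a = 0
      · subst ha
        have hb : b = 0 := by
          by_contra hb
          by_cases hb' : b = x <;> simp [cv, hb, hb', hx] at hab
        exact ⟨1, by rw [hb, one_smul]⟩
      by_cases hax : a = x
      · subst hax
        have hb : b = a := by
          by_contra hb'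
          by_cases hb : b = 0 <;> simp [cv, hb, hb', hx, ha] at hab
        exact ⟨1, by rw [hb, one_smul]⟩
      have hb : b ≠ 0 := fun hb => by simp [cv, hb, ha, hax] at hab
      have hbx : b ≠ x := fun hb' => by simp [cv, hb', hx, ha, hax] at hab
      obtain ⟨g, hg, h1, h2⟩ := hG.two x a x b hx ha (Ne.symm hax) hx hb (Ne.symm hbx)
      exact ⟨⟨g, hg, h1⟩, h2⟩)
    simpa using this
  rw [← card_orbits_dual] at horb
  have hsurj : Function.Surjective cf := by
    intro i
    obtain ⟨f1, hf1⟩ := exists_fun_one hx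
    obtain ⟨f0, hf00, hf0⟩ := exists_fun_zero hn x
    have h10 : f1 ≠ 0 := fun hh => by rw [hh] at hf1; exact zero_ne_one hf1
    fin_cases i
    · exact ⟨0, by simp [cf]⟩
    · exact ⟨f1, by simp [cf, h10, hf1]⟩
    · exact ⟨f0, by simp [cf, hf00, hf0]⟩
  obtain ⟨g, hg⟩ := exists_smul_of_class (J := pt G x) cf hifn hsurj (by simpa using horb)
    (a := f) (b := f') (by simp [cf, hf, hf', h])
  exact ⟨g, g.2, hg⟩

/-- The stabiliser of a functional is transitive on the non-zero vectors with a given value. -/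
theorem vec_trans {f : Dual F2 V} (hf : f ≠ 0) {z z' : V} (hz : z ≠ 0) (hz' : z' ≠ 0) (h : f z = f z')
    (hn : 2 ≤ finrank F2 V) : ∃ g ∈ fn G f, g z = z' := by
  obtain ⟨g, hg, hgz⟩ := hG.exists_map hz hz' hn
  have h1 : (g • f) z' = f z' := by rw [← hgz, smul_f_apply_map, h, hgz]
  have hne : g • f ≠ 0 := fun hh => hf (by
    ext v
    rw [← smul_f_apply_map g f v, hh]
    rfl)
  obtain ⟨k, hk, hkf⟩ := hG.fun_trans hz' hne hf h1 hn
  refine ⟨k * g, ⟨mul_mem hk.1 hg, ?_⟩, ?_⟩
  · show (k * g) • f = f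
    rw [mul_smul, hkf]
  · rw [LinearEquiv.mul_apply, hgz]
    exact hk.2

omit hG in
theorem card_level (f : Dual F2 V) (hf : f ≠ 0) :
    Nat.card {z : V // f z = 1} = 2 ^ (finrank F2 V - 1) := by
  obtain ⟨a, ha⟩ : ∃ a, f a = 1 := by
    by_contra h
    push Not at h
    exact hf (LinearMap.ext fun v => by
      rcases f2_cases (f v) with h' | h'
      · exact h'
      · exact absurd h' (h v))
  let e : {z : V // f z = 1} ≃ LinearMap.ker f :=
    { toFun := fun z => ⟨(z : V) + a, by rw [LinearMap.mem_ker, map_add, z.2, ha]; decide⟩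
      invFun := fun z => ⟨(z : V) + a, by rw [map_add, LinearMap.mem_ker.1 z.2, zero_add, ha]⟩
      left_inv := fun z => Subtype.ext (by simp [add_assoc, add_self_f2])
      right_inv := fun z => Subtype.ext (by simp [add_assoc, add_self_f2]) }
  rw [Nat.card_congr e, natCard_eq_pow_finrank (K := F2) (V := LinearMap.ker f), Nat.card_zmod]
  congr 1
  have h1 := LinearMap.finrank_range_add_finrank_ker f
  have hr : LinearMap.range f = ⊤ := LinearMap.range_eq_top.2 fun c => ⟨c • a, by simp [ha]⟩
  rw [hr, finrank_top, finrank_self] at h1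
  omega

end Setup

theorem odd_two_pow_sub_one {k : ℕ} (hk : 1 ≤ k) : Odd (2 ^ k - 1) :=
  Nat.Even.sub_odd Nat.one_le_two_pow ((Nat.even_pow' (by omega)).2 even_two) odd_one

theorem card_ne_zero_level [Finite V] (f : Dual F2 V) (hf : f ≠ 0) :
    Nat.card {z : V // z ≠ 0 ∧ f z = 0} = 2 ^ (finrank F2 V - 1) - 1 := by
  classical
  haveI : Fintype V := Fintype.ofFinite V
  have h2 := Fintype.card_subtype_compl (fun z : V => f z = 1)
  have e : {z : V // ¬ f z = 1} ≃ LinearMap.ker f := Equiv.subtypeEquivRight fun z => by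
    rw [LinearMap.mem_ker]
    rcases f2_cases (f z) with h | h <;> simp [h]
  have h3 := Setup.card_level f hf
  have h4 : Nat.card {z : V // z ≠ 0 ∧ f z = 0} = Nat.card {z : LinearMap.ker f // z ≠ 0} :=
    Nat.card_congr
      { toFun := fun z => ⟨⟨z.1, LinearMap.mem_ker.2 z.2.2⟩, fun h => z.2.1 (congrArg Subtype.val h)⟩
        invFun := fun z => ⟨z.1.1, fun h => z.2 (Subtype.ext h), LinearMap.mem_ker.1 z.1.2⟩
        left_inv := fun _ => rfl
        right_inv := fun _ => rfl }
  have h5 : Nat.card (LinearMap.ker f) = 2 ^ (finrank F2 V - 1) := by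
    rw [← Nat.card_congr e, Nat.card_eq_fintype_card, h2, ← Nat.card_eq_fintype_card,
      ← Nat.card_eq_fintype_card, h3, natCard_eq_pow_finrank (K := F2) (V := V), Nat.card_zmod]
    have hpos : 1 ≤ finrank F2 V := by
      by_contra h
      push Not at h
      exact hf (LinearMap.ext fun v => by
        haveI : Subsingleton V := Module.finrank_zero_iff.1 (show finrank F2 V = 0 by omega)
        rw [Subsingleton.elim v 0, map_zero]; rfl)
    obtain ⟨m, hm⟩ := Nat.exists_eq_succ_of_ne_zero (show finrank F2 V ≠ 0 by omega)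
    rw [hm, pow_succ]
    simp; omega
  haveI : Fintype (LinearMap.ker f) := Fintype.ofFinite _
  rw [h4, Nat.card_eq_fintype_card, Fintype.card_subtype_compl, Fintype.card_subtype_eq,
    ← Nat.card_eq_fintype_card, h5]

/-- The stabiliser of a flag is transitive on the vectors off the hyperplane. -/
theorem Setup.flag_out [Finite V] (hG : Setup G) (hn : 2 ≤ finrank F2 V) {x : V} (hx : x ≠ 0) {f : Dual F2 V}
    (hf : f ≠ 0) (hfx : f x = 0) {z z' : V} (hz : f z = 1) (hz' : f z' = 1) :
    ∃ g ∈ pt G x ⊓ fn G f, g z = z' := by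
  haveI : Finite (V ≃ₗ[F2] V) := finite_equiv
  have hz0 : ∀ {w : V}, f w = 1 → w ≠ 0 := fun {w} hw h => by rw [h, map_zero] at hw; exact zero_ne_one hw
  have horb : orbit (fn G f) z = {w | f w = 1} := by
    ext w
    constructor
    · rintro ⟨g, rfl⟩
      show f ((g : V ≃ₗ[F2] V) z) = 1
      rw [apply_map_of_fixed g.2.2, hz]
    · intro hw
      obtain ⟨g, hg, h⟩ := hG.vec_trans hf (hz0 hz) (hz0 hw) (by rw [hz, hw]) hn
      exact ⟨⟨g, hg⟩, h⟩
  have hindex : ((pt G x ⊓ fn G f).subgroupOf (fn G f)).index = 2 ^ (finrank F2 V - 1) - 1 := by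
    have hst : (pt G x ⊓ fn G f).subgroupOf (fn G f) = stabilizer (fn G f) x := by
      ext g
      simp only [Subgroup.mem_subgroupOf, Subgroup.mem_inf, mem_pt, mem_stabilizer_iff]
      exact ⟨fun h => h.1.2, fun h => ⟨⟨g.2.1, h⟩, g.2⟩⟩
    rw [hst, index_stabilizer]
    have : orbit (fn G f) x = {w | w ≠ 0 ∧ f w = 0} := by
      ext w
      constructor
      · rintro ⟨g, rfl⟩
        refine ⟨?_, ?_⟩
        · exact (LinearEquiv.map_ne_zero_iff (g : V ≃ₗ[F2] V)).2 hx
        · show f ((g : V ≃ₗ[F2] V) x) = 0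
          rw [apply_map_of_fixed g.2.2, hfx]
      · intro hw
        obtain ⟨g, hg, h⟩ := hG.vec_trans hf hx hw.1 (by rw [hfx, hw.2]) hn
        exact ⟨⟨g, hg⟩, h⟩
    rw [this]
    exact card_ne_zero_level f hf
  obtain ⟨g, hg, hgz⟩ := exists_smul_of_coprime_index ((pt G x ⊓ fn G f).subgroupOf (fn G f))
    (a := z) (b := z') (by rw [horb]; exact hz') (by
      rw [horb, hindex]
      show Nat.Coprime (Nat.card {w : V // f w = 1}) _
      rw [Setup.card_level f hf]
      exact Nat.Coprime.pow_left _ (Nat.coprime_two_left.2 (odd_two_pow_sub_one (by omega))))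
  exact ⟨(g : V ≃ₗ[F2] V), hg, hgz⟩

end CfsgLib.SingerOver
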