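import Cfsg.Agent.Lib.SingerOver.Relation

/-!
The subspace of a line is not a hyperplane when the dimension is at least seven: the relation would be
bilinear in two arguments and its derivatives would give invariant multilinear forms of at most five arguments.
-/

set_option linter.style.haveILetI false

namespace CfsgLib.SingerOver

open MulAction Module

variable {V : Type*} [AddCommGroup V] [Module F2 V] {G : Subgroup (V ≃ₗ[F2] V)}

/-- The difference of a function along a vector. -/
def dif (a : V) (F : V → F2) : V → F2 := fun x => F (x + a) + F x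

theorem dif_comm (a b : V) (F : V → F2) : dif a (dif b F) = dif b (dif a F) := by
  funext x
  simp only [dif, add_right_comm x a b]
  ring

theorem dif_add (a : V) (F F' : V → F2) : dif a (F + F') = dif a F + dif a F' := by
  funext x
  simp only [dif, Pi.add_apply]
  ring

theorem dif_dir (b b' : V) (F : V → F2) (x : V) : dif (b + b') F x = dif b F x + dif b' F (x + b) := by
  simp only [dif, ← add_assoc]
  linear_combination -(CharTwo.add_self_eq_zero (F (x + b)))

theorem mem_lowSpan_one [Finite V] (h : V → F2) (hadd : ∀ v w, h (v + w) = h v + h w) : h ∈ lowSpan 1 := by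
  haveI : Module.Finite F2 V := Module.Finite.of_finite
  let L : V →ₗ[F2] F2 := (AddMonoidHom.mk' h hadd).toZModLinearMap 2
  refine mem_lowSpan_of_period (LinearMap.ker L) ?_ fun v w hw => ?_
  · have h1 := LinearMap.finrank_range_add_finrank_ker L
    have h2 := Submodule.finrank_le (LinearMap.range L)
    rw [Module.finrank_self] at h2
    omega
  · rw [hadd, show h w = 0 from LinearMap.mem_ker.1 hw, add_zero]

open Classical in
/-- The indicator of the relation. -/
noncomputable def rind (G : Subgroup (V ≃ₗ[F2] V)) (x y z : V) : F2 := if Rel G x y z then 1 else 0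

theorem rind_eq_one {x y z : V} : rind G x y z = 1 ↔ Rel G x y z := by
  unfold rind
  split <;> simp_all

theorem rind_of_not {x y z : V} (h : ¬ Rel G x y z) : rind G x y z = 0 := if_neg h

theorem rind_map {g : V ≃ₗ[F2] V} (hg : g ∈ G) (x y z : V) : rind G (g x) (g y) (g z) = rind G x y z := by
  classical
  exact if_congr (rel_map hg) rfl rfl

variable [Finite V] (hG : Setup G) (hn : 7 ≤ finrank F2 V)
  (hcodim : ∀ x y : V, x ≠ 0 → y ≠ 0 → x ≠ y → finrank F2 (dee G x y) + 1 = finrank F2 V)

include hG hn hcodim

omit hG in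
theorem exists_fun (x y : V) : ∃ φ : Dual F2 V, ∀ z, rind G x y z = φ z := by
  haveI : Module.Finite F2 V := Module.Finite.of_finite
  by_cases h : x ≠ 0 ∧ y ≠ 0 ∧ x ≠ y
  · obtain ⟨f, hf⟩ := exists_special (G := G) (by omega) h.1 h.2.1 h.2.2
    refine ⟨f, fun z => ?_⟩
    have hle : dee G x y ≤ LinearMap.ker f := fun v hv => LinearMap.mem_ker.2 (mem_dee.1 hv f hf)
    have heq : dee G x y = LinearMap.ker f := by
      refine Submodule.eq_of_le_of_finrank_le hle ?_
      have h1 := Submodule.finrank_lt (K := F2) (s := LinearMap.ker f) (by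
        rw [Ne, LinearMap.ker_eq_top]; exact hf.1)
      have h2 := hcodim x y h.1 h.2.1 h.2.2
      omega
    rcases f2_cases (f z) with hz | hz <;> rw [hz]
    · exact rind_of_not fun hr => hr.2.2.2 (heq ▸ LinearMap.mem_ker.2 hz)
    · refine rind_eq_one.2 ⟨h.1, h.2.1, h.2.2, fun hm => ?_⟩
      rw [heq, LinearMap.mem_ker, hz] at hm
      exact one_ne_zero hm
  · exact ⟨0, fun z => rind_of_not fun hr => h ⟨hr.1, hr.2.1, hr.2.2.1⟩⟩

theorem rind_symm (x y z : V) : rind G x y z = rind G x z y := by
  by_cases h : Rel G x y z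
  · rw [rind_eq_one.2 h, rind_eq_one.2 (rel_swap_right hG (by omega) h)]
  · rw [rind_of_not h, rind_of_not fun h' => h (rel_swap_right hG (by omega) h')]

omit hG in
theorem rind_add₃ (x y z z' : V) : rind G x y (z + z') = rind G x y z + rind G x y z' := by
  obtain ⟨φ, hφ⟩ := exists_fun hn hcodim x y
  simp only [hφ, map_add]

theorem rind_add₂ (x y y' z : V) : rind G x (y + y') z = rind G x y z + rind G x y' z := by
  rw [rind_symm hG hn hcodim, rind_add₃ hn hcodim, rind_symm hG hn hcodim x z y, rind_symm hG hn hcodim x z y']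

/-- A relation symmetric in all arguments would be a vanishing trilinear form. -/
theorem not_symm {μ : V →ₗ[F2] Module.End F2 V} (hμ : Mult G μ) {x y : V} (hx : x ≠ 0) (hy : y ≠ 0)
    (hxy : x ≠ y) : dee G x y ≠ dee G y x := by
  intro he
  have hall : ∀ p q r, rind G p q r = rind G q p r := by
    intro p q r
    have : Rel G p q r ↔ Rel G q p r := by
      by_cases hpq : p ≠ 0 ∧ q ≠ 0 ∧ p ≠ q
      · obtain ⟨g, hg, h1, h2⟩ := hG.two x y p q hx hy hxy hpq.1 hpq.2.1 hpq.2.2
        have hd : dee G p q = dee G q p := by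
          rw [← h1, ← h2, dee_map_submodule hg, dee_map_submodule hg, he]
        simp only [Rel, hd]
        tauto
      · exact ⟨fun h => absurd ⟨h.1, h.2.1, h.2.2.1⟩ hpq,
          fun h => absurd ⟨h.2.1, h.1, Ne.symm h.2.2.1⟩ hpq⟩
    classical
    exact if_congr this rfl rfl
  have h0 := eq_zero_of_invariant μ (e := 1) (fun a : Fin 3 → V => rind G (a 0) (a 1) (a 2)) (by omega)
    (rind_of_not fun h => h.1 rfl) (fun v hv a => by
      obtain ⟨g, hg, hgu⟩ := hμ v hv
      simp only [← hgu]
      exact rind_map hg _ _ _) (fun a i => mem_lowSpan_one _ fun v w => by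
      fin_cases i <;> simp
      · rw [hall, rind_add₂ hG hn hcodim, hall (a 1) v, hall (a 1) w]
      · exact rind_add₂ hG hn hcodim _ _ _ _
      · exact rind_add₃ hn hcodim _ _ _ _)
  obtain ⟨z, hz⟩ : ∃ z, z ∉ dee G x y := by
    by_contra h
    push Not at h
    exact dee_ne_top (by omega) hx hy hxy (eq_top_iff.2 fun v _ => h v)
  have := h0 ![x, y, z]
  simp [rind_eq_one.2 (⟨hx, hy, hxy, hz⟩ : Rel G x y z)] at this

theorem rind_split {μ : V →ₗ[F2] Module.End F2 V} (hμ : Mult G μ) (x y z : V) :
    rind G (x + y) y z = rind G x y z + rind G y x z := by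
  by_cases hxy' : x ≠ 0 ∧ y ≠ 0 ∧ x ≠ y
  swap
  · rw [rind_of_not (x := x) (y := y) fun h => hxy' ⟨h.1, h.2.1, h.2.2.1⟩,
      rind_of_not (x := y) (y := x) fun h => hxy' ⟨h.2.1, h.1, Ne.symm h.2.2.1⟩,
      rind_of_not (x := x + y) (y := y) fun h => hxy' ⟨fun h0 => h.2.2.1 (by rw [h0, zero_add]), h.2.1,
        fun h0 => h.1 (by rw [h0, add_self_f2])⟩, add_zero]
  obtain ⟨hx, hy, hxy⟩ := hxy'
  have hn3 : 3 ≤ finrank F2 V := by omega
  have hyz : ∀ u, rind G (x + y) y u = rind G (x + y) x u := fun u => by
    have hd : dee G (x + y) x = dee G (x + y) y := by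
      conv_rhs => rw [← dee_add]
      rw [add_assoc, add_self_f2, add_zero]
    classical
    refine if_congr ?_ rfl rfl
    simp only [Rel, hd, hx, hy, ne_eq, not_false_eq_true, true_and, add_eq_left, add_eq_right]
  set S : V → F2 := fun u => rind G y x u + rind G (x + y) x u with hS
  have hSadd : ∀ u v, S (u + v) = S u + S v := fun u v => by
    simp only [hS, rind_add₃ hn hcodim]; ring
  have hconst : ∀ u v, u ∉ dee G x y → v ∉ dee G x y → S u = S v := by
    intro u v hu hv
    obtain ⟨g, hg, hgu⟩ := out_trans hG hn3 hx hy hxy hu hv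
    have hgx : g x = x := hg.1.2
    have h1 := rind_map hg.1.1 y x u
    have h2 := rind_map hg.1.1 (x + y) x u
    rw [hgx, hgu] at h1 h2
    rw [map_add, hgx] at h2
    rcases hg.2 with hgy | hgy <;> rw [hgy] at h1 h2
    · simp only [hS, h1, h2]
    · rw [← add_assoc, add_self_f2, zero_add] at h2
      simp only [hS, h1, h2, add_comm]
  obtain ⟨z1, hz1⟩ : ∃ u, u ∉ dee G x y := by
    by_contra h
    push Not at h
    exact dee_ne_top hn3 hx hy hxy (eq_top_iff.2 fun v _ => h v)
  rcases f2_cases (S z1) with h0 | h1
  · exfalso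
    have hzero : ∀ u, S u = 0 := fun u => by
      by_cases hu : u ∈ dee G x y
      · have : u + z1 ∉ dee G x y := fun h => hz1 ((Submodule.add_mem_iff_right _ hu).1 h)
        have h2 := hSadd u z1
        rw [hconst _ _ this hz1, h0] at h2
        simpa using h2.symm
      · rw [hconst _ _ hu hz1, h0]
    have hd : dee G y x = dee G (x + y) x := by
      ext u
      have h2 := hzero u
      simp only [hS, CharTwo.add_eq_zero] at h2
      constructor <;> intro hu <;> by_contra hnu
      · have : rind G (x + y) x u = 1 :=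
          rind_eq_one.2 ⟨add_ne_zero_of_ne hxy, hx, fun h => hy (by simpa using h), hnu⟩
        rw [← h2] at this
        exact (rind_eq_one.1 this).2.2.2 hu
      · have : rind G y x u = 1 := rind_eq_one.2 ⟨hy, hx, Ne.symm hxy, hnu⟩
        rw [h2] at this
        exact (rind_eq_one.1 this).2.2.2 hu
    obtain ⟨g, hg, hg1, hg2⟩ := hG.two x y y x hx hy hxy hy hx (Ne.symm hxy)
    have hd' : dee G x y = dee G (y + x) y := by
      have h3 := congrArg (fun W => W.map (g : V →ₗ[F2] V)) hd
      simp only [← dee_map_submodule hg, map_add, hg1, hg2] at h3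
      exact h3
    refine not_symm hG hn hcodim hμ hx hy hxy ?_
    rw [hd', hd, add_comm y x]
    conv_lhs => rw [← dee_add]
    rw [add_assoc, add_self_f2, add_zero]
  · have : S z = rind G x y z := by
      by_cases hz : z ∈ dee G x y
      · rw [rind_of_not fun h => h.2.2.2 hz]
        have hne : z + z1 ∉ dee G x y := fun h => hz1 ((Submodule.add_mem_iff_right _ hz).1 h)
        have h2 := hSadd z z1
        rw [hconst _ _ hne hz1, h1] at h2
        simpa using h2.symm
      · rw [hconst _ _ hz hz1, h1, rind_eq_one.2 ⟨hx, hy, hxy, hz⟩]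
    rw [hyz, ← this, hS]
    simp only
    linear_combination -(CharTwo.add_self_eq_zero (rind G y x z))

/-- The hyperplane case does not occur. -/
theorem hyperplane_false {μ : V →ₗ[F2] Module.End F2 V} (hμ : Mult G μ) : False := by
  have ha2 := rind_add₂ hG hn hcodim
  have ha3 := rind_add₃ hn hcodim
  have hid := rind_split hG hn hcodim hμ
  set F : V → V → V → F2 := fun a z x => rind G x a z with hF
  have hFadd : ∀ a a' z, F (a + a') z = F a z + F a' z := fun a a' z => funext fun x => ha2 x a a' z
  have hFaddz : ∀ a z z', F a (z + z') = F a z + F a z' := fun a z z' => funext fun x => ha3 x a z z'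
  have haff : ∀ a b c d z x, dif c (dif d (dif b (F a z) + dif a (F b z))) x = 0 := by
    intro a b c d z
    have hA : ∀ x, (dif b (F a z) + dif a (F b z)) x =
        rind G (a + b) x z + rind G a x z + rind G b x z + (rind G a b z + rind G b a z) := fun x => by
      have e1 := hid x (a + b) z
      have e2 := hid (x + b) a z
      have e3 := hid (x + a) b z
      rw [ha2, ha2] at e1
      rw [ha2] at e2 e3
      rw [add_assoc x b a, add_comm b a] at e2
      rw [add_assoc x a b] at e3
      simp only [Pi.add_apply, dif, hF]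
      linear_combination (norm := (ring_nf; simp [show (2 : F2) = 0 from rfl, show (4 : F2) = 0 from rfl])) e1 - e2 - e3 +
        CharTwo.add_self_eq_zero (rind G a x z) + CharTwo.add_self_eq_zero (rind G b x z) +
        CharTwo.add_self_eq_zero (rind G (x + b) a z) + CharTwo.add_self_eq_zero (rind G (x + a) b z) +
        CharTwo.add_self_eq_zero (rind G x a z) + CharTwo.add_self_eq_zero (rind G x b z) +
        CharTwo.add_self_eq_zero (rind G a b z) + CharTwo.add_self_eq_zero (rind G b a z)
    intro x
    simp only [dif] at hA ⊢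
    simp only [hA, ha2]
    ring_nf
    simp [show (2 : F2) = 0 from rfl, show (4 : F2) = 0 from rfl]
  have hsym : ∀ a b c d z, dif c (dif d (dif b (F a z))) = dif c (dif d (dif a (F b z))) := fun a b c d z => by
    funext x
    have h := haff a b c d z x
    rwa [dif_add, dif_add, Pi.add_apply, CharTwo.add_eq_zero] at h
  -- fourth differences vanish
  set Q : V → V → V → V → V → V → F2 := fun c d b a z => dif c (dif d (dif b (F a z))) with hQ
  have hQa : ∀ c d b a a' z, Q c d b (a + a') z = Q c d b a z + Q c d b a' z := fun c d b a a' z => by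
    simp only [hQ, hFadd, dif_add]
  have hQb : ∀ c d b b' a z, Q c d (b + b') a z = Q c d b a z + Q c d b' a z := fun c d b b' a z => by
    simp only [hQ]
    rw [hsym, hsym a b, hsym a b']
    exact hQa c d a b b' z
  have hrot : ∀ c d b a z, Q c d b a z = Q b d c a z := fun c d b a z => by
    simp only [hQ]
    rw [dif_comm d b, dif_comm c b, dif_comm d c]
  have hQc : ∀ c c' d b a z, Q (c + c') d b a z = Q c d b a z + Q c' d b a z := fun c c' d b a z => by
    rw [hrot (c + c'), hQb, hrot c d b a z, hrot c' d b a z]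
  have hQd : ∀ c d d' b a z, Q c (d + d') b a z = Q c d b a z + Q c d' b a z := fun c d d' b a z => by
    have hc : ∀ e, Q c e b a z = Q e c b a z := fun e => dif_comm c e _
    rw [hc, hc d, hc d', hQc]
  have hQconst : ∀ c d b a z x, Q c d b a z x = Q c d b a z 0 := by
    intro c d b a z x
    have h := congrFun (hQc x c d b a z) 0
    rw [Pi.add_apply] at h
    simp only [hQ] at h ⊢
    rw [dif_dir, zero_add] at h
    exact (add_left_cancel h)
  have hinv : ∀ g ∈ G, ∀ a z x : V, F (g a) (g z) (g x) = F a z x := fun g hg a z x => rind_map hg x a z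
  have hQ0 : ∀ c d b a z, Q c d b a z 0 = 0 := fun c d b a z => by
    have := eq_zero_of_invariant μ (e := 1) (fun u : Fin 5 → V => Q (u 0) (u 1) (u 2) (u 3) (u 4) 0) (by omega)
      (by simp [hQ, dif, hF, rind_of_not fun h : Rel G (0 : V) 0 0 => h.1 rfl]) (fun v hv u => by
        obtain ⟨g, hg, hgu⟩ := hμ v hv
        simp only [hQ, dif, ← hgu, ← map_add, zero_add]
        simp only [hinv g hg]
        rw [show F (g (u 3)) (g (u 4)) 0 = F (u 3) (u 4) 0 by
          conv_lhs => rw [← map_zero g]
          exact hinv g hg _ _ _])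
      (fun u i => mem_lowSpan_one _ fun v w => by
        fin_cases i <;> simp
        · rw [hQc]; rfl
        · rw [hQd]; rfl
        · rw [hQb]; rfl
        · rw [hQa]; rfl
        · simp only [hQ, hFaddz, dif_add]; rfl) ![c, d, b, a, z]
    simpa using this
  have hG3 : ∀ c d a z x, dif c (dif d (F a z)) x = dif c (dif d (F a z)) 0 := by
    intro c d a z x
    have h := hQconst c d x a z 0
    have h' := hQ0 c d x a z
    simp only [hQ] at h'
    rw [show dif c (dif d (dif x (F a z))) = dif x (dif c (dif d (F a z))) by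
      rw [dif_comm d x, dif_comm c x]] at h'
    simpa [dif, CharTwo.add_eq_zero] using h'
  have h30 : ∀ c d a z, dif c (dif d (F a z)) 0 = 0 := fun c d a z => by
    have hc : ∀ c c' d a z, dif (c + c') (dif d (F a z)) 0 =
        dif c (dif d (F a z)) 0 + dif c' (dif d (F a z)) 0 := fun c c' d a z => by
      rw [dif_dir, zero_add, hG3 c' d a z c]
    have := eq_zero_of_invariant μ (e := 1) (fun u : Fin 4 → V => dif (u 0) (dif (u 1) (F (u 2) (u 3))) 0)
      (by omega)
      (by simp [dif, hF, rind_of_not fun h : Rel G (0 : V) 0 0 => h.1 rfl]) (fun v hv u => by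
        obtain ⟨g, hg, hgu⟩ := hμ v hv
        simp only [dif, ← hgu, ← map_add, zero_add]
        simp only [hinv g hg]
        rw [show F (g (u 2)) (g (u 3)) 0 = F (u 2) (u 3) 0 by
          conv_lhs => rw [← map_zero g]
          exact hinv g hg _ _ _])
      (fun u i => mem_lowSpan_one _ fun v w => by
        fin_cases i <;> simp
        · exact hc _ _ _ _ _
        · rw [dif_comm, hc, dif_comm v, dif_comm w]
        · rw [hFadd, dif_add, dif_add]; rfl
        · rw [hFaddz, dif_add, dif_add]; rfl) ![c, d, a, z]
    simpa using this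
  have hG2 : ∀ d a z x, dif d (F a z) x = dif d (F a z) 0 := fun d a z x => by
    have h' := h30 x d a z
    simpa [dif, CharTwo.add_eq_zero] using h'
  have h20 : ∀ d a z, dif d (F a z) 0 = 0 := fun d a z => by
    have := eq_zero_of_invariant μ (e := 1) (fun u : Fin 3 → V => dif (u 0) (F (u 1) (u 2)) 0)
      (by omega)
      (by simp [dif, hF, rind_of_not fun h : Rel G (0 : V) 0 0 => h.1 rfl]) (fun v hv u => by
        obtain ⟨g, hg, hgu⟩ := hμ v hv
        simp only [dif, ← hgu, zero_add]
        simp only [hinv g hg]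
        rw [show F (g (u 1)) (g (u 2)) 0 = F (u 1) (u 2) 0 by
          conv_lhs => rw [← map_zero g]
          exact hinv g hg _ _ _])
      (fun u i => mem_lowSpan_one _ fun v w => by
        fin_cases i <;> simp
        · rw [dif_dir, zero_add, hG2 w _ _ v]
        · rw [hFadd, dif_add]; rfl
        · rw [hFaddz, dif_add]; rfl) ![d, a, z]
    simpa using this
  -- the relation is then empty
  haveI : Module.Finite F2 V := Module.Finite.of_finite
  haveI : Nontrivial V := Module.nontrivial_of_finrank_pos (R := F2) (by omega)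
  obtain ⟨x, hx⟩ := exists_ne (0 : V)
  obtain ⟨y, z, hr, -⟩ := exists_symm_pair hG (by omega) hx
  have h1 := h20 x y z
  simp only [dif, zero_add, hF, rind_eq_one.2 hr, rind_of_not fun h : Rel G (0 : V) y z => h.1 rfl] at h1
  exact one_ne_zero (by rwa [add_zero] at h1)

end CfsgLib.SingerOver
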