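import Cfsg.Agent.Lib.SingerOver.Relation
import Cfsg.Agent.Lib.SingerOver.Fixed

/-!
Sylow subgroups of the stabiliser of two vectors: their fixed space lies in the subspace of the line, and their
normaliser is doubly transitive on it.
-/

set_option linter.style.haveILetI false

namespace CfsgLib.SingerOver

open MulAction Module
open scoped Pointwise

variable {V : Type*} [AddCommGroup V] [Module F2 V] {G : Subgroup (V ≃ₗ[F2] V)}

/-- Stabiliser of two vectors. -/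
def two2 (G : Subgroup (V ≃ₗ[F2] V)) (a b : V) : Subgroup (V ≃ₗ[F2] V) := pt G a ⊓ pt G b

theorem mem_two2 {g : V ≃ₗ[F2] V} {a b : V} : g ∈ two2 G a b ↔ g ∈ G ∧ g a = a ∧ g b = b :=
  ⟨fun h => ⟨h.1.1, h.1.2, h.2.2⟩, fun h => ⟨⟨h.1, h.2.1⟩, h.1, h.2.2⟩⟩

theorem two2_map {g : V ≃ₗ[F2] V} (hg : g ∈ G) (a b : V) :
    (two2 G a b).map (MulAut.conj g).toMonoidHom = two2 G (g a) (g b) := by
  ext h
  constructor
  · rintro ⟨k, hk, rfl⟩
    obtain ⟨h1, h2, h3⟩ := mem_two2.1 hk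
    refine mem_two2.2 ⟨mul_mem (mul_mem hg h1) (inv_mem hg), ?_, ?_⟩
    · show g (k (g⁻¹ (g a))) = g a
      rw [show g⁻¹ (g a) = a from g.symm_apply_apply a, h2]
    · show g (k (g⁻¹ (g b))) = g b
      rw [show g⁻¹ (g b) = b from g.symm_apply_apply b, h3]
  · intro hh
    obtain ⟨h1, h2, h3⟩ := mem_two2.1 hh
    refine ⟨g⁻¹ * h * g, mem_two2.2 ⟨mul_mem (mul_mem (inv_mem hg) h1) hg, ?_, ?_⟩, ?_⟩
    · show g⁻¹ (h (g a)) = a
      rw [h2]; exact g.symm_apply_apply a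
    · show g⁻¹ (h (g b)) = b
      rw [h3]; exact g.symm_apply_apply b
    · show g * (g⁻¹ * h * g) * g⁻¹ = h
      group

/-- A group of prime-power order and index prime to `ℓ` in the stabiliser of two vectors. -/
def IsSyl (G : Subgroup (V ≃ₗ[F2] V)) (ℓ : ℕ) (a b : V) (R : Subgroup (V ≃ₗ[F2] V)) : Prop :=
  R ≤ two2 G a b ∧ IsPGroup ℓ R ∧ ¬ ℓ ∣ R.relIndex (two2 G a b)

variable [Finite V] {ℓ : ℕ} [Fact ℓ.Prime]

theorem exists_isSyl (a b : V) : ∃ R, IsSyl G ℓ a b R := by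
  haveI : Finite (V ≃ₗ[F2] V) := finite_equiv
  obtain ⟨P⟩ : Nonempty (Sylow ℓ (two2 G a b)) := inferInstance
  refine ⟨(P : Subgroup (two2 G a b)).map (two2 G a b).subtype, Subgroup.map_subtype_le _, P.2.map _, ?_⟩
  rw [Subgroup.relIndex, Subgroup.subgroupOf, Subgroup.comap_map_eq_self_of_injective (Subgroup.subtype_injective _)]
  exact P.not_dvd_index

theorem isSyl_map {g : V ≃ₗ[F2] V} (hg : g ∈ G) {a b : V} {R : Subgroup (V ≃ₗ[F2] V)} (h : IsSyl G ℓ a b R) :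
    IsSyl G ℓ (g a) (g b) (R.map (MulAut.conj g).toMonoidHom) := by
  refine ⟨(two2_map hg a b) ▸ Subgroup.map_mono h.1, h.2.1.map _, ?_⟩
  rw [← two2_map hg a b, Subgroup.relIndex_map_map_of_injective _ _ (MulAut.conj g).injective]
  exact h.2.2

/-- The fixed space of such a group lies in the subspace of the line. -/
theorem fix_le_dee (hG : Setup G) (hn : 3 ≤ finrank F2 V) (hℓ : ℓ ≠ 2) {a b : V} (ha : a ≠ 0) (hb : b ≠ 0)
    (hab : a ≠ b) (hdvd : ℓ ∣ 2 ^ (finrank F2 V - finrank F2 (dee G a b)) - 1) {R : Subgroup (V ≃ₗ[F2] V)}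
    (hR : IsSyl G ℓ a b R) : fix R ≤ dee G a b := by
  intro z hz
  by_contra hzd
  haveI : Finite (V ≃ₗ[F2] V) := finite_equiv
  have h1 := dvd_orbit hG hn ha hb hab hzd
  have hlt := finrank_dee_lt hG hn ha hb hab
  have h2 : ℓ ∣ 2 ^ finrank F2 V - 2 ^ finrank F2 (dee G a b) := by
    have : 2 ^ finrank F2 V - 2 ^ finrank F2 (dee G a b) =
        2 ^ finrank F2 (dee G a b) * (2 ^ (finrank F2 V - finrank F2 (dee G a b)) - 1) := by
      rw [Nat.mul_sub, ← pow_add, Nat.add_sub_cancel' hlt.le, mul_one]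
    rw [this]
    exact hdvd.mul_left _
  have h3 : ℓ ∣ (orbit (two2 G a b) z).ncard := by
    rcases (Fact.out : ℓ.Prime).dvd_mul.1 (h2.trans h1) with h | h
    · exact absurd ((Nat.prime_dvd_prime_iff_eq Fact.out Nat.prime_two).1 h) hℓ
    · exact h
  rw [← index_stabilizer] at h3
  refine hR.2.2 (h3.trans (Subgroup.index_dvd_of_le fun r hr => ?_))
  exact hz r.1 (Subgroup.mem_subgroupOf.1 hr)

/-- Any two fixed vectors may replace the given pair. -/
theorem isSyl_of_fixed (hG : Setup G) {a b c d : V} (ha : a ≠ 0) (hb : b ≠ 0) (hab : a ≠ b)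
    (hc : c ≠ 0) (hd : d ≠ 0) (hcd : c ≠ d) {R : Subgroup (V ≃ₗ[F2] V)} (h : IsSyl G ℓ a b R)
    (hRc : c ∈ fix R) (hRd : d ∈ fix R) : IsSyl G ℓ c d R := by
  haveI : Finite (V ≃ₗ[F2] V) := finite_equiv
  obtain ⟨g, hg, h1, h2⟩ := hG.two a b c d ha hb hab hc hd hcd
  have hle : R ≤ two2 G c d := fun r hr =>
    mem_two2.2 ⟨(mem_two2.1 (h.1 hr)).1, hRc r hr, hRd r hr⟩
  refine ⟨hle, h.2.1, ?_⟩
  have hs := isSyl_map hg h
  rw [h1, h2] at hs
  have e : ∀ S : Subgroup (V ≃ₗ[F2] V), S ≤ two2 G c d →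
      Nat.card S * S.relIndex (two2 G c d) = Nat.card (two2 G c d) := fun S hS => by
    rw [Subgroup.relIndex, ← Nat.card_congr (Subgroup.subgroupOfEquivOfLe hS).toEquiv]
    exact Subgroup.card_mul_index _
  have h3 := e R hle
  rw [← e _ hs.1, Subgroup.card_map_of_injective (MulAut.conj g).injective] at h3
  rw [Nat.eq_of_mul_eq_mul_left Nat.card_pos h3]
  exact hs.2.2

/-- The normaliser is doubly transitive on the fixed space. -/
theorem exists_normalizing (hG : Setup G) {a b : V} (ha : a ≠ 0) (hb : b ≠ 0) (hab : a ≠ b)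
    {R : Subgroup (V ≃ₗ[F2] V)} (h : IsSyl G ℓ a b R) {c d c' d' : V} (hc : c ∈ fix R) (hd : d ∈ fix R)
    (hc' : c' ∈ fix R) (hd' : d' ∈ fix R) (hc0 : c ≠ 0) (hd0 : d ≠ 0) (hcd : c ≠ d) (hc0' : c' ≠ 0)
    (hd0' : d' ≠ 0) (hcd' : c' ≠ d') :
    ∃ g ∈ G ⊓ Subgroup.normalizer (R : Set (V ≃ₗ[F2] V)), g c = c' ∧ g d = d' := by
  haveI : Finite (V ≃ₗ[F2] V) := finite_equiv
  obtain ⟨g, hg, h1, h2⟩ := hG.two c d c' d' hc0 hd0 hcd hc0' hd0' hcd'
  have hs := isSyl_map hg (isSyl_of_fixed hG ha hb hab hc0 hd0 hcd h hc hd)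
  rw [h1, h2] at hs
  have hr := isSyl_of_fixed hG ha hb hab hc0' hd0' hcd' h hc' hd'
  set R2 := R.map (MulAut.conj g).toMonoidHom
  have hp1 : IsPGroup ℓ (R.subgroupOf (two2 G c' d')) :=
    hr.2.1.of_equiv (Subgroup.subgroupOfEquivOfLe hr.1).symm
  have hp2 : IsPGroup ℓ (R2.subgroupOf (two2 G c' d')) :=
    hs.2.1.of_equiv (Subgroup.subgroupOfEquivOfLe hs.1).symm
  obtain ⟨k, hk⟩ := MulAction.exists_smul_eq (two2 G c' d') (hp2.toSylow hs.2.2) (hp1.toSylow hr.2.2)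
  have hk' : MulAut.conj k • R2.subgroupOf (two2 G c' d') = R.subgroupOf (two2 G c' d') :=
    congrArg Sylow.toSubgroup hk
  have hmap : R2.map (MulAut.conj (k : V ≃ₗ[F2] V)).toMonoidHom = R := by
    ext u
    constructor
    · rintro ⟨w, hw, rfl⟩
      have h3 : MulAut.conj k • (⟨w, hs.1 hw⟩ : two2 G c' d') ∈ MulAut.conj k • R2.subgroupOf (two2 G c' d') :=
        Subgroup.smul_mem_pointwise_smul _ _ _ (Subgroup.mem_subgroupOf.2 hw)
      rw [hk'] at h3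
      exact Subgroup.mem_subgroupOf.1 h3
    · intro hu
      have h3 : (⟨u, hr.1 hu⟩ : two2 G c' d') ∈ MulAut.conj k • R2.subgroupOf (two2 G c' d') := by
        rw [hk']
        exact Subgroup.mem_subgroupOf.2 hu
      rw [Subgroup.mem_pointwise_smul_iff_inv_smul_mem, ← map_inv] at h3
      refine ⟨_, Subgroup.mem_subgroupOf.1 h3, ?_⟩
      show (k : V ≃ₗ[F2] V) * ((k⁻¹ : two2 G c' d') * u * ((k⁻¹ : two2 G c' d') : V ≃ₗ[F2] V)⁻¹) *
        (k : V ≃ₗ[F2] V)⁻¹ = u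
      rw [InvMemClass.coe_inv]
      group
  obtain ⟨hk1, hk2, hk3⟩ := mem_two2.1 k.2
  refine ⟨(k : V ≃ₗ[F2] V) * g, ⟨mul_mem hk1 hg, ?_⟩, ?_, ?_⟩
  · refine Subgroup.mem_normalizer_iff.2 fun r => ?_
    have hR : R.map (MulAut.conj ((k : V ≃ₗ[F2] V) * g)).toMonoidHom = R := by
      conv_rhs => rw [← hmap]
      simp only [R2, Subgroup.map_map]
      congr 1
      all_goals exact MonoidHom.ext fun r => by simp [MulAut.conj_apply, mul_assoc]
    constructor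
    · intro hr'
      rw [← hR]
      exact ⟨r, hr', rfl⟩
    · intro hr'
      rw [← hR] at hr'
      obtain ⟨r', hr'', he⟩ := hr'
      rwa [← (MulAut.conj ((k : V ≃ₗ[F2] V) * g)).injective he]
  · rw [LinearEquiv.mul_apply, h1, hk2]
  · rw [LinearEquiv.mul_apply, h2, hk3]

end CfsgLib.SingerOver
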