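import Cfsg.Agent.Lib.SingerOver.TwoTrans
import Cfsg.Agent.Lib.SingerOver.Witt
import Cfsg.Agent.Lib.SingerOver.Centralise

/-!
The normaliser of a Sylow subgroup of the stabiliser of two vectors contains many maps that move only its fixed
space; when that space is the line, it contains a transvection.
-/

set_option linter.style.haveILetI false

namespace CfsgLib.SingerOver

open MulAction Module
open scoped commutatorElement

variable {V : Type*} [AddCommGroup V] [Module F2 V] {G : Subgroup (V ≃ₗ[F2] V)}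

/-- The group has no transvection. -/
def NoTrans (G : Subgroup (V ≃ₗ[F2] V)) : Prop :=
  ∀ g ∈ G, ∀ x : V, (∀ v, g v = v ∨ g v = v + x) → g = 1

theorem two_le_finrank [Finite V] {U : Submodule F2 V} {x y : V} (hx : x ∈ U) (hy : y ∈ U) (hx0 : x ≠ 0)
    (hy0 : y ≠ 0) (hxy : x ≠ y) : 2 ≤ finrank F2 U := by
  classical
  haveI : Module.Finite F2 V := Module.Finite.of_finite
  haveI := Fintype.ofFinite U
  by_contra h
  have h1 : ({0, ⟨x, hx⟩, ⟨y, hy⟩} : Finset U).card = 3 := by
    rw [Finset.card_insert_of_notMem, Finset.card_pair]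
    · exact fun h => hxy (congrArg Subtype.val h)
    · simp only [Finset.mem_insert, Finset.mem_singleton, not_or]
      exact ⟨fun h => hx0 (congrArg Subtype.val h).symm, fun h => hy0 (congrArg Subtype.val h).symm⟩
  have h2 := Finset.card_le_univ ({0, ⟨x, hx⟩, ⟨y, hy⟩} : Finset U)
  rw [h1, ← Nat.card_eq_fintype_card, natCard_eq_pow_finrank (K := F2) (V := U), Nat.card_zmod] at h2
  have h3 : 2 ^ finrank F2 U ≤ 2 ^ 1 := Nat.pow_le_pow_right two_pos (by omega)
  omega

variable [Finite V] (hG : Setup G) (hT : NoTrans G) {ℓ : ℕ} [Fact ℓ.Prime] (hℓ2 : ℓ ≠ 2) {x y : V} (hx : x ≠ 0)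
  (hy : y ≠ 0) (hxy : x ≠ y) {R : Subgroup (V ≃ₗ[F2] V)} (hR : IsSyl G ℓ x y R)

include hG hT hℓ2 hx hy hxy hR

/-- The fixed space of a Sylow group is never just the line when the moved space has the order of two as
dimension and that order is odd. -/
theorem fix_ne_line (he : Odd (orderOf (2 : ZMod ℓ))) (hW : finrank F2 (moved R) = orderOf (2 : ZMod ℓ))
    (hF : finrank F2 (fix R) ≤ 2) : False := by
  haveI : Module.Finite F2 V := Module.Finite.of_finite
  haveI : Finite (V ≃ₗ[F2] V) := finite_equiv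
  haveI : Finite (moved R) := inferInstance
  haveI : Finite (moved R ≃ₗ[F2] moved R) := finite_equiv
  haveI : Nontrivial (moved R) := Module.nontrivial_of_finrank_pos (R := F2) (by rw [hW]; exact he.pos)
  set e := orderOf (2 : ZMod ℓ)
  have hxF : x ∈ fix R := fun r hr => (mem_two2.1 (hR.1 hr)).2.1
  have hyF : y ∈ fix R := fun r hr => (mem_two2.1 (hR.1 hr)).2.2
  have hodd := odd_card_of_isPGroup hℓ2 hR.2.1
  have hRW : R ≤ stabSub (moved R) := fun r hr => normalises_moved (le_normalizer_self R hr)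
  have hnofix : ∀ v ∈ moved R, v ∈ fix R → v = 0 := fun v hv hv' =>
    Submodule.disjoint_def.1 (isCompl_fix_moved hodd).disjoint v hv' hv
  have hcyc := isCyclic_image hR.2.1 hRW hnofix hW
  obtain ⟨r, hr⟩ := IsCyclic.exists_generator (α := (restr hRW).range)
  have hgen : ∀ q : R, ∃ k : ℤ, restr hRW q = (r : moved R ≃ₗ[F2] moved R) ^ k := fun q => by
    obtain ⟨k, hk⟩ := hr ⟨restr hRW q, q, rfl⟩
    exact ⟨k, (congrArg Subtype.val hk).symm⟩
  obtain ⟨r0, hr0⟩ := r.2
  have hirr : IrredComm ({(r : moved R ≃ₗ[F2] moved R)} : Set (moved R ≃ₗ[F2] moved R)) := by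
    refine ⟨fun a ha b hb => by rw [Set.mem_singleton_iff.1 ha, Set.mem_singleton_iff.1 hb], fun W hW' => ?_⟩
    rcases eq_or_ne W ⊥ with hb | hb
    · exact Or.inl hb
    refine Or.inr ?_
    have hpow : ∀ k : ℤ, ((r : moved R ≃ₗ[F2] moved R) ^ k) ∈ stabSub W := fun k =>
      zpow_mem (mem_stabSub_of_le fun v hv => hW' _ rfl v hv) k
    have hinv : R ≤ stabSub (W.map (moved R).subtype) := fun q hq => mem_stabSub_of_le fun v hv => by
      obtain ⟨w, hw, rfl⟩ := hv
      obtain ⟨k, hk⟩ := hgen ⟨q, hq⟩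
      refine ⟨restr hRW ⟨q, hq⟩ w, ?_, rfl⟩
      rw [hk]
      exact (hpow k w).2 hw
    have hd := orderOf_dvd_finrank hR.2.1 hinv fun v hv hv' => hnofix v (Submodule.map_subtype_le _ _ hv) hv'
    rw [Submodule.finrank_map_subtype_eq] at hd
    refine Submodule.eq_top_of_finrank_eq (le_antisymm (Submodule.finrank_le W) ?_)
    rw [hW]
    exact Nat.le_of_dvd (Nat.pos_of_ne_zero fun h => hb (Submodule.finrank_eq_zero.1 h)) hd
  obtain ⟨g, hg, hgx, hgy⟩ := exists_normalizing hG hx hy hxy hR hxF hyF hyF hxF hx hy hxy hy hx (Ne.symm hxy)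
  obtain ⟨a, m, hm, hgo⟩ := Nat.exists_eq_two_pow_mul_odd (orderOf_pos g).ne'
  set t := g ^ m with ht
  have htpow : t ^ 2 ^ a = 1 := by rw [ht, ← pow_mul, mul_comm, ← hgo, pow_orderOf_eq_one]
  have htx : t x = y := by
    obtain ⟨k, rfl⟩ := hm
    have key : ∀ i : ℕ, (g ^ (2 * i + 1)) x = y ∧ (g ^ (2 * i + 1)) y = x := by
      intro i
      induction i with
      | zero => simp [hgx, hgy]
      | succ i ih =>
        rw [show 2 * (i + 1) + 1 = (2 * i + 1) + 2 by omega, pow_add, pow_two]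
        simp only [LinearEquiv.mul_apply, hgx, hgy, ih.1, ih.2, and_self]
    exact (key k).1
  have htN : t ∈ G ⊓ Subgroup.normalizer (R : Set (V ≃ₗ[F2] V)) := pow_mem hg m
  set τ := restr (le_refl (stabSub (moved R))) ⟨t, normalises_moved htN.2⟩ with hτ
  have hcomm : Commute (τ * (r : moved R ≃ₗ[F2] moved R) * τ⁻¹) r := by
    have hin : τ * (r : moved R ≃ₗ[F2] moved R) * τ⁻¹ =
        restr hRW ⟨t * r0.1 * t⁻¹, (conj_mem_of_normalizer htN.2).1 _ r0.2⟩ := by
      rw [← hr0]
      exact LinearEquiv.ext fun w => Subtype.ext rfl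
    obtain ⟨k, hk⟩ := hgen ⟨_, (conj_mem_of_normalizer htN.2).1 _ r0.2⟩
    rw [hin, hk]
    exact Commute.zpow_left (Commute.refl _) k
  have h1 := commute_pow_dim hirr hcomm
  have h2 := hirr.pow_card (τ ^ finrank F2 (moved R)) fun a ha => by rw [Set.mem_singleton_iff.1 ha]; exact h1
  rw [← pow_mul] at h2
  have h3 : τ ^ 2 ^ a = 1 := by
    rw [hτ, ← map_pow]
    have : (⟨t, normalises_moved htN.2⟩ : stabSub (moved R)) ^ 2 ^ a = 1 := Subtype.ext htpow
    rw [this, map_one]
  have hτ1 : τ = 1 := by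
    have hcop : Nat.Coprime (finrank F2 (moved R) * (2 ^ finrank F2 (moved R) - 1)) (2 ^ a) := by
      refine Nat.Coprime.pow_right _ (Nat.coprime_two_right.2 (Nat.odd_mul.2 ⟨hW ▸ he, ?_⟩))
      exact odd_two_pow_sub_one (by rw [hW]; exact he.pos)
    have := pow_gcd_eq_one.2 ⟨h2, h3⟩
    rwa [hcop, pow_one] at this
  have hfr : fix R = Submodule.span F2 {x, y} := by
    have hle : Submodule.span F2 {x, y} ≤ fix R := Submodule.span_le.2 (Set.pair_subset hxF hyF)
    refine (Submodule.eq_of_le_of_finrank_le hle (hF.trans ?_)).symm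
    exact two_le_finrank (Submodule.subset_span (Set.mem_insert _ _))
      (Submodule.subset_span (Set.mem_insert_of_mem _ rfl)) hx hy hxy
  have hty : t y = x := by
    obtain ⟨k, rfl⟩ := hm
    have key : ∀ i : ℕ, (g ^ (2 * i + 1)) x = y ∧ (g ^ (2 * i + 1)) y = x := by
      intro i
      induction i with
      | zero => simp [hgx, hgy]
      | succ i ih =>
        rw [show 2 * (i + 1) + 1 = (2 * i + 1) + 2 by omega, pow_add, pow_two]
        simp only [LinearEquiv.mul_apply, hgx, hgy, ih.1, ih.2, and_self]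
    exact (key k).2
  have hone : t = 1 := hT t htN.1 (x + y) fun v => by
    have hv : v = total R v + (v + total R v) := by rw [add_left_comm, add_self_f2, add_zero]
    have hm' : t (v + total R v) = v + total R v :=
      (restr_eq_one_iff le_rfl ⟨t, normalises_moved htN.2⟩).1 hτ1 _ (add_total_mem_moved hodd v)
    have hs := total_mem_fix R v
    rw [hfr, Submodule.mem_span_pair] at hs
    obtain ⟨i, j, hij⟩ := hs
    have htv : t v = t (total R v) + (v + total R v) := by
      conv_lhs => rw [hv, map_add t, hm']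
    rw [htv, ← hij, map_add, map_smul, map_smul, htx, hty]
    rcases f2_cases i with rfl | rfl <;> rcases f2_cases j with rfl | rfl <;>
      simp only [zero_smul, one_smul, zero_add, add_zero]
    · exact Or.inl trivial
    · right; abel
    · right; abel
    · left
      calc y + x + (v + (x + y)) = v + ((x + y) + (x + y)) := by abel
        _ = v := by rw [add_self_f2, add_zero]
  rw [hone] at htx
  exact hxy htx

/-- Many maps move only the fixed space. -/
theorem exists_kernel_maps (hg3 : 3 ≤ finrank F2 (fix R))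
    (hWd : finrank F2 (moved R) ≤ 2 * orderOf (2 : ZMod ℓ))
    (hcop : ∀ m, m ≠ 0 → orderOf (2 : ZMod ℓ) ∣ m → m ≤ finrank F2 (moved R) →
      Nat.Coprime (finrank F2 (fix R)) m) :
    (∀ a b : V, a ∈ fix R → b ∈ fix R → a ≠ 0 → b ≠ 0 →
      ∃ k ∈ G, k a = b ∧ ∀ w ∈ moved R, k w = w) ∧
    ∀ a c : V, a ∈ fix R → c ∈ fix R → a ≠ 0 → c ≠ 0 → a ≠ c →
      ∃ k ∈ G, k a = a ∧ (∀ w ∈ moved R, k w = w) ∧ k c ∈ fix R ∧ k c ≠ c ∧ k c ≠ a + c := by
  classical
  haveI : Module.Finite F2 V := Module.Finite.of_finite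
  haveI : Finite (V ≃ₗ[F2] V) := finite_equiv
  haveI : Finite (fix R) := inferInstance
  haveI : Finite (fix R ≃ₗ[F2] fix R) := finite_equiv
  set F := fix R with hFdef
  set N := G ⊓ Subgroup.normalizer (R : Set (V ≃ₗ[F2] V)) with hN
  have hodd := odd_card_of_isPGroup hℓ2 hR.2.1
  have hNF : N ≤ stabSub F := fun g hg => normalises_fix hg.2
  have hNW : N ≤ stabSub (moved R) := fun g hg => normalises_moved hg.2
  set ρ := restr hNF
  have hS : Setup ρ.range := ⟨fun a b c d ha hb hab hc hd hcd => by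
    have hne : ∀ {u : F}, u ≠ 0 → (u : V) ≠ 0 := fun hu h => hu (Subtype.ext h)
    obtain ⟨g, hg, h1, h2⟩ := exists_normalizing hG hx hy hxy hR a.2 b.2 c.2 d.2 (hne ha) (hne hb)
      (fun h => hab (Subtype.ext h)) (hne hc) (hne hd) (fun h => hcd (Subtype.ext h))
    exact ⟨ρ ⟨g, hg⟩, ⟨⟨g, hg⟩, rfl⟩, Subtype.ext h1, Subtype.ext h2⟩⟩
  set D2 : Subgroup N := ⁅(⁅(⊤ : Subgroup N), (⊤ : Subgroup N)⁆ : Subgroup N), (⁅(⊤ : Subgroup N), (⊤ : Subgroup N)⁆ : Subgroup N)⁆ with hD2
  have hmapN : D2.map N.subtype = ⁅⁅N, N⁆, ⁅N, N⁆⁆ := by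
    rw [hD2, Subgroup.map_commutator, Subgroup.map_commutator, ← MonoidHom.range_eq_map, Subgroup.range_subtype]
  have hD2ne : D2.map ρ ≠ ⊥ := by
    rw [hD2, Subgroup.map_commutator, Subgroup.map_commutator, ← MonoidHom.range_eq_map]
    exact derived_two_ne_bot hS hg3
  haveI hD2n : D2.Normal := by rw [hD2]; infer_instance
  have hnorm : ∀ (M : Subgroup N), M.Normal → ∀ g ∈ ρ.range, ∀ a ∈ M.map ρ, g * a * g⁻¹ ∈ M.map ρ := by
    rintro M hM _ ⟨g, rfl⟩ _ ⟨a, ha, rfl⟩
    exact ⟨g * a * g⁻¹, hM.conj_mem a ha g, by rw [map_mul, map_mul, map_inv]⟩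
  haveI : Nontrivial F := Module.nontrivial_of_finrank_pos (R := F2) (by omega)
  obtain ⟨v0, hv0⟩ := exists_ne (0 : F)
  have hdvd : 2 ^ finrank F2 F - 1 ∣ Nat.card (D2.map ρ) := by
    have horb : orbit (D2.map ρ) v0 = ({0} : Set F)ᶜ := by
      ext w
      simp only [Set.mem_compl_iff, Set.mem_singleton_iff]
      constructor
      · rintro ⟨g, rfl⟩
        exact (LinearEquiv.map_ne_zero_iff (g : F ≃ₗ[F2] F)).2 hv0
      · intro hw
        obtain ⟨a, ha, haw⟩ := normal_trans hS _ (hnorm D2 hD2n) hD2ne hv0 hw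
        exact ⟨⟨a, ha⟩, haw⟩
    have h := Subgroup.index_dvd_card (stabilizer (D2.map ρ) v0)
    rw [index_stabilizer, horb, Set.ncard_compl, Set.ncard_singleton, natCard_eq_pow_finrank (K := F2) (V := F),
      Nat.card_zmod] at h
    exact h
  obtain ⟨s, hs, hsd⟩ := Nat.exists_prime_and_dvd (n := 2 ^ finrank F2 F - 1) (by
    have : 2 ^ 3 ≤ 2 ^ finrank F2 F := Nat.pow_le_pow_right two_pos hg3
    omega)
  haveI : Fact s.Prime := ⟨hs⟩
  obtain ⟨⟨_, a, ha, rfl⟩, ho⟩ := exists_prime_orderOf_dvd_card' s (hsd.trans hdvd)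
  have hρo : orderOf (ρ a) = s := by rw [← ho, ← Subgroup.orderOf_coe]
  obtain ⟨i, m, hm, hao⟩ := Nat.exists_eq_pow_mul_and_not_dvd (orderOf_pos a).ne' s hs.ne_one
  set u := a ^ m with hu
  have hus : IsPGroup s (Subgroup.zpowers (u : V ≃ₗ[F2] V)) := by
    intro g
    obtain ⟨k, hk⟩ := g.2
    refine ⟨i, Subtype.ext ?_⟩
    rw [SubmonoidClass.coe_pow, ← hk, ← zpow_natCast, ← zpow_mul, mul_comm, zpow_mul, zpow_natCast]
    have : ((u : N) : V ≃ₗ[F2] V) ^ s ^ i = 1 := by
      rw [hu, ← SubmonoidClass.coe_pow, ← pow_mul, mul_comm, ← hao, pow_orderOf_eq_one]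
      rfl
    rw [this, one_zpow]
    rfl
  have hu1 : ρ u ≠ 1 := by
    rw [hu, map_pow]
    intro h
    exact hm (hρo ▸ orderOf_dvd_of_pow_eq_one h)
  have huD : (u : V ≃ₗ[F2] V) ∈ ⁅⁅N, N⁆, ⁅N, N⁆⁆ := by
    rw [← hmapN]
    exact ⟨u, pow_mem ha m, rfl⟩
  obtain ⟨P, hPp, hPW, hPfix, hPc⟩ := exists_centralised hR.2.1 hℓ2 (fun g hg => hg.2 : N ≤ _) hWd
  -- the element fixes the moved space
  have hus2 : s ≠ 2 := by
    rintro rfl
    have := odd_two_pow_sub_one (show 1 ≤ finrank F2 F by omega)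
    rw [← Nat.not_even_iff_odd, even_iff_two_dvd] at this
    exact this hsd
  set Zu := Subgroup.zpowers ((u : N) : V ≃ₗ[F2] V)
  set U := moved Zu ⊓ moved R with hU
  have hPU : P ≤ stabSub U := by
    intro p hp v
    refine and_congr (normalises_moved (Subgroup.mem_normalizer_iff.2 fun z => ?_) v) (hPW hp v)
    have hc : ∀ z ∈ Zu, p * z * p⁻¹ = z ∧ p⁻¹ * z * p = z := by
      rintro _ ⟨k, rfl⟩
      have : Commute p (((u : N) : V ≃ₗ[F2] V) ^ k) := Commute.zpow_right (hPc _ huD p hp).symm k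
      exact ⟨by rw [this.eq, mul_inv_cancel_right], by rw [mul_assoc, ← this.eq, inv_mul_cancel_left]⟩
    refine ⟨fun hz => by rw [(hc z hz).1]; exact hz, fun hz => ?_⟩
    have h := (hc _ hz).2
    rw [show p⁻¹ * (p * z * p⁻¹) * p = z by group] at h
    rw [h]
    exact hz
  have hUu : Zu ≤ stabSub U := fun g hg v => and_congr (normalises_moved (le_normalizer_self _ hg) v)
    (hNW ((Subgroup.zpowers_le.2 u.2) hg) v)
  have hZodd := odd_card_of_isPGroup hus2 hus
  have hd1 := orderOf_dvd_finrank hPp hPU fun v hv hv' => hPfix v hv.2 hv'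
  have hd2 := orderOf_dvd_finrank hus hUu fun v hv hv' =>
    Submodule.disjoint_def.1 (isCompl_fix_moved hZodd).disjoint v hv' hv.1
  have hU0 : finrank F2 U = 0 := by
    by_contra h0
    have hc := hcop _ h0 hd1 (Submodule.finrank_mono inf_le_right)
    have hg : orderOf (2 : ZMod s) ∣ finrank F2 F := by
      have := (CfsgLib.NumberTheory.dvd_pow_sub_one_iff_orderOf_dvd (p := s) (a := 2) (by omega) _).1 hsd
      simpa using this
    have h1 := Nat.eq_one_of_dvd_coprimes hc hg hd2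
    rw [orderOf_eq_one_iff] at h1
    exact one_ne_zero (add_eq_left.1 (one_add_one_eq_two.trans h1) : (1 : ZMod s) = 0)
  have huW : ∀ w ∈ moved R, ((u : N) : V ≃ₗ[F2] V) w = w := by
    intro w hw
    haveI := Fintype.ofFinite Zu
    have htot : total Zu w ∈ moved R := by
      rw [total_apply]
      exact Submodule.sum_mem _ fun g _ => (hNW ((Subgroup.zpowers_le.2 u.2) g.2) w).2 hw
    have hin : w + total Zu w ∈ U := ⟨add_total_mem_moved hZodd w, add_mem hw htot⟩
    rw [Submodule.finrank_eq_zero.1 hU0, Submodule.mem_bot] at hin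
    have hw' : w = total Zu w := by rw [← add_zero (total Zu w), ← hin, add_left_comm, add_self_f2, add_zero]
    calc ((u : N) : V ≃ₗ[F2] V) w = ((u : N) : V ≃ₗ[F2] V) (total Zu w) := by rw [← hw']
      _ = total Zu w := smul_total (Subgroup.mem_zpowers _) w
      _ = w := hw'.symm
  -- the pointwise stabiliser of the moved space
  set K := (restr hNW).ker
  have hKmem : ∀ k : N, k ∈ K ↔ ∀ w ∈ moved R, k.1 w = w := fun k => restr_eq_one_iff hNW k
  have hKne : K.map ρ ≠ ⊥ := fun h => hu1 (by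
    rw [← Subgroup.mem_bot, ← h]
    exact ⟨u, (hKmem u).2 huW, rfl⟩)
  have hKn : K.Normal := MonoidHom.normal_ker _
  constructor
  · intro a b ha hb ha0 hb0
    obtain ⟨_, ⟨k, hk, rfl⟩, hkab⟩ := normal_trans hS _ (hnorm K hKn) hKne
      (v := (⟨a, ha⟩ : F)) (w := ⟨b, hb⟩) (fun h => ha0 (congrArg Subtype.val h)) (fun h => hb0 (congrArg Subtype.val h))
    exact ⟨k.1, k.2.1, congrArg Subtype.val hkab, (hKmem k).1 hk⟩
  · intro a c ha hc ha0 hc0 hac
    by_contra hno
    push Not at hno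
    obtain ⟨_, ⟨k, hk, rfl⟩, hk1, hka⟩ := stab_nontrivial hS _ (hnorm K hKn) hg3
      (fun g hg => by obtain ⟨k, -, rfl⟩ := hg; exact ⟨k, rfl⟩) hKne
      (x := (⟨a, ha⟩ : F)) (fun h => ha0 (congrArg Subtype.val h))
    have hka' : k.1 a = a := congrArg Subtype.val hka
    have hall : ∀ d ∈ F, k.1 d = d ∨ k.1 d = d + a := by
      intro d hd
      rcases eq_or_ne d 0 with rfl | hd0
      · exact Or.inl (map_zero _)
      rcases eq_or_ne a d with rfl | had
      · exact Or.inl hka'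
      obtain ⟨g, hg, hga, hgc⟩ := exists_normalizing hG hx hy hxy hR ha hc ha hd ha0 hc0 hac ha0 hd0 had
      set g' : N := ⟨g, hg⟩
      have hk' : g'⁻¹ * k * g' ∈ K := by simpa using hKn.conj_mem k hk g'⁻¹
      have ha' : (g'⁻¹ * k * g' : N).1 a = a := by
        show g⁻¹ (k.1 (g a)) = a
        rw [hga, hka']
        conv_lhs => rw [← hga]
        exact g.symm_apply_apply a
      have hgk : g ((g'⁻¹ * k * g' : N).1 c) = k.1 d := by
        show g (g⁻¹ (k.1 (g c))) = k.1 d
        rw [hgc]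
        exact g.apply_symm_apply _
      by_cases hcase : (g'⁻¹ * k * g' : N).1 c = c
      · rw [hcase, hgc] at hgk
        exact Or.inl hgk.symm
      · have h := hno _ (g'⁻¹ * k * g' : N).2.1 ha' ((hKmem _).1 hk') ((hNF (g'⁻¹ * k * g' : N).2 c).2 hc) hcase
        rw [h, map_add, hga, hgc, add_comm] at hgk
        exact Or.inr hgk.symm
    have hone : (k.1 : V ≃ₗ[F2] V) = 1 := hT k.1 k.2.1 a fun v => by
      have hv : v = total R v + (v + total R v) := by rw [add_left_comm, add_self_f2, add_zero]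
      have hkv : k.1 v = k.1 (total R v) + (v + total R v) := by
        conv_lhs => rw [hv, map_add k.1, (hKmem k).1 hk _ (add_total_mem_moved hodd v)]
      rcases hall _ (total_mem_fix R v) with h | h
      · left
        rw [hkv, h, ← hv]
      · right
        rw [hkv, h, add_right_comm, ← hv]
    exact hk1 (by
      rw [show k = 1 from Subtype.ext hone, map_one])

end CfsgLib.SingerOver
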