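import Cfsg.Agent.Lib.SingerOver.Flags

/-!
For a line through a vector `x`, the hyperplanes through the line with an orbit of odd size under the stabiliser of
`x` and of the line cut out a subspace `D` off which that stabiliser is transitive.
-/

set_option linter.style.haveILetI false

namespace CfsgLib.SingerOver

open MulAction Module

variable {V : Type*} [AddCommGroup V] [Module F2 V] {G : Subgroup (V ≃ₗ[F2] V)}

/-- Stabiliser of `x` and of the line through `x` and `y`. -/
def lineStab (G : Subgroup (V ≃ₗ[F2] V)) (x y : V) : Subgroup (V ≃ₗ[F2] V) where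
  carrier := {g | g ∈ pt G x ∧ (g y = y ∨ g y = x + y)}
  one_mem' := ⟨one_mem _, Or.inl rfl⟩
  mul_mem' := by
    rintro a b ⟨ha, ha'⟩ ⟨hb, hb'⟩
    refine ⟨mul_mem ha hb, ?_⟩
    simp only [LinearEquiv.mul_apply]
    have hax : a x = x := ha.2
    rcases hb' with h | h <;> rcases ha' with h' | h' <;>
      simp [h, h', map_add, hax, ← add_assoc, add_self_f2]
  inv_mem' := by
    rintro a ⟨ha, ha'⟩
    refine ⟨inv_mem ha, ?_⟩
    have hax : a⁻¹ x = x := (inv_mem ha).2
    rcases ha' with h | h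
    · left
      conv_lhs => rw [← h]
      exact a.symm_apply_apply y
    · right
      have h1 : y = a⁻¹ (x + y) := by
        rw [← h]
        exact (a.symm_apply_apply y).symm
      rw [map_add, hax] at h1
      exact eq_add_of_add_eq h1.symm

theorem mem_lineStab {g : V ≃ₗ[F2] V} {x y : V} :
    g ∈ lineStab G x y ↔ (g ∈ G ∧ g x = x) ∧ (g y = y ∨ g y = x + y) := Iff.rfl

theorem lineStab_le (x y : V) : lineStab G x y ≤ pt G x := fun _ h => h.1

theorem inf_le_lineStab (x y : V) : pt G x ⊓ pt G y ≤ lineStab G x y :=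
  fun _ h => ⟨h.1, Or.inl h.2.2⟩

theorem lineStab_add (x y : V) : lineStab G x (x + y) = lineStab G x y := by
  ext g
  simp only [mem_lineStab]
  constructor <;> rintro ⟨h, h'⟩ <;> refine ⟨h, ?_⟩
  · rw [map_add, h.2] at h'
    rcases h' with h' | h'
    · exact Or.inl (add_left_cancel h')
    · rw [← add_assoc, add_self_f2, zero_add] at h'
      exact Or.inr (eq_add_of_add_eq h')
  · rcases h' with h' | h'
    · exact Or.inl (by rw [map_add, h.2, h'])
    · exact Or.inr (by rw [map_add, h.2, h'])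

/-- A functional killing the line with an orbit of odd size under the stabiliser of the line and `x`. -/
def Special (G : Subgroup (V ≃ₗ[F2] V)) (x y : V) (f : Dual F2 V) : Prop :=
  f ≠ 0 ∧ f x = 0 ∧ f y = 0 ∧ Odd (Nat.card (orbit (lineStab G x y) f))

/-- The subspace cut out by the special functionals of a line. -/
noncomputable def dee (G : Subgroup (V ≃ₗ[F2] V)) (x y : V) : Submodule F2 V :=
  ⨅ f ∈ {f | Special G x y f}, LinearMap.ker f

theorem mem_dee {x y v : V} : v ∈ dee G x y ↔ ∀ f, Special G x y f → f v = 0 := by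
  simp [dee, Submodule.mem_iInf, LinearMap.mem_ker]

theorem notMem_dee {x y v : V} : v ∉ dee G x y ↔ ∃ f, Special G x y f ∧ f v = 1 := by
  rw [mem_dee]
  push Not
  exact ⟨fun ⟨f, hf, hv⟩ => ⟨f, hf, f2_eq_one hv⟩, fun ⟨f, hf, hv⟩ => ⟨f, hf, by rw [hv]; exact one_ne_zero⟩⟩

theorem left_mem_dee (x y : V) : x ∈ dee G x y := mem_dee.2 fun _ h => h.2.1

theorem right_mem_dee (x y : V) : y ∈ dee G x y := mem_dee.2 fun _ h => h.2.2.1

theorem special_add (x y : V) (f : Dual F2 V) : Special G x (x + y) f ↔ Special G x y f := by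
  rw [Special, Special, lineStab_add]
  constructor <;> rintro ⟨h0, h1, h2, h3⟩ <;> refine ⟨h0, h1, ?_, h3⟩
  · rwa [map_add, h1, zero_add] at h2
  · rw [map_add, h1, h2, add_zero]

theorem dee_add (x y : V) : dee G x (x + y) = dee G x y := by
  ext v
  simp [mem_dee, special_add]

section Equivariance

variable {g : V ≃ₗ[F2] V} (hg : g ∈ G)

include hg

theorem lineStab_conj {x y : V} {h : V ≃ₗ[F2] V} :
    h ∈ lineStab G x y ↔ g * h * g⁻¹ ∈ lineStab G (g x) (g y) := by
  have e : ∀ v, (g * h * g⁻¹) (g v) = g (h v) := fun v => by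
    simp only [LinearEquiv.mul_apply]
    exact congrArg (fun w => g (h w)) (g.symm_apply_apply v)
  simp only [mem_lineStab, e, ← map_add, g.injective.eq_iff]
  constructor
  · rintro ⟨⟨h1, h2⟩, h3⟩
    exact ⟨⟨mul_mem (mul_mem hg h1) (inv_mem hg), h2⟩, h3⟩
  · rintro ⟨⟨h1, h2⟩, h3⟩
    refine ⟨⟨?_, h2⟩, h3⟩
    have := mul_mem (mul_mem (inv_mem hg) h1) hg
    simpa [mul_assoc] using this

theorem orbit_lineStab_map (x y : V) (f : Dual F2 V) :
    orbit (lineStab G (g x) (g y)) (g • f) = (fun u => g • u) '' orbit (lineStab G x y) f := by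
  ext u
  constructor
  · rintro ⟨k, rfl⟩
    refine ⟨(g⁻¹ * (k : V ≃ₗ[F2] V) * g) • f, ⟨⟨g⁻¹ * (k : V ≃ₗ[F2] V) * g, ?_⟩, rfl⟩, ?_⟩
    · rw [lineStab_conj hg]
      simp [mul_assoc]
    · show g • (g⁻¹ * (k : V ≃ₗ[F2] V) * g) • f = (k : V ≃ₗ[F2] V) • g • f
      rw [smul_smul, smul_smul]
      simp [mul_assoc]
  · rintro ⟨u, ⟨k, rfl⟩, rfl⟩
    refine ⟨⟨g * (k : V ≃ₗ[F2] V) * g⁻¹, (lineStab_conj hg).1 k.2⟩, ?_⟩
    show (g * (k : V ≃ₗ[F2] V) * g⁻¹) • g • f = g • (k : V ≃ₗ[F2] V) • f
    rw [smul_smul, smul_smul]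
    simp [mul_assoc]

theorem special_map {x y : V} {f : Dual F2 V} : Special G (g x) (g y) (g • f) ↔ Special G x y f := by
  have h0 : g • f ≠ 0 ↔ f ≠ 0 := by
    constructor
    · rintro h rfl
      exact h (by ext v; rfl)
    · intro h h'
      apply h
      ext v
      rw [← smul_f_apply_map g f v, h']
      rfl
  rw [Special, Special, h0, smul_f_apply_map, smul_f_apply_map, orbit_lineStab_map hg,
    Nat.card_image_of_injective (MulAction.injective g)]

theorem dee_map {x y v : V} : g v ∈ dee G (g x) (g y) ↔ v ∈ dee G x y := by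
  rw [mem_dee, mem_dee]
  constructor
  · intro h f hf
    rw [← smul_f_apply_map g f v]
    exact h _ ((special_map hg).2 hf)
  · intro h f hf
    have hff : g • g⁻¹ • f = f := smul_inv_smul g f
    rw [← hff] at hf ⊢
    rw [smul_f_apply_map]
    exact h _ ((special_map hg).1 hf)

theorem dee_map_submodule (x y : V) : dee G (g x) (g y) = (dee G x y).map (g : V →ₗ[F2] V) := by
  ext v
  constructor
  · intro hv
    refine ⟨g⁻¹ v, ?_, g.apply_symm_apply v⟩
    refine (dee_map hg).1 ?_
    rwa [show g (g⁻¹ v) = v from g.apply_symm_apply v]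
  · rintro ⟨w, hw, rfl⟩
    exact (dee_map hg).2 hw

theorem finrank_dee_map (x y : V) : finrank F2 (dee G (g x) (g y)) = finrank F2 (dee G x y) := by
  rw [dee_map_submodule hg]
  exact LinearEquiv.finrank_map_eq g _

end Equivariance

theorem dee_stab {x y v : V} {g : V ≃ₗ[F2] V} (hg : g ∈ lineStab G x y) :
    g v ∈ dee G x y ↔ v ∈ dee G x y := by
  have h := dee_map (G := G) hg.1.1 (x := x) (y := y) (v := v)
  rw [show g x = x from hg.1.2] at h
  rcases hg.2 with h' | h' <;> rw [h'] at h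
  · exact h
  · rwa [dee_add] at h

variable [Finite V]

omit [Finite V] in
theorem odd_index_of_le {A B : Subgroup (V ≃ₗ[F2] V)} (_hAB : A ≤ B) (h : Odd (A.subgroupOf B).index)
    {C : Subgroup (V ≃ₗ[F2] V)} (hAC : A ≤ C) (hCB : C ≤ B) :
    Odd (A.subgroupOf C).index ∧ Odd (C.subgroupOf B).index := by
  have := Subgroup.relIndex_mul_relIndex A C B hAC hCB
  change A.relIndex C * C.relIndex B = A.relIndex B at this
  change Odd (A.relIndex B) at h
  rw [← this] at h
  exact Nat.odd_mul.1 h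

variable (hG : Setup G) (hn : 3 ≤ finrank F2 V)

include hG hn

omit hn in
theorem index_inf_pt {x y : V} (hx : x ≠ 0) (hy : y ≠ 0) (hxy : x ≠ y) :
    (pt G x ⊓ pt G y).relIndex (pt G x) = 2 ^ finrank F2 V - 2 := by
  classical
  haveI : Fintype V := Fintype.ofFinite V
  have hst : (pt G x ⊓ pt G y).subgroupOf (pt G x) = stabilizer (pt G x) y := by
    ext g
    simp only [Subgroup.mem_subgroupOf, Subgroup.mem_inf, mem_pt, mem_stabilizer_iff]
    exact ⟨fun h => h.2.2, fun h => ⟨g.2, g.2.1, h⟩⟩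
  rw [Subgroup.relIndex, hst, index_stabilizer]
  have : orbit (pt G x) y = ({0, x}ᶜ : Set V) := by
    ext w
    simp only [Set.mem_compl_iff, Set.mem_insert_iff, Set.mem_singleton_iff]
    push Not
    constructor
    · rintro ⟨g, rfl⟩
      refine ⟨(LinearEquiv.map_ne_zero_iff (g : V ≃ₗ[F2] V)).2 hy, fun h => hxy ?_⟩
      exact ((g : V ≃ₗ[F2] V).injective (g.2.2.trans h.symm))
    · rintro ⟨hw, hwx⟩
      obtain ⟨g, hg, h1, h2⟩ := hG.two x y x w hx hy hxy hx hw (Ne.symm hwx)
      exact ⟨⟨g, hg, h1⟩, h2⟩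
  rw [this, Set.ncard_compl, Set.ncard_pair (Ne.symm hx),
    natCard_eq_pow_finrank (K := F2) (V := V), Nat.card_zmod]

omit [Finite V] hn in
theorem relIndex_two {x y : V} (hx : x ≠ 0) (hy : y ≠ 0) (hxy : x ≠ y) :
    (pt G x ⊓ pt G y).relIndex (lineStab G x y) = 2 := by
  classical
  obtain ⟨g, hg, h1, h2⟩ := hG.two x y x (x + y) hx hy hxy hx (add_ne_zero_of_ne hxy) (fun h => by
    rw [eq_comm, add_eq_left] at h; exact hy h)
  have hst : (pt G x ⊓ pt G y).subgroupOf (lineStab G x y) = stabilizer (lineStab G x y) y := by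
    ext k
    simp only [Subgroup.mem_subgroupOf, Subgroup.mem_inf, mem_pt, mem_stabilizer_iff]
    exact ⟨fun h => h.2.2, fun h => ⟨k.2.1, k.2.1.1, h⟩⟩
  rw [Subgroup.relIndex, hst, index_stabilizer]
  have : orbit (lineStab G x y) y = ({y, x + y} : Set V) := by
    ext w
    simp only [Set.mem_insert_iff, Set.mem_singleton_iff]
    constructor
    · rintro ⟨k, rfl⟩
      exact k.2.2
    · rintro (rfl | rfl)
      · exact mem_orbit_self _
      · exact ⟨⟨g, ⟨hg, h1⟩, Or.inr h2⟩, h2⟩
  rw [this, Set.ncard_pair (fun h => hx (by rwa [eq_comm, add_eq_right] at h))]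

theorem odd_index_lineStab {x y : V} (hx : x ≠ 0) (hy : y ≠ 0) (hxy : x ≠ y) :
    Odd ((lineStab G x y).subgroupOf (pt G x)).index := by
  have h := Subgroup.relIndex_mul_relIndex _ _ _ (inf_le_lineStab (G := G) x y) (lineStab_le x y)
  rw [index_inf_pt hG hx hy hxy, relIndex_two hG hx hy hxy] at h
  change Odd ((lineStab G x y).relIndex (pt G x))
  obtain ⟨m, hm⟩ : ∃ m, finrank F2 V = m + 1 := ⟨finrank F2 V - 1, by omega⟩
  rw [hm, pow_succ] at h
  have h1 := odd_two_pow_sub_one (show 1 ≤ m by omega)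
  have : (lineStab G x y).relIndex (pt G x) = 2 ^ m - 1 := by omega
  rwa [this]

omit hG in
/-- Some hyperplane through the line has an orbit of odd size. -/
theorem exists_special {x y : V} (hx : x ≠ 0) (hy : y ≠ 0) (hxy : x ≠ y) : ∃ f, Special G x y f := by
  classical
  haveI : Finite (V ≃ₗ[F2] V) := finite_equiv
  haveI : Finite (Dual F2 V) := Module.finite_of_finite F2
  haveI : Fact (Nat.Prime 2) := ⟨Nat.prime_two⟩
  set L : Submodule F2 V := Submodule.span F2 {x, y} with hL
  have hfr : finrank F2 L ≤ 2 := by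
    refine le_trans (finrank_span_le_card _) ?_
    simp only [Set.toFinset_insert, Set.toFinset_singleton]
    exact Finset.card_le_two
  set A : Submodule F2 (Dual F2 V) := L.dualAnnihilator with hA
  have hmem : ∀ f : Dual F2 V, f ∈ A ↔ f x = 0 ∧ f y = 0 := by
    intro f
    rw [hA, Submodule.mem_dualAnnihilator]
    constructor
    · intro h
      exact ⟨h _ (Submodule.subset_span (Set.mem_insert _ _)),
        h _ (Submodule.subset_span (Set.mem_insert_of_mem _ rfl))⟩
    · rintro ⟨h1, h2⟩ v hv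
      have : L ≤ LinearMap.ker f := Submodule.span_le.2 (by
        rintro w (rfl | rfl) <;> simpa using ‹_›)
      exact LinearMap.mem_ker.1 (this hv)
  have hAf : 1 ≤ finrank F2 A := by
    have := Subspace.finrank_add_finrank_dualAnnihilator_eq L
    rw [← hA] at this
    omega
  obtain ⟨P⟩ : Nonempty (Sylow 2 (lineStab G x y)) := inferInstance
  -- the two-group acts on the non-zero members of `A`
  let X : SubMulAction P (Dual F2 V) :=
    { carrier := {f | f ≠ 0 ∧ f ∈ A}
      smul_mem' := by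
        rintro g f ⟨hf, hfA⟩
        have hg : ((g : lineStab G x y) : V ≃ₗ[F2] V) ∈ lineStab G x y := (g : lineStab G x y).2
        set u : V ≃ₗ[F2] V := ((g : lineStab G x y) : V ≃ₗ[F2] V) with hu
        rw [hmem] at hfA
        refine ⟨fun h => hf ?_, (hmem _).2 ⟨?_, ?_⟩⟩
        · ext v
          rw [← smul_f_apply_map u f v]
          exact LinearMap.congr_fun h _
        · show (u • f) x = 0
          rw [show x = u x from hg.1.2.symm, smul_f_apply_map, hfA.1]
        · show (u • f) y = 0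
          have hinv := (inv_mem hg : u⁻¹ ∈ lineStab G x y).2
          rw [dual_smul_apply]
          rcases hinv with h | h
          · rw [h]; exact hfA.2
          · rw [h, map_add, hfA.1, hfA.2, add_zero] }
  have hX : ¬ 2 ∣ Nat.card X := by
    haveI : Fintype A := Fintype.ofFinite A
    have e : X ≃ {a : A // a ≠ 0} :=
      { toFun := fun f => ⟨⟨f.1, f.2.2⟩, fun h => f.2.1 (congrArg Subtype.val h)⟩
        invFun := fun a => ⟨a.1.1, fun h => a.2 (Subtype.ext h), a.1.2⟩
        left_inv := fun _ => rfl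
        right_inv := fun _ => rfl }
    rw [Nat.card_congr e, Nat.card_eq_fintype_card, Fintype.card_subtype_compl, Fintype.card_subtype_eq,
      ← Nat.card_eq_fintype_card, natCard_eq_pow_finrank (K := F2) (V := A), Nat.card_zmod,
      ← even_iff_two_dvd, Nat.not_even_iff_odd]
    exact odd_two_pow_sub_one hAf
  obtain ⟨f, hf⟩ := IsPGroup.nonempty_fixed_point_of_prime_not_dvd_card P.2 X hX
  obtain ⟨hf0, hfA⟩ := f.2
  rw [hmem] at hfA
  refine ⟨f.1, hf0, hfA.1, hfA.2, ?_⟩
  rw [Nat.card_coe_set_eq, ← index_stabilizer]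
  have hle : (P : Subgroup (lineStab G x y)) ≤ stabilizer (lineStab G x y) f.1 := fun g hg =>
    congrArg Subtype.val (hf ⟨g, hg⟩)
  have h1 := Subgroup.index_dvd_of_le hle
  have h2 : ¬ 2 ∣ (P : Subgroup (lineStab G x y)).index := P.not_dvd_index
  rw [← Nat.not_even_iff_odd, even_iff_two_dvd]
  exact fun h => h2 (h.trans h1)

/-- The stabiliser of the line is transitive off the hyperplane of a special functional. -/
theorem special_trans {x y : V} (hx : x ≠ 0) (hy : y ≠ 0) (hxy : x ≠ y) {f : Dual F2 V} (hf : Special G x y f)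
    {z z' : V} (hz : f z = 1) (hz' : f z' = 1) : ∃ g ∈ lineStab G x y, g z = z' := by
  haveI : Finite (V ≃ₗ[F2] V) := finite_equiv
  set A := lineStab G x y ⊓ fn G f with hA
  set F0 := pt G x ⊓ fn G f with hF0
  have h1 : Odd (A.relIndex (lineStab G x y)) := by
    have hst : A.subgroupOf (lineStab G x y) = stabilizer (lineStab G x y) f := by
      ext g
      simp only [hA, Subgroup.mem_subgroupOf, Subgroup.mem_inf, mem_fn, mem_stabilizer_iff]
      exact ⟨fun h => h.2.2, fun h => ⟨g.2, g.2.1.1, h⟩⟩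
    rw [Subgroup.relIndex, hst, index_stabilizer]
    exact hf.2.2.2
  have h2 : Odd (A.relIndex (pt G x)) := by
    rw [← Subgroup.relIndex_mul_relIndex A (lineStab G x y) (pt G x) inf_le_left (lineStab_le x y)]
    exact Nat.odd_mul.2 ⟨h1, odd_index_lineStab hG hn hx hy hxy⟩
  have hAF : A ≤ F0 := le_inf (inf_le_left.trans (lineStab_le x y)) inf_le_right
  have h3 := (odd_index_of_le (hAF.trans inf_le_left) h2 hAF inf_le_left).1
  obtain ⟨g, hg, hgz⟩ := hG.flag_out (by omega) hx hf.1 hf.2.1 hz hz'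
  have horb : orbit F0 z ⊆ {w | f w = 1} := by
    rintro w ⟨k, rfl⟩
    show f ((k : V ≃ₗ[F2] V) z) = 1
    rw [apply_map_of_fixed k.2.2.2, hz]
  have horb' : orbit F0 z = {w | f w = 1} := by
    refine Set.Subset.antisymm horb fun w hw => ?_
    obtain ⟨k, hk, hkz⟩ := hG.flag_out (by omega) hx hf.1 hf.2.1 hz hw
    exact ⟨⟨k, hk⟩, hkz⟩
  obtain ⟨k, hk, hkz⟩ := exists_smul_of_coprime_index (A.subgroupOf F0) (a := z) (b := z')
    ⟨⟨g, hg⟩, hgz⟩ (by
      rw [horb']
      show Nat.Coprime (Nat.card {w : V // f w = 1}) _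
      rw [Setup.card_level f hf.1]
      exact Nat.Coprime.pow_left _ (Nat.coprime_two_left.2 h3))
  exact ⟨(k : V ≃ₗ[F2] V), (Subgroup.mem_subgroupOf.1 hk).1, hkz⟩

/-- The stabiliser of the line is transitive off `dee`. -/
theorem out_trans {x y : V} (hx : x ≠ 0) (hy : y ≠ 0) (hxy : x ≠ y) {z z' : V} (hz : z ∉ dee G x y)
    (hz' : z' ∉ dee G x y) : ∃ g ∈ lineStab G x y, g z = z' := by
  obtain ⟨f, hf, hfz⟩ := notMem_dee.1 hz
  obtain ⟨f', hf', hfz'⟩ := notMem_dee.1 hz'
  obtain ⟨w, hw, hw'⟩ := exists_both_one hf.1 hf'.1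
  obtain ⟨g, hg, hgz⟩ := special_trans hG hn hx hy hxy hf hfz hw
  obtain ⟨k, hk, hkz⟩ := special_trans hG hn hx hy hxy hf' hw' hfz'
  exact ⟨k * g, mul_mem hk hg, by rw [LinearEquiv.mul_apply, hgz, hkz]⟩

omit hG in
theorem dee_ne_top {x y : V} (hx : x ≠ 0) (hy : y ≠ 0) (hxy : x ≠ y) : dee G x y ≠ ⊤ := by
  obtain ⟨f, hf⟩ := exists_special hn hx hy hxy
  intro h
  apply hf.1
  ext v
  exact mem_dee.1 (by rw [h]; trivial) f hf

end CfsgLib.SingerOver
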