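import Cfsg.Agent.Lib.SingerOver.Commutant
import Cfsg.Agent.Lib.SingerOver.Fixed

/-!
Normal subgroups of a doubly transitive linear group over two elements: none is abelian, each is transitive,
and each has non-trivial vector stabilisers.
-/

set_option linter.style.haveILetI false

namespace CfsgLib.SingerOver

open MulAction Module
open scoped commutatorElement

variable {V : Type*} [AddCommGroup V] [Module F2 V] [Finite V] {G : Subgroup (V ≃ₗ[F2] V)}
  (hG : Setup G) (A : Subgroup (V ≃ₗ[F2] V)) (hnorm : ∀ g ∈ G, ∀ a ∈ A, g * a * g⁻¹ ∈ A)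

include hG hnorm

omit [Finite V] in
theorem normal_trans (hA : A ≠ ⊥) {v w : V} (hv : v ≠ 0) (hw : w ≠ 0) : ∃ a ∈ A, a v = w := by
  obtain ⟨a, ha, ha1⟩ := (Subgroup.bot_or_exists_ne_one A).resolve_left hA
  obtain ⟨x, hx⟩ : ∃ x, a x ≠ x := by
    by_contra h
    push Not at h
    exact ha1 (LinearEquiv.ext h)
  have hx0 : x ≠ 0 := fun h => hx (by rw [h, map_zero])
  by_cases hvw : v = w
  · exact ⟨1, one_mem _, hvw⟩
  obtain ⟨g, hg, h1, h2⟩ := hG.two x (a x) v w hx0 ((LinearEquiv.map_ne_zero_iff a).2 hx0) (Ne.symm hx) hv hw hvw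
  refine ⟨g * a * g⁻¹, hnorm g hg a ha, ?_⟩
  rw [← h1, LinearEquiv.mul_apply, LinearEquiv.mul_apply, show g⁻¹ (g x) = x from g.symm_apply_apply x, h2]

variable (hn : 3 ≤ finrank F2 V)

include hn

/-- There is no abelian normal subgroup. -/
theorem eq_bot_of_comm (hcomm : ∀ a ∈ A, ∀ b ∈ A, a * b = b * a) : A = ⊥ := by
  classical
  haveI : Module.Finite F2 V := Module.Finite.of_finite
  haveI : Finite (V ≃ₗ[F2] V) := finite_equiv
  haveI : Nontrivial V := Module.nontrivial_of_finrank_pos (R := F2) (by omega)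
  haveI := Fintype.ofFinite V
  by_contra hA
  have hirr : IrredComm (A : Set (V ≃ₗ[F2] V)) :=
    ⟨hcomm, fun W hW => by
      rcases eq_bot_or_bot_lt W with h | h
      · exact Or.inl h
      · obtain ⟨v, hv, hv0⟩ := W.ne_bot_iff.1 (ne_of_gt h)
        refine Or.inr (eq_top_iff.2 fun w _ => ?_)
        rcases eq_or_ne w 0 with rfl | hw
        · exact zero_mem _
        obtain ⟨a, ha, haw⟩ := normal_trans hG A hnorm hA hv0 hw
        rw [← haw]
        exact hW a ha v hv⟩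
  obtain ⟨x, hx⟩ := exists_ne (0 : V)
  set Y : Finset V := Finset.univ \ {0, x}
  have hYc : Y.card = 2 ^ finrank F2 V - 2 := by
    rw [Finset.card_univ_sdiff, Finset.card_pair (Ne.symm hx), ← Nat.card_eq_fintype_card,
      natCard_eq_pow_finrank (K := F2) (V := V), Nat.card_zmod]
  have h8 : ∀ n, 3 ≤ n → n < 2 ^ n - 2 := by
    intro n hn
    induction n, hn using Nat.le_induction with
    | base => norm_num
    | succ n _ ih => rw [pow_succ]; omega
  obtain ⟨w, hw⟩ : Y.Nonempty := by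
    rw [← Finset.card_pos, hYc]; have := h8 _ hn; omega
  simp only [Y, Finset.mem_sdiff, Finset.mem_univ, true_and, Finset.mem_insert, Finset.mem_singleton, not_or] at hw
  obtain ⟨a, ha, haw⟩ := normal_trans hG A hnorm hA hx hw.1
  have hconj : ∀ u : Y, ∃ g : V ≃ₗ[F2] V, g ∈ G ∧ g x = x ∧ g w = u.1 := fun u => by
    have hu := u.2
    simp only [Y, Finset.mem_sdiff, Finset.mem_univ, true_and, Finset.mem_insert, Finset.mem_singleton, not_or] at hu
    exact hG.two x w x u.1 hx hw.1 (Ne.symm hw.2) hx hu.1 (Ne.symm hu.2)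
  choose g hg hgx hgw using hconj
  have happly : ∀ u : Y, (g u * a * (g u)⁻¹) x = u.1 := fun u => by
    rw [LinearEquiv.mul_apply, LinearEquiv.mul_apply]
    conv_lhs => arg 2; arg 2; arg 2; rw [← hgx u]
    rw [show (g u)⁻¹ (g u x) = x from (g u).symm_apply_apply x, haw, hgw]
  have hle := hirr.card_conj_le ha (Finset.univ.image fun u : Y => g u * a * (g u)⁻¹) fun b hb => by
    obtain ⟨u, -, rfl⟩ := Finset.mem_image.1 hb
    exact ⟨g u, rfl, fun c hc => hcomm _ (hnorm _ (hg u) a ha) c hc⟩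
  rw [Finset.card_image_of_injective _ fun u v huv => Subtype.ext (by rw [← happly u, huv, happly v]),
    Finset.card_univ, Fintype.card_coe, hYc] at hle
  have := h8 _ hn
  omega

/-- A non-trivial normal subgroup has non-trivial stabilisers. -/
theorem stab_nontrivial (hAG : A ≤ G) (hA : A ≠ ⊥) {x : V} (hx : x ≠ 0) : ∃ a ∈ A, a ≠ 1 ∧ a x = x := by
  haveI : Finite (V ≃ₗ[F2] V) := finite_equiv
  by_contra hcon
  push Not at hcon
  have hfree : ∀ a ∈ A, ∀ v, v ≠ 0 → a v = v → a = 1 := by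
    intro a ha v hv hav
    by_contra ha1
    obtain ⟨h, hh, hhv⟩ : ∃ h ∈ G, h v = x := by
      obtain ⟨h, hh, hhv⟩ := normal_trans hG A hnorm hA hv hx
      exact ⟨h, hAG hh, hhv⟩
    refine hcon (h * a * h⁻¹) (hnorm h hh a ha) (fun h1 => ha1 ?_) ?_
    · exact conj_eq_one_iff.1 h1
    · rw [LinearEquiv.mul_apply, LinearEquiv.mul_apply, ← hhv, show h⁻¹ (h v) = v from h.symm_apply_apply v, hav]
  have hinj : ∀ a ∈ A, ∀ b ∈ A, ∀ v, v ≠ 0 → a v = b v → a = b := by
    intro a ha b hb v hv hab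
    refine inv_mul_eq_one.1 (hfree _ (mul_mem (inv_mem ha) hb) v hv ?_)
    rw [LinearEquiv.mul_apply, ← hab]
    exact a.symm_apply_apply v
  have hconj : ∀ a ∈ A, a ≠ 1 → ∀ b ∈ A, b ≠ 1 → ∃ g ∈ G, g * a * g⁻¹ = b := by
    intro a ha ha1 b hb hb1
    have h1 : a x ≠ x := fun h => ha1 (hfree a ha x hx h)
    have h2 : b x ≠ x := fun h => hb1 (hfree b hb x hx h)
    obtain ⟨g, hg, hgx, hgb⟩ := hG.two x (a x) x (b x) hx ((LinearEquiv.map_ne_zero_iff a).2 hx) (Ne.symm h1) hx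
      ((LinearEquiv.map_ne_zero_iff b).2 hx) (Ne.symm h2)
    refine ⟨g, hg, hinj _ (hnorm g hg a ha) b hb x hx ?_⟩
    rw [LinearEquiv.mul_apply, LinearEquiv.mul_apply]
    conv_lhs => arg 2; arg 2; arg 2; rw [← hgx]
    rw [show g⁻¹ (g x) = x from g.symm_apply_apply x, hgb]
  haveI : Nontrivial A := (Subgroup.nontrivial_iff_ne_bot A).2 hA
  obtain ⟨p, hp, hpd⟩ := Nat.exists_prime_and_dvd (Finite.one_lt_card (α := A)).ne'
  haveI : Fact p.Prime := ⟨hp⟩
  obtain ⟨a, ha⟩ := exists_prime_orderOf_dvd_card' p hpd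
  have ha1 : (a : V ≃ₗ[F2] V) ≠ 1 := fun h => hp.one_lt.ne' (by rw [← ha, ← Subgroup.orderOf_coe, h, orderOf_one])
  have hpg : IsPGroup p A := fun b => by
    by_cases hb : (b : V ≃ₗ[F2] V) = 1
    · exact ⟨0, Subtype.ext (by simpa using hb)⟩
    · obtain ⟨g, hg, hgb⟩ := hconj a a.2 ha1 b b.2 hb
      refine ⟨1, Subtype.ext ?_⟩
      rw [SubmonoidClass.coe_pow, pow_one, ← hgb, conj_pow, OneMemClass.coe_one]
      have : (a : V ≃ₗ[F2] V) ^ p = 1 := by rw [← ha, ← Subgroup.orderOf_coe, pow_orderOf_eq_one]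
      rw [this, mul_one, mul_inv_cancel]
  haveI := hpg.center_nontrivial
  set Z : Subgroup (V ≃ₗ[F2] V) := (Subgroup.center A).map A.subtype with hZ
  have hmemZ : ∀ z, z ∈ Z ↔ z ∈ A ∧ ∀ b ∈ A, b * z = z * b := by
    intro z
    constructor
    · rintro ⟨c, hc, rfl⟩
      exact ⟨c.2, fun b hb => congrArg Subtype.val (Subgroup.mem_center_iff.1 hc ⟨b, hb⟩)⟩
    · rintro ⟨hz, h⟩
      exact ⟨⟨z, hz⟩, Subgroup.mem_center_iff.2 fun b => Subtype.ext (h b.1 b.2), rfl⟩
  have hbot := eq_bot_of_comm hG Z (fun g hg z hz => by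
    rw [hmemZ] at hz ⊢
    refine ⟨hnorm g hg z hz.1, fun b hb => ?_⟩
    have hb' := hnorm g⁻¹ (inv_mem hg) b hb
    rw [inv_inv] at hb'
    calc b * (g * z * g⁻¹) = g * ((g⁻¹ * b * g) * z) * g⁻¹ := by group
      _ = g * (z * (g⁻¹ * b * g)) * g⁻¹ := by rw [hz.2 _ hb']
      _ = g * z * g⁻¹ * b := by group) hn fun a ha b hb => ((hmemZ a).1 ha).2 b ((hmemZ b).1 hb).1 |>.symm
  rw [hZ, Subgroup.map_eq_bot_iff_of_injective _ A.subtype_injective] at hbot
  exact (Subgroup.nontrivial_iff_ne_bot _).1 ‹_› hbot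

omit A hnorm in
/-- The second derived group is non-trivial. -/
theorem derived_two_ne_bot : ⁅⁅G, G⁆, ⁅G, G⁆⁆ ≠ ⊥ := by
  intro h
  have hc : ∀ H : Subgroup (V ≃ₗ[F2] V), ⁅H, H⁆ = ⊥ → ∀ a ∈ H, ∀ b ∈ H, a * b = b * a := fun H hH a ha b hb => by
    have := Subgroup.commutator_mem_commutator ha hb
    rw [hH, Subgroup.mem_bot, commutatorElement_eq_one_iff_mul_comm] at this
    exact this
  have hnormD : ∀ g ∈ G, ∀ a ∈ ⁅G, G⁆, g * a * g⁻¹ ∈ ⁅G, G⁆ := fun g hg a ha => by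
    have hle : ⁅G, G⁆ ≤ Subgroup.comap (MulAut.conj g).toMonoidHom ⁅G, G⁆ := by
      rw [Subgroup.commutator_le]
      intro u hu v hv
      show MulAut.conj g ⁅u, v⁆ ∈ ⁅G, G⁆
      rw [map_commutatorElement]
      exact Subgroup.commutator_mem_commutator (mul_mem (mul_mem hg hu) (inv_mem hg))
        (mul_mem (mul_mem hg hv) (inv_mem hg))
    exact hle ha
  have h1 := eq_bot_of_comm hG _ hnormD hn (hc _ h)
  have h2 := eq_bot_of_comm hG G (fun g hg a ha => mul_mem (mul_mem hg ha) (inv_mem hg)) hn (hc _ h1)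
  haveI : Module.Finite F2 V := Module.Finite.of_finite
  haveI : Nontrivial V := Module.nontrivial_of_finrank_pos (R := F2) (by omega)
  haveI := Fintype.ofFinite V
  classical
  obtain ⟨x, hx⟩ := exists_ne (0 : V)
  obtain ⟨w, hw⟩ : ∃ w, w ∉ ({0, x} : Finset V) := by
    by_contra h
    push Not at h
    have h3 := Finset.card_le_card (fun v _ => h v : (Finset.univ : Finset V) ⊆ {0, x})
    rw [Finset.card_univ, ← Nat.card_eq_fintype_card, natCard_eq_pow_finrank (K := F2) (V := V), Nat.card_zmod,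
      Finset.card_pair (Ne.symm hx)] at h3
    have : 2 ^ 3 ≤ 2 ^ finrank F2 V := Nat.pow_le_pow_right two_pos hn
    omega
  simp only [Finset.mem_insert, Finset.mem_singleton, not_or] at hw
  obtain ⟨g, hg, hgx, -⟩ := hG.two x w w x hx hw.1 (Ne.symm hw.2) hw.1 hx hw.2
  rw [h2, Subgroup.mem_bot] at hg
  exact hw.2 (by rw [← hgx, hg]; rfl)

end CfsgLib.SingerOver
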